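import Groth.Agent.NakaiLib.Apps
import Groth.Agent.AmpleLib.FinProd
import Groth.Agent.AmpleLib.ExtendMod
import Groth.Agent.AmpleEmb.Generated

/-!
# Strictly nef semiample modules are ample
-/

set_option autoImplicit false
set_option backward.isDefEq.respectTransparency false
set_option linter.style.haveILetI false

universe u

open CategoryTheory CategoryTheory.Limits AlgebraicGeometry TopologicalSpace Opposite
open Groth.Agent.PullbackMod Groth.Agent.DCohLib Groth.Agent.DevLib Groth.Agent.QCohLib
open Groth.Agent.HilbLib (HasChain)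
open Groth.Agent.IntLib (PicRing pairing dif inv' compMod)

noncomputable section

namespace Groth.Agent.Nakai

/-- Descend along a chain to a curve. -/
theorem exists_dim_one {X : Scheme.{u}} (k : Type u) [Field k] [X.Over (Spec (CommRingCat.of k))]
    [IsProper (X ↘ Spec (CommRingCat.of k))] :
    ∀ (e : ℕ) (ξ : X), 0 < e → topologicalKrullDim (closure {ξ} : Set X) = (e : WithBot ℕ∞) →
      ∃ ξ' ∈ closure ({ξ} : Set X), topologicalKrullDim (closure {ξ'} : Set X) = ((1 : ℕ) : WithBot ℕ∞)
  | 0, _, h, _ => absurd h (lt_irrefl 0)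
  | 1, ξ, _, h => ⟨ξ, subset_closure rfl, h⟩
  | e + 2, ξ, _, h => by
    have hch : HasChain (e + 2) (closure {ξ}) :=
      (HilbLib.not_dim_lt_iff isClosed_closure _).1 (by rw [h]; exact lt_irrefl _)
    obtain ⟨x, hξx, hne, hchx⟩ := hch.exists_below
    obtain ⟨t, -, ht⟩ := FlatDim.topologicalKrullDim_closure k (X ↘ Spec (CommRingCat.of k)) x
    have hlt : topologicalKrullDim (closure {x} : Set X) < ((e + 2 : ℕ) : WithBot ℕ∞) :=
      HilbLib.dim_lt_of_notMem isClosed_closure
        (closure_minimal (Set.singleton_subset_iff.2 (specializes_iff_mem_closure.1 hξx)) isClosed_closure)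
        (fun hm => hne (hξx.antisymm (specializes_iff_mem_closure.2 hm)).eq.symm)
        (by rw [h]; exact_mod_cast Nat.lt_succ_self _)
    have hge := (HilbLib.not_dim_lt_iff isClosed_closure (e + 1)).2 hchx
    rw [ht] at hlt hge
    have h1 : t < e + 2 := by exact_mod_cast hlt
    have h2 : e + 1 ≤ t := by exact_mod_cast not_lt.1 hge
    obtain rfl : t = e + 1 := by omega
    obtain ⟨ξ', hξ', h'⟩ := exists_dim_one k (e + 1) x (Nat.succ_pos e) ht
    exact ⟨ξ', closure_minimal (Set.singleton_subset_iff.2 (specializes_iff_mem_closure.1 hξx)) isClosed_closure hξ', h'⟩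

variable {X : Scheme.{u}} (k : Type u) [Field k] [X.Over (Spec (CommRingCat.of k))]
  [IsProper (X ↘ Spec (CommRingCat.of k))]

/-- Positive degree on every integral curve. -/
def StrictP {L : X.Modules} (hL : PicF.IsInvertible L) : Prop :=
  ∀ ξ : X, topologicalKrullDim (closure {ξ} : Set X) = ((1 : ℕ) : WithBot ℕ∞) → 0 < pairing k (compMod ξ) (cl hL)

theorem strictP_of_quotMod {L : X.Modules} (hL : PicF.IsInvertible L)
    (h : ∀ C : X.IdealSheafData, IsIntegral C.subscheme → topologicalKrullDim (C.support : Set X) = 1 →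
      0 < Curv2.euler k X (CohB1.tensorMod (ClSub.quotMod C) L) - Curv2.euler k X (ClSub.quotMod C)) :
    StrictP k hL := fun ξ hξ => by
  let J := Scheme.IdealSheafData.vanishingIdeal (⟨closure {ξ}, isClosed_closure⟩ : Closeds X)
  have h1 := h J (CurveLib.isIntegral_vanishingIdeal (X := X) isClosed_closure isIrreducible_singleton.closure)
    (by rw [Scheme.IdealSheafData.coe_support_vanishingIdeal]; exact hξ.trans Nat.cast_one)
  rw [← pairing_cl k _ hL] at h1
  exact h1

/-- A strictly nef module is positive on modules with a curve in their support. -/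
theorem StrictP.pos {L : X.Modules} {hL : PicF.IsInvertible L} (h : StrictP k hL) {F : X.Modules} (hF : Coh.IsCoh F)
    (hd : topologicalKrullDim (CohB1.support F) < ((1 + 1 : ℕ) : WithBot ℕ∞)) :
    0 ≤ pairing k F (cl hL) ∧ ∀ ξ ∈ CohB1.support F,
      topologicalKrullDim (closure {ξ} : Set X) = ((1 : ℕ) : WithBot ℕ∞) → 0 < pairing k F (cl hL) := by
  haveI := EulerIneqLib.isNoetherian_proper (X := X) k
  have hz : cl hL ∈ Aug X ^ 1 := by rw [pow_one]; exact cl_mem hL
  refine devissage (CohB1.support F) (fun N => 0 ≤ pairing k N (cl hL) ∧ ∀ ξ ∈ CohB1.support N,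
    topologicalKrullDim (closure {ξ} : Set X) = ((1 : ℕ) : WithBot ℕ∞) → 0 < pairing k N (cl hL)) ?_ ?_ ?_ ?_ F hF
    subset_rfl
  · rintro A B ⟨e⟩ ⟨h1, h2⟩
    rw [← IntLib.pairing_iso k e]
    exact ⟨h1, fun ξ hξ => h2 ξ fun hs => hξ ((HilbLib.stalkLin_bijective_of_iso e ξ).surjective.subsingleton)⟩
  · intro A hA
    exact ⟨(IntLib.pairing_isZero k hA _).ge, fun ξ hξ =>
      absurd hξ (by rw [HilbLib.support_eq_empty_of_isZero hA]; exact Set.notMem_empty ξ)⟩
  · rintro S hS h₁ h₂ h₃ - i₁ i₃
    rw [IntLib.pairing_shortExact k hS h₁ h₂ h₃]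
    refine ⟨add_nonneg i₁.1 i₃.1, fun ξ hξ hd1 => ?_⟩
    rw [support_X₂ hS] at hξ
    rcases hξ with hm | hm
    · linarith [i₁.2 ξ hm hd1, i₃.1]
    · linarith [i₁.1, i₃.2 ξ hm hd1]
  intro η _ hsub Q hQ _
  have hd' : topologicalKrullDim (closure {η} : Set X) < ((1 + 1 : ℕ) : WithBot ℕ∞) :=
    HilbLib.isClosed_closure_le hsub hd
  by_cases he : topologicalKrullDim (closure {η} : Set X) = ((1 : ℕ) : WithBot ℕ∞)
  · rw [pairing_piece k hQ (IntLib.isPiece_compMod η) hd' hz]
    exact ⟨(h η he).le, fun _ _ _ => h η he⟩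
  · have hlt : topologicalKrullDim (closure {η} : Set X) < ((1 : ℕ) : WithBot ℕ∞) :=
      lt_of_le_of_ne (IntLib.dim_le_of_lt hd') he
    refine ⟨(pairing_mem_eq_zero k hz hQ.coh (dim_supp_le hQ.supp hlt)).ge, fun ξ hξ hd1 => absurd ?_ (lt_irrefl ((1 : ℕ) : WithBot ℕ∞))⟩
    calc ((1 : ℕ) : WithBot ℕ∞) = topologicalKrullDim (closure {ξ} : Set X) := hd1.symm
      _ ≤ topologicalKrullDim (closure {η} : Set X) := (Topology.IsEmbedding.inclusion (closure_minimal
          (Set.singleton_subset_iff.2 (specializes_iff_mem_closure.1 (hQ.supp ξ hξ)))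
          isClosed_closure)).isInducing.topologicalKrullDim_le
      _ < _ := hlt

/-- A generated strictly nef module is ample. -/
theorem isAmple_of_generated_strict {L : X.Modules} {hL : PicF.IsInvertible L} (h : StrictP k hL) {N : ℕ} (hN : 0 < N)
    (hgen : ∀ x : X, ∃ σ : Coh.structureModule X ⟶ CohB1.tensorPow L N, x ∈ CohB1.genLocus _ σ) :
    CohB1.IsAmple L := by
  haveI := EulerIneqLib.isNoetherian_proper (X := X) k
  have hP := AmpleLib.isInvertible_tensorPow hL N
  refine (AmpleLib.isAmple_pow_iff hL hN).1 (GenMorph.isAmple_of_generated (X ↘ Spec (CommRingCat.of k))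
    hP hgen fun C hC hirr ⟨e⟩ => ?_)
  obtain ⟨ξ, hξ⟩ := QuasiSober.sober hirr hC
  obtain ⟨d, -, hd⟩ := FlatDim.topologicalKrullDim_closure k (X ↘ Spec (CommRingCat.of k)) ξ
  rcases Nat.eq_zero_or_pos d with rfl | hd0
  · rw [← hξ.def, CurveLib.closure_singleton_eq isClosed_closure (hd.le.trans (by simp)) (subset_closure rfl)]
    exact Set.subsingleton_singleton
  exfalso
  obtain ⟨ξ', hξ', hd1⟩ := exists_dim_one k d ξ hd0 hd
  let J := Scheme.IdealSheafData.vanishingIdeal (⟨C, hC⟩ : Closeds X)
  let i := J.subschemeι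
  letI : J.subscheme.Over (Spec (CommRingCat.of k)) := ⟨i ≫ (X ↘ Spec (CommRingCat.of k))⟩
  haveI : IsProper (J.subscheme ↘ Spec (CommRingCat.of k)) :=
    (inferInstanceAs (IsProper (J.subschemeι ≫ (X ↘ Spec (CommRingCat.of k)))))
  haveI := EulerIneqLib.isNoetherian_proper (X := J.subscheme) k
  obtain ⟨ζ, hζ⟩ : ξ' ∈ Set.range i := by
    rw [Scheme.IdealSheafData.range_subschemeι, Scheme.IdealSheafData.coe_support_vanishingIdeal]
    show ξ' ∈ C
    rwa [← hξ.def]
  have hPc := IntLib.isPiece_compMod ζ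
  have h0 : pairing k (compMod ζ) (pullRing i (cl hP)) = 0 := by
    rw [pullRing_cl, cl_congr _ ParaFLib.isInvertible_structureModule e.symm, cl,
      show inv' (ParaFLib.isInvertible_structureModule (X := J.subscheme)) = 1 from rfl, map_one, sub_self, map_zero]
  rw [← pairing_push k i rfl hPc.coh] at h0
  obtain ⟨F, hF⟩ : ∃ F, F = (Scheme.Modules.pushforward i).obj (compMod ζ) := ⟨_, rfl⟩
  have hFc : Coh.IsCoh F := hF ▸ DevLib.isCoh_pushforward_closed i hPc.coh
  have hFs : CohB1.support F ⊆ closure {ξ'} := by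
    subst hF hζ
    intro y hy
    obtain ⟨z, rfl⟩ := (IntLib.support_pushforward_subset i _ hy : y ∈ Set.range i)
    exact specializes_iff_mem_closure.1 ((hPc.supp z fun hs =>
      hy ((bijective_pushStalk i (compMod ζ) z).1.subsingleton)).map i.continuous)
  have hFd : topologicalKrullDim (CohB1.support F) < ((1 + 1 : ℕ) : WithBot ℕ∞) :=
    lt_of_le_of_lt ((Topology.IsEmbedding.inclusion hFs).isInducing.topologicalKrullDim_le.trans hd1.le)
      (by exact_mod_cast Nat.lt_succ_self 1)
  have hmem : ξ' ∈ CohB1.support F := by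
    subst hF hζ
    intro hs
    haveI := hPc.simple
    haveI := IsSimpleModule.nontrivial (J.subscheme.presheaf.stalk ζ) ((compMod ζ).presheaf.stalk ζ)
    haveI := hs
    exact not_subsingleton _ ((bijective_pushStalk i (compMod ζ) ζ).2.subsingleton)
  rw [← hF] at h0
  have h1 := (h.pos k hFc hFd).2 ξ' hmem hd1
  rw [pairing_congr k (cl_tensorPow_sub_mem hL N) hFc hFd, ← nsmul_eq_mul, map_nsmul, nsmul_eq_mul] at h0
  have : (0 : ℤ) < (N : ℤ) * pairing k F (cl hL) := mul_pos (by exact_mod_cast hN) h1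
  omega

/-- Sections on every integral closed subscheme make a strictly nef module ample. -/
theorem isAmple_of_sections {L : X.Modules} {hL : PicF.IsInvertible L} (h : StrictP k hL)
    (hsec : ∀ ξ : X, ∃ (m : ℕ) (s : Coh.structureModule _ ⟶ CohB1.tensorPow ((Scheme.Modules.pullback
      (Scheme.IdealSheafData.vanishingIdeal (⟨closure {ξ}, isClosed_closure⟩ : Closeds X)).subschemeι).obj L) (m + 1)),
      s ≠ 0) : CohB1.IsAmple L := by
  haveI := EulerIneqLib.isNoetherian_proper (X := X) k
  suffices H : ∀ (d : ℕ) (ξ : X), topologicalKrullDim (closure {ξ} : Set X) = (d : WithBot ℕ∞) →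
      CohB1.IsAmple ((Scheme.Modules.pullback (Scheme.IdealSheafData.vanishingIdeal
        (⟨closure {ξ}, isClosed_closure⟩ : Closeds X)).subschemeι).obj L) by
    refine (Groth.Agent.S0051.result k X (X ↘ Spec (CommRingCat.of k)) L hL).2 fun M hM => ?_
    refine good_of_components k hL Set.univ (fun ξ _ _ => ?_) hM (Set.subset_univ _)
    obtain ⟨d, -, hd⟩ := FlatDim.topologicalKrullDim_closure k (X ↘ Spec (CommRingCat.of k)) ξ
    exact H d ξ hd
  intro d
  induction d using Nat.strong_induction_on with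
  | _ d IH =>
  intro ξ hd
  let J := Scheme.IdealSheafData.vanishingIdeal (⟨closure {ξ}, isClosed_closure⟩ : Closeds X)
  let i := J.subschemeι
  letI : J.subscheme.Over (Spec (CommRingCat.of k)) := ⟨i ≫ (X ↘ Spec (CommRingCat.of k))⟩
  haveI : IsProper (J.subscheme ↘ Spec (CommRingCat.of k)) :=
    (inferInstanceAs (IsProper (J.subschemeι ≫ (X ↘ Spec (CommRingCat.of k)))))
  haveI := EulerIneqLib.isNoetherian_proper (X := J.subscheme) k
  haveI := CurveLib.isIntegral_vanishingIdeal (X := X) (C := closure {ξ}) isClosed_closure isIrreducible_singleton.closure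
  have hLZ := AmpleLib.isInvertible_pullback i hL
  have hgen : i (genericPoint J.subscheme) = ξ := by
    have h1 : IsGenericPoint (i (genericPoint J.subscheme)) (closure {ξ}) := by
      have := (genericPoint_spec J.subscheme).image i.continuous
      rwa [Set.image_univ, range_vanishing ξ, closure_closure] at this
    exact h1.eq isGenericPoint_closure
  have hsmall : ∀ M : J.subscheme.Modules, Coh.IsCoh M → genericPoint J.subscheme ∉ CohB1.support M →
      Good ((Scheme.Modules.pullback i).obj L) M := fun M hM hη => by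
    have hsup : CohB1.support ((Scheme.Modules.pushforward i).obj M) ⊆ i '' CohB1.support M := fun y hy => by
      obtain ⟨z, rfl⟩ := (IntLib.support_pushforward_subset i _ hy : y ∈ Set.range i)
      exact ⟨z, fun hs => hy ((bijective_pushStalk i M z).1.subsingleton), rfl⟩
    have hgood : Good L ((Scheme.Modules.pushforward i).obj M) := by
      refine good_of_components k hL (i '' CohB1.support M) (fun η hη' hsub => ?_)
        (DevLib.isCoh_pushforward_closed i hM) hsup
      obtain ⟨e, -, he⟩ := FlatDim.topologicalKrullDim_closure k (X ↘ Spec (CommRingCat.of k)) η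
      have hno : ξ ∉ closure ({η} : Set X) := fun hm => hη (by
        obtain ⟨z, hz, hze⟩ := hsub hm
        rw [← hgen] at hze
        exact i.isEmbedding.injective hze ▸ hz)
      have hlt := HilbLib.dim_lt_of_notMem (n := d) isClosed_closure (closure_minimal (Set.singleton_subset_iff.2 (by
          obtain ⟨z, -, rfl⟩ := hη'
          rw [← range_vanishing ξ]
          exact ⟨z, rfl⟩)) isClosed_closure) hno
        (by rw [hd]; exact_mod_cast Nat.lt_succ_self d)
      rw [he] at hlt
      exact IH e (by exact_mod_cast hlt) η he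
    obtain ⟨n₀, hn⟩ := hgood
    refine ⟨n₀, fun n hn' p hp => ?_⟩
    let N := tmod M ((Scheme.Modules.pullback i).obj (CohB1.tensorPow L n))
    haveI : Coh.IsQCoh N := (CurveLib.isCoh_tmod hM (CurveLib.isCoh_of_isInvertible
      (AmpleLib.isInvertible_pullback i (AmpleLib.isInvertible_tensorPow hL n)))).1
    obtain ⟨e, -⟩ := ProperFin.exists_pushEquiv i (M := N)
      (fun _ hV m => CohBase.affine_vanishing N (hV.preimage i) m) p
    haveI : Subsingleton (Coh.HH X ((Scheme.Modules.pushforward i).obj N) p) :=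
      subsingleton_HH_iso (projIso i M _) p (hn n hn' p hp)
    exact subsingleton_HH_iso (AmpleLib.tIso (Iso.refl M) (AmpleLib.pullPow i L n)) p e.toEquiv.subsingleton
  obtain ⟨m, s, hs⟩ := hsec ξ
  obtain ⟨N, hN, hg⟩ := exists_generated_pow k hLZ fun x hx => exists_gen_at k hLZ s hs hsmall hx
  refine isAmple_of_generated_strict k (hL := hLZ) (fun ζ hζ => ?_) hN hg
  have hPc := IntLib.isPiece_compMod ζ
  rw [← pullRing_cl i hL, ← pairing_push k i rfl hPc.coh]
  have hdc : topologicalKrullDim (closure {i ζ} : Set X) = ((1 : ℕ) : WithBot ℕ∞) := by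
    rw [← hζ, show closure ({i ζ} : Set X) = i '' closure {ζ} by
      rw [← i.isClosedEmbedding.closure_image_eq, Set.image_singleton]]
    exact ((i.isEmbedding.homeomorphImage (closure {ζ})).isHomeomorph.topologicalKrullDim_eq).symm
  have hFs : CohB1.support ((Scheme.Modules.pushforward i).obj (compMod ζ)) ⊆ closure {i ζ} := fun y hy => by
    obtain ⟨z, rfl⟩ := (IntLib.support_pushforward_subset i _ hy : y ∈ Set.range i)
    exact specializes_iff_mem_closure.1 ((hPc.supp z fun hs' =>
      hy ((bijective_pushStalk i (compMod ζ) z).1.subsingleton)).map i.continuous)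
  refine (h.pos k (DevLib.isCoh_pushforward_closed i hPc.coh) (lt_of_le_of_lt
    ((Topology.IsEmbedding.inclusion hFs).isInducing.topologicalKrullDim_le.trans hdc.le)
    (by exact_mod_cast Nat.lt_succ_self 1))).2 (i ζ) (fun hs' => ?_) hdc
  haveI := hPc.simple
  haveI := IsSimpleModule.nontrivial (J.subscheme.presheaf.stalk ζ) ((compMod ζ).presheaf.stalk ζ)
  haveI := hs'
  exact not_subsingleton _ ((bijective_pushStalk i (compMod ζ) ζ).2.subsingleton)

end Groth.Agent.Nakai
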