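import Groth.Agent.NakaiLib.Apps
import Groth.Agent.VanGrowLib.Main
import Groth.Agent.AmpleEmb.Generated
import Groth.Agent.AmpleLib.FinProd

/-!
# Big invertible modules
-/

set_option autoImplicit false
set_option backward.isDefEq.respectTransparency false
set_option linter.style.haveILetI false

universe u

open CategoryTheory CategoryTheory.Limits AlgebraicGeometry TopologicalSpace Opposite Polynomial
open Groth.Agent.PullbackMod Groth.Agent.DCohLib Groth.Agent.AmpleLib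
open Groth.Agent.CurveLib (tmap)
open Groth.Agent.IntLib (PicRing pairing dif inv' compMod)

noncomputable section

namespace Groth.Agent.Nakai

/-- A bound by one power. -/
theorem exists_pow_bound {Q : ℚ[X]} {d : ℕ} (hQ : Q.degree < ((d + 1 : ℕ) : WithBot ℕ)) :
    ∃ C : ℚ, 0 ≤ C ∧ ∀ m : ℕ, |Q.eval (m : ℚ)| ≤ C * ((m : ℚ) + 1) ^ d := by
  refine ⟨∑ i ∈ Finset.range (d + 1), |Q.coeff i|, Finset.sum_nonneg fun i _ => abs_nonneg _, fun m => ?_⟩
  have hcov : Q.eval (m : ℚ) = ∑ i ∈ Finset.range (d + 1), Q.coeff i * (m : ℚ) ^ i := by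
    rcases eq_or_ne Q 0 with rfl | hQ0
    · simp
    · exact eval_eq_sum_range' (by rw [degree_eq_natDegree hQ0] at hQ; exact_mod_cast hQ) _
  rw [hcov, Finset.sum_mul]
  refine (Finset.abs_sum_le_sum_abs _ _).trans (Finset.sum_le_sum fun i hi => ?_)
  rw [abs_mul, abs_pow, Nat.abs_cast]
  refine mul_le_mul_of_nonneg_left ?_ (abs_nonneg _)
  exact (pow_le_pow_left₀ (by positivity) (by linarith) i).trans
    (pow_le_pow_right₀ (by linarith [(Nat.cast_nonneg m : (0 : ℚ) ≤ m)]) (Nat.lt_succ_iff.1 (Finset.mem_range.1 hi)))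

variable {X : Scheme.{u}} (k : Type u) [Field k] [X.Over (Spec (CommRingCat.of k))]
  [IsProper (X ↘ Spec (CommRingCat.of k))]

/-- Sections of twists grow at most like the power of the dimension. -/
theorem exists_h_bound {H L F : X.Modules} (hH : CohB1.IsAmple H) (hL : PicF.IsInvertible L) (hF : Coh.IsCoh F)
    {d : ℕ} (hd : topologicalKrullDim (CohB1.support F) < ((d + 1 : ℕ) : WithBot ℕ∞)) :
    ∃ C : ℚ, 0 ≤ C ∧ ∀ m : ℕ, (VolLib.h k (CohB1.tensorMod F (CohB1.tensorPow L m)) : ℚ) ≤ C * ((m : ℚ) + 1) ^ d := by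
  haveI := EulerIneqLib.isNoetherian_proper (X := X) k
  obtain ⟨E, J, hJ, hE, ⟨φ⟩⟩ := VanGrow.exists_inverse_twist hH hL
  obtain ⟨n, s, hs, -, -⟩ := AmpleEmb.exists_genLocus_finite hE (VanGrow.finite_ass hF) (U := ⊤) (fun _ _ => trivial)
  have hP : PicF.IsInvertible (CohB1.tensorPow E (n + 1)) := isInvertible_tensorPow hE.1 _
  generalize hPdef : CohB1.tensorPow E (n + 1) = P at s hs hP
  haveI := VanGrow.mono_mulS hF hP s hs
  have key : ∀ (m : ℕ) (N : X.Modules), PicF.IsInvertible N →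
      VolLib.h k (CohB1.tensorMod F N) ≤ VolLib.h k (CohB1.tensorMod F (CohB1.tensorMod (CohB1.tensorPow P m) N)) := by
    intro m
    induction m with
    | zero => exact fun N _ => (VolLib.h_congr k (tIso (Iso.refl F) (unitL N))).ge
    | succ m ih =>
      intro N hN
      refine le_trans ?_ ((ih _ (isInvertible_tensor hP hN)).trans_eq
        (VolLib.h_congr k (tIso (Iso.refl F) (assoc _ _ _).symm)))
      haveI := CurveLib.mono_tmap ((AmpleLib.unitR F).inv ≫ CurveLib.mulS F s)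
        (CurveLib.freeAt_one_of_isInvertible hN)
      exact (VanGrow.h_mono k (tmap ((AmpleLib.unitR F).inv ≫ CurveLib.mulS F s) N)
        (CurveLib.isCoh_tmod (CurveLib.isCoh_tmod hF (CurveLib.isCoh_of_isInvertible hP))
          (CurveLib.isCoh_of_isInvertible hN))).trans_eq (VolLib.h_congr k (assoc F P N))
  obtain ⟨e, he⟩ : ∃ e, e = n + 1 := ⟨_, rfl⟩
  have hFr : ∀ r, Coh.IsCoh (CohB1.tensorMod F (CohB1.tensorPow L r)) := fun r =>
    CurveLib.isCoh_tmod hF (CurveLib.isCoh_of_isInvertible (isInvertible_tensorPow hL r))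
  have hsr : ∀ r, topologicalKrullDim (CohB1.support (CohB1.tensorMod F (CohB1.tensorPow L r))) <
      ((d + 1 : ℕ) : WithBot ℕ∞) := fun r => by
    haveI := hF.1
    exact lt_of_eq_of_lt (congrArg (fun s : Set X => topologicalKrullDim s)
      (HilbLib.support_tensor (isInvertible_tensorPow hL r) F)) hd
  choose Q N hQ _ hQh using fun r => VanGrow.exists_poly_h0 k hH (hFr r) (hsr r)
  choose C hC0 hC using fun r => exists_pow_bound (hQ r)
  have hle : ∀ r q, VolLib.h k (CohB1.tensorMod F (CohB1.tensorPow L (r + e * q))) ≤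
      VolLib.h k (CohB1.tensorMod (CohB1.tensorMod F (CohB1.tensorPow L r)) (CohB1.tensorPow H (J * e * q))) := by
    intro r q
    refine (key q _ (isInvertible_tensorPow hL _)).trans_eq (VolLib.h_congr k ?_)
    refine tIso (Iso.refl F) ?_ ≪≫ (assoc _ _ _).symm
    refine tIso (Iso.refl _) (powAdd L r (e * q)) ≪≫ (assoc _ _ _).symm ≪≫ tIso (comm _ _) (Iso.refl _) ≪≫
      assoc _ _ _ ≪≫ tIso (Iso.refl _) ?_
    subst hPdef he
    exact comm _ _ ≪≫ tIso (powMul L (n + 1) q).symm (Iso.refl _) ≪≫ (powTensor _ _ q).symm ≪≫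
      powCongr ((powTensor L E (n + 1)).symm ≪≫ powCongr φ (n + 1) ≪≫ powMul H J (n + 1)) q ≪≫ powMul H _ q
  obtain ⟨N₀, hN₀⟩ : ∃ N₀, N₀ = (Finset.range e).sup N := ⟨_, rfl⟩
  obtain ⟨S, hS⟩ : ∃ S : ℕ, S = ∑ m ∈ Finset.range (e * (N₀ + 1)), VolLib.h k (CohB1.tensorMod F (CohB1.tensorPow L m)) :=
    ⟨_, rfl⟩
  obtain ⟨Cs, hCs⟩ : ∃ Cs : ℚ, Cs = ∑ r ∈ Finset.range e, C r := ⟨_, rfl⟩
  have hCs0 : 0 ≤ Cs := hCs ▸ Finset.sum_nonneg fun r _ => hC0 r
  refine ⟨(S : ℚ) + Cs * (J : ℚ) ^ d, by positivity, fun m => ?_⟩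
  have h1 : (1 : ℚ) ≤ ((m : ℚ) + 1) ^ d := one_le_pow₀ (by linarith [(Nat.cast_nonneg m : (0 : ℚ) ≤ m)])
  by_cases hm : m < e * (N₀ + 1)
  · have : VolLib.h k (CohB1.tensorMod F (CohB1.tensorPow L m)) ≤ S :=
      hS ▸ Finset.single_le_sum (f := fun m => VolLib.h k (CohB1.tensorMod F (CohB1.tensorPow L m)))
        (fun _ _ => Nat.zero_le _) (Finset.mem_range.2 hm)
    have h2 : (0 : ℚ) ≤ Cs * (J : ℚ) ^ d := by positivity
    calc (VolLib.h k (CohB1.tensorMod F (CohB1.tensorPow L m)) : ℚ) ≤ (S : ℚ) := by exact_mod_cast this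
      _ ≤ ((S : ℚ) + Cs * (J : ℚ) ^ d) * 1 := by linarith
      _ ≤ _ := mul_le_mul_of_nonneg_left h1 (by positivity)
  · push Not at hm
    have he0 : 0 < e := he ▸ n.succ_pos
    have hr : m % e < e := Nat.mod_lt _ he0
    have hq : N₀ ≤ m / e := (Nat.le_div_iff_mul_le he0).2 (by nlinarith)
    have hNr : N (m % e) ≤ J * e * (m / e) := ((Finset.le_sup (Finset.mem_range.2 hr)).trans (hN₀ ▸ hq)).trans
      (Nat.le_mul_of_pos_left _ (Nat.mul_pos hJ he0))
    have h3 := hle (m % e) (m / e)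
    rw [Nat.mod_add_div] at h3
    have h4 : ((J * e * (m / e) : ℕ) : ℚ) + 1 ≤ (J : ℚ) * ((m : ℚ) + 1) := by
      have : J * e * (m / e) + 1 ≤ J * (m + 1) := by
        have := Nat.mul_div_le m e
        nlinarith
      exact_mod_cast this
    calc (VolLib.h k (CohB1.tensorMod F (CohB1.tensorPow L m)) : ℚ)
        ≤ (VolLib.h k (CohB1.tensorMod (CohB1.tensorMod F (CohB1.tensorPow L (m % e))) (CohB1.tensorPow H (J * e * (m / e)))) : ℚ) := by
          exact_mod_cast h3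
      _ = (Q (m % e)).eval ((J * e * (m / e) : ℕ) : ℚ) := hQh _ _ hNr
      _ ≤ C (m % e) * (((J * e * (m / e) : ℕ) : ℚ) + 1) ^ d := (le_abs_self _).trans (hC _ _)
      _ ≤ Cs * ((J : ℚ) * ((m : ℚ) + 1)) ^ d :=
          mul_le_mul (hCs ▸ Finset.single_le_sum (fun r _ => hC0 r) (Finset.mem_range.2 hr))
            (pow_le_pow_left₀ (by positivity) h4 d) (by positivity) hCs0
      _ ≤ _ := by
          rw [mul_pow, ← mul_assoc]
          exact mul_le_mul_of_nonneg_right (by linarith [(Nat.cast_nonneg S : (0 : ℚ) ≤ S)]) (by positivity)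

variable [IsIntegral X]

/-- Large twists by an ample module have sections. -/
theorem exists_h_ne_zero {A M : X.Modules} (hA : CohB1.IsAmple A) (hM : PicF.IsInvertible M) :
    ∃ q₀ : ℕ, ∀ q, q₀ ≤ q → VolLib.h k (CohB1.tensorMod M (CohB1.tensorPow A q)) ≠ 0 := by
  haveI := EulerIneqLib.isNoetherian_proper (X := X) k
  obtain ⟨N, hN⟩ := AmpleEmb.eventually_isGloballyGenerated hA (CurveLib.isCoh_of_isInvertible hM)
  refine ⟨N, fun q hq h0 => ?_⟩
  have hi := isInvertible_tensor hM (isInvertible_tensorPow hA.1 q)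
  haveI := EulerIneqLib.finite_HH (k := k) (CurveLib.isCoh_of_isInvertible hi) 0
  haveI : Subsingleton (Coh.HH X (CohB1.tensorMod M (CohB1.tensorPow A q)) 0) := Module.finrank_zero_iff.1 h0
  haveI : Subsingleton Γ(CohB1.tensorMod M (CohB1.tensorPow A q), ⊤) :=
    (CurveLib.secOf _).symm.toEquiv.subsingleton
  obtain ⟨t, ht⟩ := exists_genLocus_of_isGloballyGenerated hi (hN q hq) (genericPoint X)
  have hb := (mem_genLocus_iff hi).1 ht
  rw [Subsingleton.elim (sec t) 0, map_zero] at hb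
  exact one_ne_zero (hb.1 ((smul_zero (1 : X.presheaf.stalk (genericPoint X))).trans (smul_zero 0).symm))

/-- Twists of a big module eventually have sections. -/
theorem exists_h_ne_zero_of_mono {B L M : X.Modules} (hB : CohB1.IsAmple B) (hL : PicF.IsInvertible L)
    (hM : PicF.IsInvertible M) {ν : ℕ} (hν : 0 < ν) (φ : B ⟶ CohB1.tensorPow L ν) [Mono φ] :
    ∃ m₀ : ℕ, ∀ m, m₀ ≤ m → VolLib.h k (CohB1.tensorMod M (CohB1.tensorPow L m)) ≠ 0 := by
  haveI := EulerIneqLib.isNoetherian_proper (X := X) k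
  obtain ⟨B', hB', ⟨ι⟩⟩ := AmpleEmb.exists_isInverseOf hB.1
  obtain ⟨E, hE⟩ : ∃ E, E = CohB1.tensorMod (CohB1.tensorPow L ν) B' := ⟨_, rfl⟩
  have hEi : PicF.IsInvertible E := hE ▸ isInvertible_tensor (isInvertible_tensorPow hL ν) hB'
  have hEh : VolLib.h k E ≠ 0 := fun h0 => VanGrow.h_unit_ne_zero k (X := X) (Nat.eq_zero_of_le_zero (by
    subst hE
    haveI := CurveLib.mono_tmap φ (CurveLib.freeAt_one_of_isInvertible hB')
    have h1 : VolLib.h k (CohB1.tensorMod B B') ≤ VolLib.h k (CohB1.tensorMod (CohB1.tensorPow L ν) B') :=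
      VanGrow.h_mono k (tmap φ B') (CurveLib.isCoh_of_isInvertible hEi)
    rw [h0] at h1
    exact (VolLib.h_congr k ι).ge.trans h1))
  choose q₀ hq₀ using fun r => exists_h_ne_zero k hB (isInvertible_tensor hM (isInvertible_tensorPow hL r))
  refine ⟨ν * ((Finset.range ν).sup q₀ + 2), fun m hm h0 => ?_⟩
  have hq : (Finset.range ν).sup q₀ + 2 ≤ m / ν := (Nat.le_div_iff_mul_le hν).2 (by rwa [mul_comm])
  obtain ⟨j, hj⟩ : ∃ j, m / ν = j + 1 := ⟨m / ν - 1, by omega⟩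
  have h1 := hq₀ (m % ν) (j + 1) ((Finset.le_sup (Finset.mem_range.2 (Nat.mod_lt _ hν))).trans (by omega))
  refine h1 (Nat.eq_zero_of_le_zero ((VolLib.h_le_tensor k (isInvertible_tensor
    (isInvertible_tensor hM (isInvertible_tensorPow hL _)) (isInvertible_tensorPow hB.1 _))
    (isInvertible_tensorPow hEi (j + 1)) (VolLib.h_pow_ne_zero k hEi hEh j)).trans_eq
    ((VolLib.h_congr k ?_).trans h0)))
  subst hE
  refine assoc _ _ _ ≪≫ tIso (Iso.refl _) ((powTensor _ _ (j + 1)).symm ≪≫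
    powCongr ((assoc B (CohB1.tensorPow L ν) B').symm ≪≫ tIso (comm B _) (Iso.refl B') ≪≫
      assoc _ B B' ≪≫ tIso (Iso.refl _) ι ≪≫ unitR _) (j + 1) ≪≫ powMul L ν (j + 1)) ≪≫ assoc _ _ _ ≪≫
    tIso (Iso.refl M) ((powAdd L _ _).symm ≪≫ eqToIso (congrArg (CohB1.tensorPow L) ?_))
  rw [← hj, Nat.mod_add_div]

/-- Growth along multiples gives growth. -/
theorem exists_growth_all {n : ℕ} (hn : topologicalKrullDim X = n) {H L : X.Modules} (hH : CohB1.IsAmple H)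
    (hL : PicF.IsInvertible L) {ν a : ℕ} (hν : 0 < ν)
    (hg : ∀ μ : ℕ, 1 ≤ μ → μ ^ n ≤ a * VolLib.h k (CohB1.tensorPow L (ν * μ))) :
    ∃ C : ℝ, 0 < C ∧ ∃ m₁ : ℕ, ∀ m : ℕ, m₁ ≤ m → C * (m : ℝ) ^ n ≤ (VolLib.h k (CohB1.tensorPow L m) : ℝ) := by
  obtain ⟨ν', B, φ, hν', hB, hφ⟩ := VanGrow.exists_mono_of_growth k hn hH hL hν hg
  obtain ⟨m₀, hm₀⟩ := exists_h_ne_zero_of_mono k hB hL ParaFLib.isInvertible_structureModule hν' φ
  have ha : 0 < a := by
    rcases Nat.eq_zero_or_pos a with rfl | h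
    · simpa using hg 1 le_rfl
    · exact h
  refine ⟨1 / ((a : ℝ) * (2 * ν : ℝ) ^ n), by positivity, 2 * m₀ + 4 * ν, fun m hm => ?_⟩
  obtain ⟨μ, hμ⟩ : ∃ μ, μ = (m - m₀) / ν := ⟨_, rfl⟩
  have hμ1 : ν * μ ≤ m - m₀ := hμ ▸ Nat.mul_div_le _ _
  have hμ2 : m - m₀ < ν * μ + ν := by
    have := Nat.div_add_mod (m - m₀) ν
    have := Nat.mod_lt (m - m₀) hν
    subst hμ; omega
  have hμ3 : 1 ≤ μ := by
    rw [hμ]
    exact (Nat.le_div_iff_mul_le hν).2 (by omega)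
  have h1 : VolLib.h k (CohB1.tensorPow L (ν * μ)) ≤ VolLib.h k (CohB1.tensorPow L m) := by
    have hne : VolLib.h k (CohB1.tensorPow L (m - ν * μ)) ≠ 0 := fun h0 =>
      hm₀ (m - ν * μ) (by omega) ((VolLib.h_congr k (unitL _)).trans h0)
    refine (VolLib.h_le_tensor k (isInvertible_tensorPow hL _) (isInvertible_tensorPow hL _) hne).trans_eq
      (VolLib.h_congr k ((powAdd L _ _).symm ≪≫ eqToIso (congrArg (CohB1.tensorPow L) (by omega))))
  have h2 : (m : ℝ) ≤ 2 * (ν : ℝ) * μ := by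
    have : m ≤ 2 * ν * μ := by rw [mul_assoc]; omega
    exact_mod_cast this
  have h3 : ((μ : ℝ)) ^ n ≤ (a : ℝ) * (VolLib.h k (CohB1.tensorPow L m) : ℝ) := by
    exact_mod_cast (hg μ hμ3).trans (Nat.mul_le_mul_left a h1)
  rw [one_div_mul_eq_div, div_le_iff₀ (by positivity)]
  calc (m : ℝ) ^ n ≤ (2 * (ν : ℝ) * μ) ^ n := pow_le_pow_left₀ (by positivity) h2 n
    _ = (2 * (ν : ℝ)) ^ n * (μ : ℝ) ^ n := by rw [mul_pow]
    _ ≤ (2 * (ν : ℝ)) ^ n * ((a : ℝ) * (VolLib.h k (CohB1.tensorPow L m) : ℝ)) :=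
        mul_le_mul_of_nonneg_left h3 (by positivity)
    _ = _ := by push_cast; ring

omit [IsProper (X ↘ Spec (CommRingCat.of k))] [IsIntegral X] in
/-- Growth gives growth along multiples. -/
theorem exists_growth_mult {n : ℕ} {L : X.Modules} {C : ℝ} (hC : 0 < C) {m₁ : ℕ}
    (h : ∀ m : ℕ, m₁ ≤ m → C * (m : ℝ) ^ n ≤ (VolLib.h k (CohB1.tensorPow L m) : ℝ)) :
    ∃ ν a : ℕ, 0 < ν ∧ 0 < a ∧ ∀ μ : ℕ, 1 ≤ μ → μ ^ n ≤ a * VolLib.h k (CohB1.tensorPow L (ν * μ)) := by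
  obtain ⟨a, ha⟩ := exists_nat_gt (1 / C)
  refine ⟨m₁ + 1, a + 1, Nat.succ_pos _, Nat.succ_pos _, fun μ hμ => ?_⟩
  have h1 := h ((m₁ + 1) * μ) (le_trans m₁.le_succ (Nat.le_mul_of_pos_right _ hμ))
  have h2 : (μ : ℝ) ^ n ≤ (((m₁ + 1) * μ : ℕ) : ℝ) ^ n := by
    refine pow_le_pow_left₀ (by positivity) ?_ n
    exact_mod_cast Nat.le_mul_of_pos_left μ m₁.succ_pos
  have h3 : 1 ≤ ((a + 1 : ℕ) : ℝ) * C := by
    rw [div_lt_iff₀ hC] at ha
    push_cast
    nlinarith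
  have h4 : (μ : ℝ) ^ n ≤ ((a + 1 : ℕ) : ℝ) * (VolLib.h k (CohB1.tensorPow L ((m₁ + 1) * μ)) : ℝ) :=
    calc (μ : ℝ) ^ n ≤ ((a + 1 : ℕ) : ℝ) * C * (((m₁ + 1) * μ : ℕ) : ℝ) ^ n :=
          h2.trans (le_mul_of_one_le_left (by positivity) h3)
      _ ≤ _ := by rw [mul_assoc]; exact mul_le_mul_of_nonneg_left h1 (by positivity)
  exact_mod_cast h4

/-- A section of `A' ⊗ L^m` embeds `A`. -/
theorem exists_mono_of_h {A A' L : X.Modules} (hA : PicF.IsInvertible A) (hA' : PicF.IsInvertible A')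
    (e : CohB1.tensorMod A' A ≅ Coh.structureModule X) (hL : PicF.IsInvertible L) {m : ℕ}
    (h : VolLib.h k (CohB1.tensorMod A' (CohB1.tensorPow L m)) ≠ 0) :
    ∃ φ : A ⟶ CohB1.tensorPow L m, Mono φ := by
  haveI := EulerIneqLib.isNoetherian_proper (X := X) k
  have hM := isInvertible_tensor hA' (isInvertible_tensorPow hL m)
  haveI : Nontrivial (Coh.HH X (CohB1.tensorMod A' (CohB1.tensorPow L m)) 0) :=
    Module.nontrivial_of_finrank_pos (R := k) (Nat.pos_of_ne_zero h)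
  obtain ⟨c, hc⟩ := exists_ne (0 : Coh.HH X (CohB1.tensorMod A' (CohB1.tensorPow L m)) 0)
  haveI := CurveLib.mono_of_ne_zero ParaFLib.isInvertible_structureModule hM (CurveLib.secHom_secOf_ne_zero _ hc)
  haveI := CurveLib.mono_tmap (DCohLib.secHom _ (CurveLib.secOf _ c)) (CurveLib.freeAt_one_of_isInvertible hA)
  exact ⟨(unitL A).inv ≫ tmap (DCohLib.secHom _ (CurveLib.secOf _ c)) A ≫
    (tIso (comm A' _) (Iso.refl A) ≪≫ assoc _ _ _ ≪≫ tIso (Iso.refl _) e ≪≫ unitR _).hom, inferInstance⟩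

end Groth.Agent.Nakai
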