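import Groth.Agent.NakaiLib.BigApps

/-!
# Numerically trivial powers of nef modules bound the sections
-/

set_option autoImplicit false
set_option backward.isDefEq.respectTransparency false
set_option linter.style.haveILetI false

universe u

open CategoryTheory CategoryTheory.Limits AlgebraicGeometry TopologicalSpace Polynomial
open Groth.Agent.PullbackMod Groth.Agent.DCohLib Groth.Agent.AmpleLib
open Groth.Agent.CurveLib (tmap)
open Groth.Agent.IntLib (PicRing pairing dif inv' compMod)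

noncomputable section

namespace Groth.Agent.Nakai

variable {X : Scheme.{u}} (k : Type u) [Field k] [X.Over (Spec (CommRingCat.of k))]
  [IsProper (X ↘ Spec (CommRingCat.of k))]

/-- The pairing vanishes when it does on the components. -/
theorem pairing_zero_of_comp {d : ℕ} {z : PicRing X} (hz : z ∈ Aug X ^ d) {F : X.Modules} (hF : Coh.IsCoh F)
    (hd : topologicalKrullDim (CohB1.support F) < ((d + 1 : ℕ) : WithBot ℕ∞))
    (h : ∀ ξ : X, topologicalKrullDim (closure {ξ} : Set X) = (d : WithBot ℕ∞) → pairing k (compMod ξ) z = 0) :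
    pairing k F z = 0 := by
  refine le_antisymm ?_ (pairing_nonneg k hz hF hd fun ξ _ hξ => (h ξ hξ).ge)
  have := pairing_nonneg k ((Aug X ^ d).neg_mem hz) hF hd fun ξ _ hξ => by rw [map_neg, h ξ hξ, neg_zero]
  rwa [map_neg, neg_nonneg] at this

/-- The class of a mixed twist. -/
theorem cl_twist_sub_mem {L P : X.Modules} (hL : PicF.IsInvertible L) (hP : PicF.IsInvertible P) (b : ℕ)
    (hA : PicF.IsInvertible (CohB1.tensorMod (CohB1.tensorPow L b) P)) :
    cl hA - ((b : PicRing X) * cl hL + ((1 : ℕ) : PicRing X) * cl hP) ∈ Aug X ^ 2 := by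
  rw [cl_tensor (isInvertible_tensorPow hL b) hP]
  have h3 : cl (isInvertible_tensorPow hL b) * cl hP ∈ Aug X ^ 2 := by
    rw [pow_two]; exact Ideal.mul_mem_mul (cl_mem _) (cl_mem _)
  convert Ideal.add_mem _ (cl_tensorPow_sub_mem hL b) h3 using 1
  push_cast
  ring

/-- Higher powers of a numerically trivial power vanish. -/
theorem pairing_mono2_eq_zero {L H : X.Modules} (hL : PicF.IsInvertible L) (hH : CohB1.IsAmple H) (hn : NefP k hL)
    {m : ℕ} (hzero : ∀ ξ : X, topologicalKrullDim (closure {ξ} : Set X) = (m : WithBot ℕ∞) →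
      pairing k (compMod ξ) (cl hL ^ m) = 0) :
    ∀ d, m ≤ d → ∀ F : X.Modules, Coh.IsCoh F → topologicalKrullDim (CohB1.support F) < ((d + 1 : ℕ) : WithBot ℕ∞) →
      ∀ i, m ≤ i → i ≤ d → pairing k F (mono2 (cl hL) (cl hH.1) d i) = 0 := by
  haveI := EulerIneqLib.isNoetherian_proper (X := X) k
  intro d hmd
  induction d, hmd using Nat.le_induction with
  | base =>
    intro F hF hd i h1 h2
    obtain rfl : i = m := le_antisymm h2 h1
    rw [mono2, Nat.sub_self, pow_zero, mul_one]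
    exact pairing_zero_of_comp k (Ideal.pow_mem_pow (cl_mem hL) i) hF hd hzero
  | succ d hmd ih =>
    intro F hF hd i h1 h2
    refine pairing_zero_of_comp k (mono2_mem (cl_mem hL) (cl_mem hH.1) h2) hF hd fun ξ hξ => ?_
    have hQ := IntLib.isPiece_compMod ξ
    obtain ⟨x, hx⟩ : ∃ x, x = cl hL := ⟨_, rfl⟩
    obtain ⟨y, hy⟩ : ∃ y, y = cl hH.1 := ⟨_, rfl⟩
    have hxm : x ∈ Aug X := hx ▸ cl_mem hL
    have hym : y ∈ Aug X := hy ▸ cl_mem hH.1
    have hlow : ∀ j, m ≤ j → j ≤ d → pairing k (compMod ξ) (mono2 x y (d + 1) j) = 0 := fun j hj1 hj2 => by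
      obtain ⟨C, q, hC, hq, hdC, hCz⟩ := exists_cut k hH hQ hξ (mono2_mem hxm hym hj2)
      have h := ih C hC hdC j hj1 hj2
      rw [← hx, ← hy, hCz, ← hy, show mono2 x y d j * y = mono2 x y (d + 1) j by
        rw [mono2, mono2, Nat.succ_sub hj2, pow_succ, mul_assoc]] at h
      exact (mul_eq_zero.1 h).resolve_left (by exact_mod_cast hq.ne')
    rw [← hx, ← hy]
    rcases h2.lt_or_eq with hlt | rfl
    · exact hlow i h1 (Nat.lt_succ_iff.1 hlt)
    have hAi := isInvertible_tensor (isInvertible_tensorPow hL 1) hH.1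
    have hAu := cl_twist_sub_mem hL hH.1 1 hAi
    have hA : CohB1.IsAmple (CohB1.tensorMod (CohB1.tensorPow L 1) H) := isAmple_of_cl k hL hH hn hAi one_pos hAu
    obtain ⟨C, q, hC, hq, hdC, hCz⟩ := exists_cut k hA hQ hξ (Ideal.pow_mem_pow hxm d)
    have h := ih C hC hdC d hmd le_rfl
    rw [← hx, ← hy, mono2, Nat.sub_self, pow_zero, mul_one, hCz] at h
    have h' := (mul_eq_zero.1 h).resolve_left (by exact_mod_cast hq.ne')
    have hmem : x ^ d * cl hA.1 - (mono2 x y (d + 1) (d + 1) + mono2 x y (d + 1) d) ∈ Aug X ^ (d + 2) := by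
      rw [mono2, mono2, Nat.sub_self, Nat.succ_sub le_rfl, Nat.sub_self, pow_zero, mul_one, pow_one,
        show x ^ d * cl hA.1 - (x ^ (d + 1) + x ^ d * y) = x ^ d * (cl hA.1 - (x + y)) by ring, pow_add]
      refine Ideal.mul_mem_mul (Ideal.pow_mem_pow hxm d) ?_
      rw [← hx, ← hy] at hAu
      simpa using hAu
    rw [pairing_congr k hmem hQ.coh (dim_supp_le hQ.supp (by rw [hξ]; exact_mod_cast Nat.lt_succ_self (d + 1))),
      map_add, hlow d hmd le_rfl, add_zero] at h'
    exact h'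

/-- Few sections in the twists by `L`. -/
def SmallGrowth (L : X.Modules) (m : ℕ) (F : X.Modules) : Prop :=
  ∀ ε : ℚ, 0 < ε → ∃ T : ℕ, ∀ t, T ≤ t →
    (VolLib.h k (CohB1.tensorMod F (CohB1.tensorPow L t)) : ℚ) ≤ ε * (t : ℚ) ^ m

/-- Multiplying by powers of a regular section. -/
theorem h_le_twist_pow {F P : X.Modules} (hF : Coh.IsCoh F) (hP : PicF.IsInvertible P)
    (s : Coh.structureModule X ⟶ P) (hs : {x : X | Curv2.IsAssPoint F x} ⊆ CohB1.genLocus P s) :
    ∀ (l : ℕ) (N : X.Modules), PicF.IsInvertible N → VolLib.h k (CohB1.tensorMod F N) ≤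
      VolLib.h k (CohB1.tensorMod F (CohB1.tensorMod (CohB1.tensorPow P l) N)) := by
  haveI := EulerIneqLib.isNoetherian_proper (X := X) k
  haveI := VanGrow.mono_mulS hF hP s hs
  intro l
  induction l with
  | zero => exact fun N _ => (VolLib.h_congr k (tIso (Iso.refl F) (unitL N))).ge
  | succ l ih =>
    intro N hN
    refine le_trans ?_ ((ih _ (isInvertible_tensor hP hN)).trans_eq
      (VolLib.h_congr k (tIso (Iso.refl F) (assoc _ _ _).symm)))
    haveI := CurveLib.mono_tmap ((AmpleLib.unitR F).inv ≫ CurveLib.mulS F s)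
      (CurveLib.freeAt_one_of_isInvertible hN)
    exact (VanGrow.h_mono k (tmap ((AmpleLib.unitR F).inv ≫ CurveLib.mulS F s) N)
      (CurveLib.isCoh_tmod (CurveLib.isCoh_tmod hF (CurveLib.isCoh_of_isInvertible hP))
        (CurveLib.isCoh_of_isInvertible hN))).trans_eq (VolLib.h_congr k (assoc F P N))

/-- The case of dimension at most `m`. -/
theorem smallGrowth_of_dim_le {L H : X.Modules} (hL : PicF.IsInvertible L) (hH : CohB1.IsAmple H) (hn : NefP k hL)
    {e : ℕ} (hzero : ∀ ξ : X, topologicalKrullDim (closure {ξ} : Set X) = ((e + 1 : ℕ) : WithBot ℕ∞) →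
      pairing k (compMod ξ) (cl hL ^ (e + 1)) = 0)
    {F : X.Modules} (hF : Coh.IsCoh F) (hd : topologicalKrullDim (CohB1.support F) < ((e + 1 + 1 : ℕ) : WithBot ℕ∞)) :
    SmallGrowth k L (e + 1) F := by
  haveI := EulerIneqLib.isNoetherian_proper (X := X) k
  intro ε hε
  obtain ⟨n, s, hs, -, -⟩ := AmpleEmb.exists_genLocus_finite hH (VanGrow.finite_ass hF) (U := ⊤) (fun _ _ => trivial)
  have hPa : CohB1.IsAmple (CohB1.tensorPow H (n + 1)) := (AmpleLib.isAmple_pow_iff hH.1 n.succ_pos).2 hH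
  generalize CohB1.tensorPow H (n + 1) = P at s hs hPa
  obtain ⟨c, hc⟩ : ∃ c : ℕ → ℤ, ∀ i, c i = pairing k F (mono2 (cl hL) (cl hPa.1) (e + 1) i) := ⟨_, fun _ => rfl⟩
  have hctop : c (e + 1) = 0 := (hc _).trans
    (pairing_mono2_eq_zero k hL hPa hn hzero (e + 1) le_rfl F hF hd (e + 1) le_rfl le_rfl)
  obtain ⟨K, hK⟩ : ∃ K : ℚ, K = ∑ i ∈ Finset.range (e + 1), ((e + 1).choose i : ℚ) * |(c i : ℚ)| := ⟨_, rfl⟩
  obtain ⟨b, hbgt⟩ := exists_nat_gt ((K + 1) / ε)
  have hK0 : 0 ≤ K := hK ▸ Finset.sum_nonneg fun i _ => by positivity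
  have hb : 0 < b := by
    rcases Nat.eq_zero_or_pos b with rfl | hb
    · exact absurd hbgt (not_lt.2 (by simp; positivity))
    · exact hb
  obtain ⟨A, hAd⟩ : ∃ A, A = CohB1.tensorMod (CohB1.tensorPow L b) P := ⟨_, rfl⟩
  have hAi : PicF.IsInvertible A := hAd ▸ isInvertible_tensor (isInvertible_tensorPow hL b) hPa.1
  have hAu : cl hAi - ((b : PicRing X) * cl hL + ((1 : ℕ) : PicRing X) * cl hPa.1) ∈ Aug X ^ 2 := by
    subst hAd; exact cl_twist_sub_mem hL hPa.1 b hAi
  have hA : CohB1.IsAmple A := isAmple_of_cl k hL hPa hn hAi one_pos hAu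
  have hFr : ∀ r, Coh.IsCoh (CohB1.tensorMod F (CohB1.tensorPow L r)) := fun r =>
    CurveLib.isCoh_tmod hF (CurveLib.isCoh_of_isInvertible (isInvertible_tensorPow hL r))
  have hsr : ∀ r, topologicalKrullDim (CohB1.support (CohB1.tensorMod F (CohB1.tensorPow L r))) <
      ((e + 1 + 1 : ℕ) : WithBot ℕ∞) := fun r => by
    haveI := hF.1
    exact lt_of_eq_of_lt (congrArg (fun s : Set X => topologicalKrullDim s)
      (HilbLib.support_tensor (isInvertible_tensorPow hL r) F)) hd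
  choose Q N hQd hQe hQh using fun r => VanGrow.exists_poly_h0 k hA (hFr r) (hsr r)
  obtain ⟨u, hu⟩ : ∃ u, u = (b : PicRing X) * cl hL + ((1 : ℕ) : PicRing X) * cl hPa.1 := ⟨_, rfl⟩
  rw [← hu] at hAu
  have hum : u ∈ Aug X := by
    rw [hu]
    exact Ideal.add_mem _ (Ideal.mul_mem_left _ _ (cl_mem _)) (Ideal.mul_mem_left _ _ (cl_mem _))
  have hlead : ∀ r, (Q r).coeff (e + 1) ≤ K * (b : ℚ) ^ e := by
    intro r
    have h1 := pairing_cl_pow_eq_coeff k (hFr r) hAi (IntLib.dim_le_of_lt (hsr r)) (Q r) (hQd r) (hQe r)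
    rw [pairing_congr k (pow_sub_pow_mem (cl_mem _) hum hAu (e + 1)) (hFr r) (hsr r),
      ← IntLib.pairing_of_mul k F (isInvertible_tensorPow hL r)] at h1
    have h2 : pairing k F (MonoidAlgebra.of ℤ (IntLib.Inv X) (inv' (isInvertible_tensorPow hL r)) * u ^ (e + 1)) =
        pairing k F (1 * u ^ (e + 1)) := by
      refine pairing_congr k (n := e + 2) ?_ hF hd
      rw [← sub_mul, pow_succ']
      exact Ideal.mul_mem_mul (cl_mem (isInvertible_tensorPow hL r)) (Ideal.pow_mem_pow hum (e + 1))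
    rw [h2, hu, pairing_binom, Finset.sum_range_succ] at h1
    simp only [one_mul, ← hc, hctop, mul_zero, add_zero] at h1
    push_cast at h1
    have h3 : ((e + 1).factorial : ℚ) * (Q r).coeff (e + 1) ≤ K * (b : ℚ) ^ e := by
      rw [← h1, hK, Finset.sum_mul]
      refine Finset.sum_le_sum fun i hi => ?_
      rw [one_pow, mul_one, mul_right_comm]
      exact mul_le_mul (mul_le_mul_of_nonneg_left (le_abs_self _) (by positivity))
        (pow_le_pow_right₀ (by exact_mod_cast hb) (Nat.lt_succ_iff.1 (Finset.mem_range.1 hi))) (by positivity)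
        (by positivity)
    rcases le_or_gt ((Q r).coeff (e + 1)) 0 with hneg | hpos
    · exact hneg.trans (by positivity)
    · exact (le_mul_of_one_le_left hpos.le (by exact_mod_cast (e + 1).factorial_pos)).trans h3
  have hrest : ∀ r, (Q r - Polynomial.C ((Q r).coeff (e + 1)) * Polynomial.X ^ (e + 1)).degree < ((e + 1 : ℕ) : WithBot ℕ) := by
    intro r
    rw [degree_lt_iff_coeff_zero]
    intro j hj
    rw [coeff_sub, coeff_C_mul_X_pow]
    rcases hj.eq_or_lt with he | hlt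
    · rw [← he, if_pos rfl, sub_self]
    · rw [if_neg hlt.ne', sub_zero]
      exact (degree_lt_iff_coeff_zero _ _).1 (hQd r) j (by omega)
  choose C1 hC1 hC1b using fun r => VanGrow.exists_eval_le (hrest r)
  obtain ⟨q₁, hq₁⟩ : ∃ q₁ : ℕ, ∀ r < b, N r ≤ q₁ ∧ C1 r ≤ (q₁ : ℚ) := by
    obtain ⟨q, hq⟩ := exists_nat_gt (∑ r ∈ Finset.range b, C1 r)
    refine ⟨max q ((Finset.range b).sup N), fun r hr => ⟨le_max_of_le_right (Finset.le_sup (Finset.mem_range.2 hr)), ?_⟩⟩
    exact ((Finset.single_le_sum (fun r _ => hC1 r) (Finset.mem_range.2 hr)).trans hq.le).trans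
      (by exact_mod_cast le_max_left q _)
  refine ⟨b * (q₁ + 1), fun t ht => ?_⟩
  obtain ⟨q, hq⟩ : ∃ q, q = t / b := ⟨_, rfl⟩
  obtain ⟨r, hr⟩ : ∃ r, r = t % b := ⟨_, rfl⟩
  have hrb : r < b := hr ▸ Nat.mod_lt t hb
  have htq : r + b * q = t := by rw [hr, hq]; exact Nat.mod_add_div t b
  have hqq : q₁ + 1 ≤ q := hq ▸ (Nat.le_div_iff_mul_le hb).2 (by rwa [mul_comm])
  have h1 : VolLib.h k (CohB1.tensorMod F (CohB1.tensorPow L t)) ≤
      VolLib.h k (CohB1.tensorMod (CohB1.tensorMod F (CohB1.tensorPow L r)) (CohB1.tensorPow A q)) := by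
    refine (h_le_twist_pow k hF hPa.1 s hs q _ (isInvertible_tensorPow hL t)).trans_eq (VolLib.h_congr k ?_)
    subst hAd
    refine tIso (Iso.refl F) ?_ ≪≫ (assoc _ _ _).symm
    exact comm _ _ ≪≫ tIso (eqToIso (congrArg (CohB1.tensorPow L) htq.symm) ≪≫ powAdd L r (b * q) ≪≫
      tIso (Iso.refl _) (powMul L b q).symm) (Iso.refl _) ≪≫ assoc _ _ _ ≪≫ tIso (Iso.refl _) (powTensor _ _ q).symm
  obtain ⟨hNr, hCr⟩ := hq₁ r hrb
  have h2 := hC1b r q (by omega)
  simp only [eval_sub, eval_mul, eval_C, eval_pow, eval_X] at h2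
  have hq0 : (0 : ℚ) < (q : ℚ) := by exact_mod_cast (by omega : 0 < q)
  have h3 : (Q r).eval (q : ℚ) ≤ (K * (b : ℚ) ^ e + 1) * (q : ℚ) ^ (e + 1) := by
    have h4 : ((Q r).eval (q : ℚ) - (Q r).coeff (e + 1) * (q : ℚ) ^ (e + 1)) * q ≤ (q : ℚ) ^ (e + 1) * q := by
      refine ((mul_le_mul_of_nonneg_right (le_abs_self _) hq0.le).trans h2).trans ?_
      rw [mul_comm (((q : ℚ)) ^ (e + 1)) (q : ℚ)]
      exact mul_le_mul_of_nonneg_right (hCr.trans (by exact_mod_cast (by omega : q₁ ≤ q))) (by positivity)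
    have h5 := le_of_mul_le_mul_right h4 hq0
    nlinarith [mul_le_mul_of_nonneg_right (hlead r) (by positivity : (0 : ℚ) ≤ (q : ℚ) ^ (e + 1))]
  have h6 : (VolLib.h k (CohB1.tensorMod F (CohB1.tensorPow L t)) : ℚ) ≤ (K + 1) * (b : ℚ) ^ e * (q : ℚ) ^ (e + 1) :=
    calc (VolLib.h k (CohB1.tensorMod F (CohB1.tensorPow L t)) : ℚ)
        ≤ (VolLib.h k (CohB1.tensorMod (CohB1.tensorMod F (CohB1.tensorPow L r)) (CohB1.tensorPow A q)) : ℚ) := by
          exact_mod_cast h1
      _ = (Q r).eval (q : ℚ) := hQh r q (by omega)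
      _ ≤ _ := h3.trans (mul_le_mul_of_nonneg_right
          (by linarith [one_le_pow₀ (n := e) (show (1 : ℚ) ≤ (b : ℚ) by exact_mod_cast hb)]) (by positivity))
  refine h6.trans ?_
  rw [div_lt_iff₀ hε] at hbgt
  calc (K + 1) * (b : ℚ) ^ e * (q : ℚ) ^ (e + 1) ≤ (b : ℚ) * ε * (b : ℚ) ^ e * (q : ℚ) ^ (e + 1) := by gcongr
    _ = ε * (((b * q : ℕ) : ℚ)) ^ (e + 1) := by push_cast; ring
    _ ≤ _ := by
        gcongr
        omega

/-- Sections of twists of direct images. -/
theorem h_push {Z : Scheme.{u}} [Z.Over (Spec (CommRingCat.of k))] [IsProper (Z ↘ Spec (CommRingCat.of k))]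
    (i : Z ⟶ X) [IsClosedImmersion i] (hi : i ≫ (X ↘ Spec (CommRingCat.of k)) = Z ↘ Spec (CommRingCat.of k))
    {G : X.Modules} (hG : PicF.IsInvertible G) :
    VolLib.h k (CohB1.tensorMod ((Scheme.Modules.pushforward i).obj (Coh.structureModule Z)) G) =
      VolLib.h k ((Scheme.Modules.pullback i).obj G) := by
  haveI := EulerIneqLib.isNoetherian_proper (X := X) k
  haveI := EulerIneqLib.isNoetherian_proper (X := Z) k
  have hG' := CurveLib.isCoh_of_isInvertible (AmpleLib.isInvertible_pullback i hG)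
  haveI : Coh.IsQCoh (tmod (Coh.structureModule Z) ((Scheme.Modules.pullback i).obj G)) :=
    (CurveLib.isCoh_tmod (DevLib.isCoh_structureModule Z) hG').1
  exact ((VolLib.h_congr k (projIso i (Coh.structureModule Z) G)).trans (IntLib.finrank_push k i hi _ 0)).trans
    (VolLib.h_congr k (unitL _))

/-- A nef module with vanishing top self-intersection gets no sections from the dual of an ample one. -/
theorem h_twist_dual_eq_zero [IsIntegral X] {d : ℕ} (hd : topologicalKrullDim X = (d : WithBot ℕ∞))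
    {L A A' : X.Modules} (hL : PicF.IsInvertible L) (hn : NefP k hL) (hA : CohB1.IsAmple A)
    (hA' : PicF.IsInvertible A') (e : CohB1.tensorMod A' A ≅ Coh.structureModule X)
    (h0 : pairing k (Coh.structureModule X) (cl hL ^ d) = 0) {t : ℕ} (ht : 0 < t) :
    VolLib.h k (CohB1.tensorMod A' (CohB1.tensorPow L t)) = 0 := by
  by_contra hne
  obtain ⟨φ, hφ⟩ := exists_mono_of_h k hA.1 hA' e hL hne
  exact ((exists_mono_iff_pos k hd hA hL hn).1 ⟨t, A, φ, ht, hA, hφ⟩).ne' h0

omit [IsProper (X ↘ Spec (CommRingCat.of k))] in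
theorem tensR_X₁ (S : ShortComplex X.Modules) (E : X.Modules) :
    (S.map (CurveLib.tensR E)).X₁ = CohB1.tensorMod S.X₁ E := rfl

omit [IsProper (X ↘ Spec (CommRingCat.of k))] in
theorem tensR_X₂ (S : ShortComplex X.Modules) (E : X.Modules) :
    (S.map (CurveLib.tensR E)).X₂ = CohB1.tensorMod S.X₂ E := rfl

omit [IsProper (X ↘ Spec (CommRingCat.of k))] in
theorem tensR_X₃ (S : ShortComplex X.Modules) (E : X.Modules) :
    (S.map (CurveLib.tensR E)).X₃ = CohB1.tensorMod S.X₃ E := rfl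

/-- Subadditivity with named terms. -/
theorem h_le_add_of_eq {S : ShortComplex X.Modules} (hS : S.ShortExact) {A B C : X.Modules} (e₁ : S.X₁ = A)
    (e₂ : S.X₂ = B) (e₃ : S.X₃ = C) (hA : Coh.IsCoh A) (hB : Coh.IsCoh B) (hC : Coh.IsCoh C) :
    VolLib.h k B ≤ VolLib.h k A + VolLib.h k C := by
  subst e₁ e₂ e₃
  exact h_le_add k hS hA hB hC

/-- The middle term against the right one, with named terms. -/
theorem h_le_right_of_eq {S : ShortComplex X.Modules} (hS : S.ShortExact) {A B C : X.Modules} (e₁ : S.X₁ = A)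
    (e₂ : S.X₂ = B) (e₃ : S.X₃ = C) (hA : Coh.IsCoh A) (hC : Coh.IsCoh C) (h0 : VolLib.h k A = 0) :
    VolLib.h k B ≤ VolLib.h k C := by
  subst e₁ e₂ e₃
  exact VanGrow.h_le_right k hS hA hC h0

/-- Sections of twisted submodules. -/
theorem h_le_of_mono {M N : X.Modules} (f : M ⟶ N) [Mono f] (hN : Coh.IsCoh N) {E : X.Modules}
    (hE : PicF.IsInvertible E) : VolLib.h k (CohB1.tensorMod M E) ≤ VolLib.h k (CohB1.tensorMod N E) := by
  haveI := EulerIneqLib.isNoetherian_proper (X := X) k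
  haveI := CurveLib.mono_tmap f (CurveLib.freeAt_one_of_isInvertible hE)
  exact VanGrow.h_mono k (tmap f E) (CurveLib.isCoh_tmod hN (CurveLib.isCoh_of_isInvertible hE))

omit [IsProper (X ↘ Spec (CommRingCat.of k))] in
/-- Coherence of twists. -/
theorem isCoh_tensorMod [IsLocallyNoetherian X] {M N : X.Modules} (hM : Coh.IsCoh M) (hN : Coh.IsCoh N) :
    Coh.IsCoh (CohB1.tensorMod M N) := CurveLib.isCoh_tmod hM hN

/-- Few sections is stable under extensions. -/
theorem SmallGrowth.ext {L : X.Modules} (hL : PicF.IsInvertible L) {m : ℕ} {S : ShortComplex X.Modules}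
    (hS : S.ShortExact) (h₁ : Coh.IsCoh S.X₁) (h₂ : Coh.IsCoh S.X₂) (h₃ : Coh.IsCoh S.X₃)
    (a : SmallGrowth k L m S.X₁) (b : SmallGrowth k L m S.X₃) : SmallGrowth k L m S.X₂ := by
  haveI := EulerIneqLib.isNoetherian_proper (X := X) k
  intro ε hε
  obtain ⟨T₁, hT₁⟩ := a (ε / 2) (by positivity)
  obtain ⟨T₃, hT₃⟩ := b (ε / 2) (by positivity)
  refine ⟨max T₁ T₃, fun t ht => ?_⟩
  have hLt := isInvertible_tensorPow hL t
  have hT := CurveLib.shortExact_tensR hS (CurveLib.freeAt_one_of_isInvertible hLt)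
  have h2 : VolLib.h k (CohB1.tensorMod S.X₂ (CohB1.tensorPow L t)) ≤
      VolLib.h k (CohB1.tensorMod S.X₁ (CohB1.tensorPow L t)) + VolLib.h k (CohB1.tensorMod S.X₃ (CohB1.tensorPow L t)) :=
    h_le_add_of_eq k hT (tensR_X₁ _ _) (tensR_X₂ _ _) (tensR_X₃ _ _) (CurveLib.isCoh_tmod h₁ (CurveLib.isCoh_of_isInvertible hLt))
      (CurveLib.isCoh_tmod h₂ (CurveLib.isCoh_of_isInvertible hLt))
      (CurveLib.isCoh_tmod h₃ (CurveLib.isCoh_of_isInvertible hLt))
  have := hT₁ t (le_of_max_le_left ht)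
  have := hT₃ t (le_of_max_le_right ht)
  have h2' : (VolLib.h k (CohB1.tensorMod S.X₂ (CohB1.tensorPow L t)) : ℚ) ≤
      (VolLib.h k (CohB1.tensorMod S.X₁ (CohB1.tensorPow L t)) : ℚ) +
        (VolLib.h k (CohB1.tensorMod S.X₃ (CohB1.tensorPow L t)) : ℚ) := by exact_mod_cast h2
  linarith

/-- Few sections of the middle of a monomorphism. -/
theorem SmallGrowth.of_mono {L : X.Modules} (hL : PicF.IsInvertible L) {m : ℕ} {M N : X.Modules} (p : M ⟶ N)
    [Mono p] (hM : Coh.IsCoh M) (hN : Coh.IsCoh N) (a : SmallGrowth k L m M) (b : SmallGrowth k L m (cokernel p)) :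
    SmallGrowth k L m N := by
  haveI := EulerIneqLib.isNoetherian_proper (X := X) k
  exact SmallGrowth.ext k hL (S := DevLib.cokerSeq p) (DevLib.cokerSeq_shortExact p) hM hN
    (QCohLib.isCoh_kernel_cokernel p hM hN).2 a b

/-- Few sections on an integral subscheme. -/
theorem smallGrowth_compMod {L H : X.Modules} (hL : PicF.IsInvertible L) (hH : CohB1.IsAmple H) (hn : NefP k hL)
    {e : ℕ} (hzero : ∀ ξ : X, topologicalKrullDim (closure {ξ} : Set X) = ((e + 1 : ℕ) : WithBot ℕ∞) →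
      pairing k (compMod ξ) (cl hL ^ (e + 1)) = 0)
    {ξ : X} {d : ℕ} (hd : topologicalKrullDim (closure {ξ} : Set X) = (d : WithBot ℕ∞)) (hed : e + 1 + 1 ≤ d)
    (hsm : DevLib.SmallerOK (fun M => SmallGrowth k L (e + 1) M) ξ) : SmallGrowth k L (e + 1) (compMod ξ) := by
  haveI := EulerIneqLib.isNoetherian_proper (X := X) k
  let J := Scheme.IdealSheafData.vanishingIdeal (⟨closure {ξ}, isClosed_closure⟩ : Closeds X)
  letI : J.subscheme.Over (Spec (CommRingCat.of k)) := ⟨J.subschemeι ≫ (X ↘ Spec (CommRingCat.of k))⟩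
  haveI : IsProper (J.subscheme ↘ Spec (CommRingCat.of k)) :=
    (inferInstanceAs (IsProper (J.subschemeι ≫ (X ↘ Spec (CommRingCat.of k)))))
  haveI := CurveLib.isIntegral_vanishingIdeal (X := X) (C := closure {ξ}) isClosed_closure isIrreducible_singleton.closure
  haveI := EulerIneqLib.isNoetherian_proper (X := J.subscheme) k
  have hdJ : topologicalKrullDim J.subscheme = (d : WithBot ℕ∞) := (dim_vanishing ξ).trans hd
  have hC' := IntLib.isPiece_compMod ξ
  have hLJ : pairing k (Coh.structureModule J.subscheme) (cl (AmpleLib.isInvertible_pullback J.subschemeι hL) ^ d) = 0 := by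
    rw [← pullRing_cl J.subschemeι hL, ← map_pow, ← pairing_push k J.subschemeι rfl (DevLib.isCoh_structureModule _)]
    have := pairing_mono2_eq_zero k hL hH hn hzero d (by omega) (compMod ξ) hC'.coh
      (dim_supp_le hC'.supp (by rw [hd]; exact_mod_cast Nat.lt_succ_self d)) d (by omega) le_rfl
    rwa [mono2, Nat.sub_self, pow_zero, mul_one] at this
  obtain ⟨x, hξx, hne, -⟩ : ∃ x, ξ ⤳ x ∧ x ≠ ξ ∧ True := by
    have hch : HilbLib.HasChain (d - 1 + 1) (closure {ξ}) := (HilbLib.not_dim_lt_iff isClosed_closure _).1 (by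
      rw [hd, show d - 1 + 1 = d by omega]; exact lt_irrefl _)
    obtain ⟨x, h1, h2, -⟩ := hch.exists_below
    exact ⟨x, h1, h2, trivial⟩
  obtain ⟨j, μ, _, hCs, hξC, -⟩ := IntLib.exists_section_mono hH hξx hne hC'
  have hN := isInvertible_tensorPow hH.1 (j + 1)
  have hQN := CurveLib.isCoh_tmod hC'.coh (CurveLib.isCoh_of_isInvertible hN)
  have hC := (QCohLib.isCoh_kernel_cokernel μ hC'.coh hQN).2
  obtain ⟨N', hN', ⟨ι⟩⟩ := AmpleEmb.exists_isInverseOf hN
  have hCN : SmallGrowth k L (e + 1) (CohB1.tensorMod (cokernel μ) N') := by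
    haveI := hC.1
    refine hsm _ (CurveLib.isCoh_tmod hC (CurveLib.isCoh_of_isInvertible hN')) (fun y hy => hCs y ?_) fun h => hξC ?_
    · exact (HilbLib.support_tensor hN' _).le hy
    · exact (HilbLib.support_tensor hN' _).le h
  intro ε hε
  obtain ⟨T, hT⟩ := hCN ε hε
  refine ⟨T + 1, fun t ht => le_trans ?_ (hT t (by omega))⟩
  have hLt := isInvertible_tensorPow hL t
  have hG := isInvertible_tensor hN' hLt
  have hT' := CurveLib.shortExact_tensR (DevLib.cokerSeq_shortExact μ) (CurveLib.freeAt_one_of_isInvertible hG)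
  have h0 : VolLib.h k (CohB1.tensorMod (compMod ξ) (CohB1.tensorMod N' (CohB1.tensorPow L t))) = 0 := by
    refine (h_push k J.subschemeι rfl hG).trans ?_
    rw [VolLib.h_congr k (pullTensor J.subschemeι N' (CohB1.tensorPow L t) ≪≫
      tIso (Iso.refl _) (AmpleLib.pullPow J.subschemeι L t))]
    exact h_twist_dual_eq_zero k hdJ (AmpleLib.isInvertible_pullback _ hL) (hn.restrict k J.subschemeι rfl)
      (AmpleLib.isAmple_pullback J.subschemeι ((AmpleLib.isAmple_pow_iff hH.1 j.succ_pos).2 hH))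
      (AmpleLib.isInvertible_pullback _ hN')
      ((pullTensor J.subschemeι _ _).symm ≪≫ (Scheme.Modules.pullback J.subschemeι).mapIso (comm N' _ ≪≫ ι) ≪≫
        pullO J.subschemeι) hLJ (by omega)
  have hA' := isCoh_tensorMod hC'.coh (CurveLib.isCoh_of_isInvertible hG)
  have hC'' := isCoh_tensorMod hC (CurveLib.isCoh_of_isInvertible hG)
  have h2 : VolLib.h k (CohB1.tensorMod (CohB1.tensorMod (compMod ξ) (CohB1.tensorPow H (j + 1))) (CohB1.tensorMod N' (CohB1.tensorPow L t))) ≤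
      VolLib.h k (CohB1.tensorMod (cokernel μ) (CohB1.tensorMod N' (CohB1.tensorPow L t))) :=
    h_le_right_of_eq k (A := CohB1.tensorMod (compMod ξ) (CohB1.tensorMod N' (CohB1.tensorPow L t)))
      (B := CohB1.tensorMod (CohB1.tensorMod (compMod ξ) (CohB1.tensorPow H (j + 1))) (CohB1.tensorMod N' (CohB1.tensorPow L t)))
      (C := CohB1.tensorMod (cokernel μ) (CohB1.tensorMod N' (CohB1.tensorPow L t))) hT' (tensR_X₁ _ _) (tensR_X₂ _ _) (tensR_X₃ _ _) hA'
      hC'' h0
  rw [VolLib.h_congr k (assoc (compMod ξ) _ _ ≪≫ tIso (Iso.refl _) ((assoc _ _ _).symm ≪≫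
    tIso ι (Iso.refl _) ≪≫ unitL _)), VolLib.h_congr k (assoc (cokernel μ) N' (CohB1.tensorPow L t)).symm] at h2
  exact_mod_cast h2

/-- Few sections. -/
theorem smallGrowth {L H : X.Modules} (hL : PicF.IsInvertible L) (hH : CohB1.IsAmple H) (hn : NefP k hL)
    {e : ℕ} (hzero : ∀ ξ : X, topologicalKrullDim (closure {ξ} : Set X) = ((e + 1 : ℕ) : WithBot ℕ∞) →
      pairing k (compMod ξ) (cl hL ^ (e + 1)) = 0)
    {n : ℕ} (hX : topologicalKrullDim X ≤ (n : WithBot ℕ∞))
    {F : X.Modules} (hF : Coh.IsCoh F) : SmallGrowth k L (e + 1) F := by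
  haveI := EulerIneqLib.isNoetherian_proper (X := X) k
  have hiso : ∀ M N : X.Modules, Nonempty (M ≅ N) → SmallGrowth k L (e + 1) M → SmallGrowth k L (e + 1) N :=
    fun M N ⟨i⟩ h ε hε => by
      obtain ⟨T, hT⟩ := h ε hε
      exact ⟨T, fun t ht => by rw [VolLib.h_congr k (tIso i.symm (Iso.refl _))]; exact hT t ht⟩
  have hsub : ∀ (M N : X.Modules) (f : M ⟶ N) [Mono f], Coh.IsCoh N → SmallGrowth k L (e + 1) N →
      SmallGrowth k L (e + 1) M := fun M N f _ hN h ε hε => by
    obtain ⟨T, hT⟩ := h ε hε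
    refine ⟨T, fun t ht => le_trans ?_ (hT t ht)⟩
    exact Nat.cast_le.2 (h_le_of_mono k f hN (isInvertible_tensorPow hL t))
  refine DevLib.devissage Set.univ (fun M => SmallGrowth k L (e + 1) M) hiso (fun M hM => ?_)
    (fun S hS h₁ h₂ h₃ _ a b => SmallGrowth.ext k hL hS h₁ h₂ h₃ a b) (fun ξ _ _ Q hQ hsm => ?_) F hF (Set.subset_univ _)
  · intro ε hε
    refine ⟨0, fun t _ => ?_⟩
    have hz : Subsingleton (Coh.HH X (CohB1.tensorMod M (CohB1.tensorPow L t)) 0) := by
      have hz' : IsZero (CohB1.tensorMod M (CohB1.tensorPow L t)) := DevLib.isZero_of_support_empty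
        ((HilbLib.support_tensor (isInvertible_tensorPow hL t) M).trans (HilbLib.support_eq_empty_of_isZero hM))
      haveI : Subsingleton Γ(CohB1.tensorMod M (CohB1.tensorPow L t), ⊤) :=
        subsingleton_of_forall_eq 0 fun s => congrArg (fun g => g.app ⊤ s) (hz'.eq_of_src (𝟙 _) 0)
      exact (CurveLib.secOf _).toEquiv.subsingleton
    rw [show VolLib.h k (CohB1.tensorMod M (CohB1.tensorPow L t)) = 0 from Module.finrank_zero_of_subsingleton]
    push_cast
    positivity
  by_cases hle : topologicalKrullDim (closure {ξ} : Set X) < ((e + 1 + 1 : ℕ) : WithBot ℕ∞)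
  · exact smallGrowth_of_dim_le k hL hH hn hzero hQ.coh (dim_supp_le hQ.supp hle)
  obtain ⟨d, hd, hed⟩ : ∃ d : ℕ, topologicalKrullDim (closure {ξ} : Set X) = (d : WithBot ℕ∞) ∧ e + 1 + 1 ≤ d := by
    have h2 : topologicalKrullDim (closure {ξ} : Set X) ≤ (n : WithBot ℕ∞) :=
      Topology.IsInducing.subtypeVal.topologicalKrullDim_le.trans hX
    push Not at hle
    generalize topologicalKrullDim (closure {ξ} : Set X) = D at hle h2
    induction D with
    | bot => simp at hle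
    | coe a =>
      induction a with
      | top => exact absurd h2 (not_le.2 (WithBot.coe_lt_coe.2 (ENat.coe_lt_top n)))
      | coe a => exact ⟨a, rfl, by exact_mod_cast hle⟩
  have hC' := IntLib.isPiece_compMod ξ
  have hcomp := smallGrowth_compMod k hL hH hn hzero hd hed hsm
  obtain ⟨G, p, q, hG, hp, hq, hps, hqs⟩ := DevLib.exists_common hQ hC'
  have hcc := (QCohLib.isCoh_kernel_cokernel p hG hQ.coh).2
  have hb : SmallGrowth k L (e + 1) (cokernel p) :=
    hsm (cokernel p) hcc (DevLib.supp_coker p hQ.supp) (DevLib.notMem_support_coker p hps)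
  have ha : SmallGrowth k L (e + 1) G := hsub G (compMod ξ) q hC'.coh hcomp
  exact SmallGrowth.of_mono k hL p hG hQ.coh ha hb

/-- Numerically trivial powers exclude growth. -/
theorem not_growth {L H : X.Modules} (hL : PicF.IsInvertible L) (hH : CohB1.IsAmple H) (hn : NefP k hL)
    {n : ℕ} (hX : topologicalKrullDim X = (n : WithBot ℕ∞)) {m : ℕ}
    (hzero : ∀ ξ : X, topologicalKrullDim (closure {ξ} : Set X) = (m : WithBot ℕ∞) →
      pairing k (compMod ξ) (cl hL ^ m) = 0) :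
    ¬ (∃ ν a : ℕ, 0 < ν ∧ 0 < a ∧ ∀ μ : ℕ, 1 ≤ μ → μ ^ m ≤ a * VolLib.h k (CohB1.tensorPow L (ν * μ))) := by
  haveI := EulerIneqLib.isNoetherian_proper (X := X) k
  rintro ⟨ν, a, hν, ha, hg⟩
  rcases m with _ | e
  · have huniv : HilbLib.HasChain 0 (Set.univ : Set X) := (HilbLib.not_dim_lt_iff isClosed_univ 0).1 (by
      rw [(Homeomorph.Set.univ X).isHomeomorph.topologicalKrullDim_eq, hX]
      simp)
    haveI : Nonempty X := ⟨huniv.choose 0⟩
    obtain ⟨x, -, hx⟩ := (isClosed_univ (X := X)).exists_closed_singleton Set.univ_nonempty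
    have hd : topologicalKrullDim (closure {x} : Set X) = ((0 : ℕ) : WithBot ℕ∞) := by
      refine le_antisymm (IntLib.dim_le_of_lt (q := 0) (by_contra fun h => ?_)) (not_lt.1 fun h => ?_)
      · obtain ⟨p, hp, hp'⟩ := (HilbLib.not_dim_lt_iff isClosed_closure 1).1 h
        refine (hp' 0 1 (by decide)).2 ?_
        have h0 := hp 0
        have h1 := hp 1
        rw [hx.closure_eq, Set.mem_singleton_iff] at h0 h1
        rw [h0, h1]
      · exact ((HilbLib.not_dim_lt_iff isClosed_closure 0).2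
          ⟨fun _ => x, fun _ => subset_closure (Set.mem_singleton x), fun i j hij => absurd hij (by omega)⟩) h
    have hQ := IntLib.isPiece_compMod x
    have hsupp : x ∈ CohB1.support (compMod x) := by
      haveI := hQ.simple
      haveI := IsSimpleModule.nontrivial (X.presheaf.stalk x) ((compMod x).presheaf.stalk x)
      exact not_subsingleton _
    have hch : HilbLib.HasChain 0 (CohB1.support (compMod x)) :=
      ⟨fun _ => x, fun _ => hsupp, fun i j hij => absurd hij (by omega)⟩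
    have := (isPos_cl_pow k hH 0 _ hQ.coh (dim_supp_le hQ.supp (by rw [hd]; exact_mod_cast Nat.lt_succ_self 0))).2 hch
    have h0 := hzero x hd
    rw [pow_zero] at this h0
    exact this.ne' h0
  obtain ⟨T, hT⟩ := smallGrowth k hL hH hn hzero hX.le (DevLib.isCoh_structureModule X)
    (1 / (2 * (a : ℚ) * (ν : ℚ) ^ (e + 1))) (by positivity)
  obtain ⟨μ, hμ⟩ : ∃ μ, μ = T + 1 := ⟨_, rfl⟩
  have h1 := hg μ (by omega)
  have h2 := hT (ν * μ) (le_trans (by omega : T ≤ μ) (Nat.le_mul_of_pos_left μ hν))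
  rw [VolLib.h_congr k (unitL _)] at h2
  have h1' : (μ : ℚ) ^ (e + 1) ≤ (a : ℚ) * (VolLib.h k (CohB1.tensorPow L (ν * μ)) : ℚ) := by exact_mod_cast h1
  have hpos : (0 : ℚ) < (μ : ℚ) ^ (e + 1) := pow_pos (by exact_mod_cast (by omega : 0 < μ)) _
  have h3 : (a : ℚ) * (VolLib.h k (CohB1.tensorPow L (ν * μ)) : ℚ) ≤ (μ : ℚ) ^ (e + 1) / 2 := by
    refine (mul_le_mul_of_nonneg_left h2 (Nat.cast_nonneg a)).trans_eq ?_
    push_cast
    rw [mul_pow]
    field_simp
  linarith

end Groth.Agent.Nakai
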