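import Mathlib

/-!
The largest root argument of Kleiman.
-/

set_option autoImplicit false

open Finset

namespace Groth.Agent.Nakai

/-- `∑ C(n,i) x^i t^(n-i) c_i`. -/
noncomputable def binForm (n : ℕ) (c : ℕ → ℤ) (t : ℝ) : ℝ :=
  ∑ i ∈ range (n + 1), (n.choose i : ℝ) * t ^ (n - i) * (c i : ℝ)

theorem binForm_succ (n : ℕ) (c : ℕ → ℤ) (t : ℝ) :
    binForm (n + 1) c t = binForm n (fun j => c (j + 1)) t + t * binForm n c t := by
  simp only [binForm]
  rw [sum_range_succ', mul_sum]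
  simp only [Nat.choose_succ_succ', Nat.succ_sub_succ_eq_sub, Nat.cast_add, add_mul, sum_add_distrib, add_assoc]
  congr 1
  rw [sum_range_succ' (fun i => t * (((n.choose i : ℕ) : ℝ) * t ^ (n - i) * (c i : ℝ))), sum_range_succ]
  simp only [Nat.choose_succ_self, Nat.cast_zero, zero_mul, add_zero]
  congr 1
  · refine sum_congr rfl fun i hi => ?_
    have hi' := mem_range.1 hi
    rw [show n - i = (n - (i + 1)) + 1 by omega, pow_succ]
    ring
  · simp only [Nat.choose_zero_right, Nat.cast_one, one_mul, Nat.sub_zero]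
    ring

theorem continuous_binForm (n : ℕ) (c : ℕ → ℤ) : Continuous (binForm n c) := by
  unfold binForm
  fun_prop

theorem binForm_zero (n : ℕ) (c : ℕ → ℤ) : binForm n c 0 = c n := by
  rw [binForm, sum_eq_single n (fun i hi hne => ?_) (fun h => absurd (self_mem_range_succ n) h)]
  · simp
  · rw [zero_pow (Nat.sub_ne_zero_of_lt (lt_of_le_of_ne (Nat.lt_succ_iff.1 (mem_range.1 hi)) hne))]
    ring

theorem binForm_nonneg {n : ℕ} {c : ℕ → ℤ} (hc : ∀ i, i ≤ n → 0 ≤ c i) {t : ℝ} (ht : 0 ≤ t) :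
    t ^ n * (c 0 : ℝ) ≤ binForm n c t := by
  have h := single_le_sum (f := fun i => (n.choose i : ℝ) * t ^ (n - i) * (c i : ℝ))
    (fun i hi => by have := hc i (Nat.lt_succ_iff.1 (mem_range.1 hi)); positivity) (mem_range.2 n.succ_pos)
  simpa [binForm] using h

theorem binForm_div (n : ℕ) (c : ℕ → ℤ) {a : ℕ} (ha : 0 < a) (b : ℕ) :
    binForm n c ((b : ℝ) / a) * (a : ℝ) ^ n =
      ((∑ i ∈ range (n + 1), (n.choose i : ℤ) * (a : ℤ) ^ i * (b : ℤ) ^ (n - i) * c i : ℤ) : ℝ) := by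
  push_cast
  rw [binForm, sum_mul]
  refine sum_congr rfl fun i hi => ?_
  obtain ⟨t, rfl⟩ := Nat.exists_eq_add_of_le (Nat.lt_succ_iff.1 (mem_range.1 hi))
  rw [Nat.add_sub_cancel_left, pow_add, div_pow]
  field_simp

/-- Kleiman's argument. -/
theorem nonneg_top {e : ℕ} {c : ℕ → ℤ} (hc : ∀ i, i ≤ e → 0 ≤ c i) (hc0 : 0 < c 0)
    (h : ∀ a b : ℕ, 0 < a → 0 < b →
      0 < ∑ i ∈ range (e + 2), ((e + 1).choose i : ℤ) * (a : ℤ) ^ i * (b : ℤ) ^ (e + 1 - i) * c i →
      0 ≤ ∑ j ∈ range (e + 1), (e.choose j : ℤ) * (a : ℤ) ^ j * (b : ℤ) ^ (e - j) * c (j + 1)) :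
    0 ≤ c (e + 1) := by
  by_contra hneg
  push Not at hneg
  let f := binForm (e + 1) c
  let g := binForm e fun j => c (j + 1)
  have hf0 : f 0 < 0 := by
    show binForm (e + 1) c 0 < 0
    rw [binForm_zero]
    exact_mod_cast hneg
  let S : Set ℝ := {t | 0 ≤ t ∧ f t ≤ 0}
  have hSc : IsClosed S := IsClosed.inter isClosed_Ici (isClosed_le (continuous_binForm _ _) continuous_const)
  have hS0 : (0 : ℝ) ∈ S := ⟨le_rfl, hf0.le⟩
  have hlow : ∀ t : ℝ, 0 ≤ t → t ^ (e + 1) * (c 0 : ℝ) + (c (e + 1) : ℝ) ≤ f t := fun t ht => by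
    show _ ≤ binForm (e + 1) c t
    rw [binForm, sum_range_succ, Nat.choose_self, Nat.sub_self, pow_zero, Nat.cast_one, one_mul, one_mul]
    refine add_le_add ?_ le_rfl
    have h' := single_le_sum (f := fun i => ((e + 1).choose i : ℝ) * t ^ (e + 1 - i) * (c i : ℝ))
      (fun i hi => by have := hc i (Nat.lt_succ_iff.1 (mem_range.1 hi)); positivity) (mem_range.2 e.succ_pos)
    simpa using h'
  have hbdd : BddAbove S := by
    refine ⟨max 1 (-(c (e + 1) : ℝ)), fun t ht => le_of_not_gt fun hlt => ?_⟩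
    have h1 : 1 ≤ t := (le_max_left _ _).trans hlt.le
    have h2 : -(c (e + 1) : ℝ) < t := lt_of_le_of_lt (le_max_right _ _) hlt
    have h3 : t ≤ t ^ (e + 1) := le_self_pow₀ h1 (Nat.succ_ne_zero e)
    have h4 : (1 : ℝ) ≤ (c 0 : ℝ) := by exact_mod_cast hc0
    nlinarith [hlow t ht.1, ht.2]
  obtain ⟨hT0, hTf⟩ := hSc.csSup_mem ⟨0, hS0⟩ hbdd
  set T := sSup S
  have hgT : 0 ≤ g T := by
    have hmem : ∀ q : ℚ, T < (q : ℝ) → 0 ≤ g q := fun q hq => by
      have hq0 : (0 : ℝ) < q := lt_of_le_of_lt hT0 hq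
      have hq0' : 0 < q := by exact_mod_cast hq0
      have hpos : 0 < f q := lt_of_not_ge fun hle => absurd (le_csSup hbdd ⟨hq0.le, hle⟩) (not_le.2 hq)
      obtain ⟨b, hb⟩ := Int.eq_ofNat_of_zero_le (Rat.num_nonneg.2 hq0'.le)
      have hb0 : 0 < b := by have := Rat.num_pos.2 hq0'; omega
      have hqe : (q : ℝ) = (b : ℝ) / q.den := by rw [Rat.cast_def, hb]; norm_num
      have hden : (0 : ℝ) < (q.den : ℝ) := by exact_mod_cast q.den_pos
      have e1 := binForm_div (e + 1) c q.den_pos b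
      have e2 := binForm_div e (fun j => c (j + 1)) q.den_pos b
      rw [← hqe] at e1 e2
      have hp : (0 : ℝ) < f q * (q.den : ℝ) ^ (e + 1) := mul_pos hpos (pow_pos hden _)
      rw [show f q * (q.den : ℝ) ^ (e + 1) = _ from e1, Int.cast_pos] at hp
      have h5 : (0 : ℝ) ≤ g q * (q.den : ℝ) ^ e := by
        rw [show g q * (q.den : ℝ) ^ e = _ from e2]
        exact_mod_cast h q.den b q.den_pos hb0 hp
      exact nonneg_of_mul_nonneg_left h5 (pow_pos hden _)
    by_contra hg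
    push Not at hg
    obtain ⟨δ, hδ, hball⟩ := Metric.continuousAt_iff.1
      ((continuous_binForm e fun j => c (j + 1)).continuousAt (x := T)) (-g T) (neg_pos.2 hg)
    obtain ⟨q, hq1, hq2⟩ := exists_rat_btwn (show T < T + δ by linarith)
    have := hball (x := (q : ℝ)) (by rw [Real.dist_eq, abs_lt]; constructor <;> linarith)
    rw [Real.dist_eq, abs_lt] at this
    have := hmem q hq1
    simp only [g] at *
    linarith
  have hfT : f T = g T + T * binForm e c T := binForm_succ e c T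
  rcases hT0.lt_or_eq with hT | hT
  · have h1 : 0 < T * binForm e c T :=
      mul_pos hT (lt_of_lt_of_le (mul_pos (pow_pos hT e) (by exact_mod_cast hc0)) (binForm_nonneg hc hT0))
    linarith
  · rw [← hT] at hgT
    have : g 0 = (c (e + 1) : ℝ) := binForm_zero e fun j => c (j + 1)
    rw [this] at hgT
    have h' : (0 : ℤ) ≤ c (e + 1) := by exact_mod_cast hgT
    omega

end Groth.Agent.Nakai
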