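import Groth.Agent.NakaiLib.Cut
import Groth.Agent.NakaiLib.Root

/-!
# Kleiman's theorem on projective schemes
-/

set_option autoImplicit false
set_option backward.isDefEq.respectTransparency false
set_option linter.style.haveILetI false

universe u

open CategoryTheory CategoryTheory.Limits AlgebraicGeometry TopologicalSpace
open Groth.Agent.PullbackMod Groth.Agent.DCohLib Groth.Agent.DevLib Groth.Agent.QCohLib
open Groth.Agent.HilbLib (HasChain)
open Groth.Agent.IntLib (PicRing pairing dif inv' compMod)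

noncomputable section

namespace Groth.Agent.Nakai

variable {X : Scheme.{u}} (k : Type u) [Field k] [X.Over (Spec (CommRingCat.of k))]
  [IsProper (X ↘ Spec (CommRingCat.of k))]

/-- Numerically effective: nonnegative degree on every integral curve. -/
def NefP {L : X.Modules} (hL : PicF.IsInvertible L) : Prop :=
  ∀ ξ : X, topologicalKrullDim (closure {ξ} : Set X) = ((1 : ℕ) : WithBot ℕ∞) → 0 ≤ pairing k (compMod ξ) (cl hL)

theorem NefP.nonneg {L : X.Modules} {hL : PicF.IsInvertible L} (h : NefP k hL) {F : X.Modules} (hF : Coh.IsCoh F)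
    (hd : topologicalKrullDim (CohB1.support F) < ((1 + 1 : ℕ) : WithBot ℕ∞)) : 0 ≤ pairing k F (cl hL) :=
  pairing_nonneg k (d := 1) (by rw [pow_one]; exact cl_mem hL) hF hd fun ξ _ hξ => h ξ hξ

theorem NefP.restrict {L : X.Modules} {hL : PicF.IsInvertible L} (h : NefP k hL) {Z : Scheme.{u}}
    [Z.Over (Spec (CommRingCat.of k))] [IsProper (Z ↘ Spec (CommRingCat.of k))] (i : Z ⟶ X) [IsClosedImmersion i]
    (hi : i ≫ (X ↘ Spec (CommRingCat.of k)) = Z ↘ Spec (CommRingCat.of k)) :
    NefP k (AmpleLib.isInvertible_pullback i hL) := fun ζ hζ => by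
  haveI := EulerIneqLib.isNoetherian_proper (X := X) k
  haveI := EulerIneqLib.isNoetherian_proper (X := Z) k
  have hc := (IntLib.isPiece_compMod ζ).coh
  rw [← pullRing_cl i hL, ← pairing_push k i hi hc]
  refine h.nonneg k (DevLib.isCoh_pushforward_closed i hc) ?_
  have hsub : CohB1.support ((Scheme.Modules.pushforward i).obj (compMod ζ)) ⊆ i '' closure {ζ} := fun y hy => by
    obtain ⟨z, rfl⟩ := (IntLib.support_pushforward_subset i _ hy : y ∈ Set.range i)
    exact ⟨z, specializes_iff_mem_closure.1 ((IntLib.isPiece_compMod ζ).supp z fun hs =>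
      hy ((bijective_pushStalk i (compMod ζ) z).1.subsingleton)), rfl⟩
  refine lt_of_le_of_lt ((Topology.IsEmbedding.inclusion hsub).isInducing.topologicalKrullDim_le.trans
    (le_of_eq ?_)) (show ((1 : ℕ) : WithBot ℕ∞) < _ by exact_mod_cast Nat.lt_succ_self 1)
  rw [← hζ]
  exact ((i.isEmbedding.homeomorphImage (closure {ζ})).isHomeomorph.topologicalKrullDim_eq).symm

/-- `x ^ i y ^ (d - i)`. -/
abbrev mono2 (x y : PicRing X) (d i : ℕ) : PicRing X := x ^ i * y ^ (d - i)

omit k [Field k] [X.Over (Spec (CommRingCat.of k))] [IsProper (X ↘ Spec (CommRingCat.of k))] in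
theorem mono2_mem {x y : PicRing X} (hx : x ∈ Aug X) (hy : y ∈ Aug X) {d i : ℕ} (hi : i ≤ d) :
    mono2 x y d i ∈ Aug X ^ d := by
  have h : Aug X ^ (i + (d - i)) = Aug X ^ d := by rw [Nat.add_sub_cancel' hi]
  rw [← h, pow_add]
  exact Ideal.mul_mem_mul (Ideal.pow_mem_pow hx i) (Ideal.pow_mem_pow hy _)

/-- The binomial expansion of a pairing. -/
theorem pairing_binom (F : X.Modules) (w x y : PicRing X) (a b n : ℕ) :
    pairing k F (w * ((a : PicRing X) * x + (b : PicRing X) * y) ^ n) =
      ∑ i ∈ Finset.range (n + 1), (n.choose i : ℤ) * (a : ℤ) ^ i * (b : ℤ) ^ (n - i) *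
        pairing k F (w * mono2 x y n i) := by
  rw [add_pow, Finset.mul_sum, map_sum]
  refine Finset.sum_congr rfl fun i _ => ?_
  rw [← smul_eq_mul (α := ℤ) (a := (n.choose i : ℤ) * (a : ℤ) ^ i * (b : ℤ) ^ (n - i)), ← map_zsmul, zsmul_eq_mul]
  congr 1
  push_cast
  rw [mono2, mul_pow, mul_pow]
  ring

/-- All mixed numbers in dimension `d` are nonnegative. -/
def KlOK (d : ℕ) : Prop :=
  ∀ (X : Scheme.{u}) [X.Over (Spec (CommRingCat.of k))] [IsProper (X ↘ Spec (CommRingCat.of k))]
    (L H : X.Modules) (hL : PicF.IsInvertible L) (hH : CohB1.IsAmple H), NefP k hL →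
    ∀ F : X.Modules, Coh.IsCoh F → topologicalKrullDim (CohB1.support F) < ((d + 1 : ℕ) : WithBot ℕ∞) →
    ∀ i, i ≤ d → 0 ≤ pairing k F (mono2 (cl hL) (cl hH.1) d i)

theorem klOK_zero : KlOK.{u} k 0 := by
  intro X _ _ L H hL hH _ F hF hd i hi
  obtain rfl : i = 0 := by omega
  have := (isPos_cl_pow k hH 0 F hF hd).1
  simpa [mono2] using this

/-- A hyperplane section lowers the degree in the ample class. -/
theorem pairing_low {e : ℕ} (he : KlOK.{u} k e) {L H : X.Modules} (hL : PicF.IsInvertible L) (hH : CohB1.IsAmple H)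
    (hn : NefP k hL) {F : X.Modules} (hF : Coh.IsCoh F)
    (hd : topologicalKrullDim (CohB1.support F) < ((e + 1 + 1 : ℕ) : WithBot ℕ∞)) {i : ℕ} (hi : i ≤ e) :
    0 ≤ pairing k F (mono2 (cl hL) (cl hH.1) (e + 1) i) := by
  refine pairing_nonneg k (mono2_mem (cl_mem hL) (cl_mem hH.1) (hi.trans e.le_succ)) hF hd fun ξ _ hξ => ?_
  haveI := EulerIneqLib.isNoetherian_proper (X := X) k
  obtain ⟨C, m, hC, hm, hdC, hCz⟩ := exists_cut k hH (IntLib.isPiece_compMod ξ) hξ
    (mono2_mem (cl_mem hL) (cl_mem hH.1) hi)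
  have h := he X L H hL hH hn C hC hdC i hi
  rw [hCz, show mono2 (cl hL) (cl hH.1) e i * cl hH.1 = mono2 (cl hL) (cl hH.1) (e + 1) i by
    rw [mono2, mono2, Nat.succ_sub hi, pow_succ, mul_assoc]] at h
  exact nonneg_of_mul_nonneg_right h (by exact_mod_cast hm)

/-- Positivity test for ampleness by pairings. -/
theorem topPos_of_pairing [IsIntegral X] {L : X.Modules} (hL : PicF.IsInvertible L)
    (h : ∀ d : ℕ, 0 < d → topologicalKrullDim X = (d : WithBot ℕ∞) →
      0 < pairing k (Coh.structureModule X) (cl hL ^ d)) : TopPos k X L := by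
  intro d hd0 hd P hP
  haveI := EulerIneqLib.isNoetherian_proper (X := X) k
  have hsup : topologicalKrullDim (CohB1.support (Coh.structureModule X)) ≤ (d : WithBot ℕ∞) :=
    Topology.IsInducing.subtypeVal.topologicalKrullDim_le.trans hd.le
  obtain ⟨Q, hQd, hQ⟩ := HilbLib.exists_poly k hL (d + 1) _ (isCoh_structureModule X)
    (lt_of_le_of_lt hsup (by exact_mod_cast Nat.lt_succ_self d))
  obtain rfl : P = Q := HilbLib.poly_eq_of_nat fun m => (hP m).symm.trans (hQ m)
  have h1 := pairing_cl_pow_eq_coeff k (isCoh_structureModule X) hL hsup P hQd hQ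
  have h2 : (0 : ℚ) < (d.factorial : ℚ) * P.coeff d := h1 ▸ (by exact_mod_cast h d hd0 hd)
  exact (mul_pos_iff_of_pos_left (by exact_mod_cast d.factorial_pos)).1 h2

/-- The pairing of an integral closed subscheme of full dimension. -/
theorem pairing_full [IsIntegral X] {d : ℕ} (hd : topologicalKrullDim X = (d : WithBot ℕ∞)) (J : X.IdealSheafData)
    [IsIntegral J.subscheme] (hJ : topologicalKrullDim J.subscheme = (d : WithBot ℕ∞)) {z : PicRing X}
    (hz : z ∈ Aug X ^ d) : pairing k (ClSub.quotMod J) z = pairing k (Coh.structureModule X) z := by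
  haveI := EulerIneqLib.isNoetherian_proper (X := X) k
  have hd' : topologicalKrullDim (closure {genericPoint X} : Set X) < ((d + 1 : ℕ) : WithBot ℕ∞) := by
    rw [(genericPoint_spec X).def, (Homeomorph.Set.univ X).isHomeomorph.topologicalKrullDim_eq, hd]
    exact_mod_cast Nat.lt_succ_self d
  have hη : genericPoint X ∈ Set.range J.subschemeι := by
    by_contra hno
    have hlt := HilbLib.dim_lt_of_notMem (ξ := genericPoint X) J.subschemeι.isClosedEmbedding.isClosed_range
      (by rw [(genericPoint_spec X).def]; exact Set.subset_univ _) hno hd'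
    rw [← J.subschemeι.isEmbedding.toHomeomorph.isHomeomorph.topologicalKrullDim_eq, hJ] at hlt
    exact lt_irrefl _ hlt
  have hgen : J.subschemeι (genericPoint J.subscheme) = genericPoint X :=
    ((specializes_of_mem_range J.subschemeι hη).antisymm (genericPoint_specializes _)).eq
  have hP : IsPiece (genericPoint X) (ClSub.quotMod J) := hgen ▸ isPiece_pushUnit J.subschemeι
  exact pairing_piece k hP (isPiece_structureModule X) hd' hz

/-- The induction step in top degree on an integral scheme. -/
theorem pairing_top [IsIntegral X] {e : ℕ} (he : ∀ d, d ≤ e + 1 → KlOK.{u} k d) {L H : X.Modules}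
    (hL : PicF.IsInvertible L) (hH : CohB1.IsAmple H) (hn : NefP k hL)
    (hd : topologicalKrullDim X = ((e + 1 + 1 : ℕ) : WithBot ℕ∞)) :
    0 ≤ pairing k (Coh.structureModule X) (cl hL ^ (e + 2)) := by
  haveI := EulerIneqLib.isNoetherian_proper (X := X) k
  have hO := isCoh_structureModule X
  have hsup : topologicalKrullDim (CohB1.support (Coh.structureModule X)) < ((e + 1 + 1 + 1 : ℕ) : WithBot ℕ∞) :=
    lt_of_le_of_lt (Topology.IsInducing.subtypeVal.topologicalKrullDim_le.trans hd.le)
      (by exact_mod_cast Nat.lt_succ_self _)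
  have hchain : HasChain (e + 1 + 1) (CohB1.support (Coh.structureModule X)) := by
    have hs : CohB1.support (Coh.structureModule X) = Set.univ := Set.eq_univ_of_forall fun x hs => by
      haveI := hs
      exact zero_ne_one (α := X.presheaf.stalk x) ((ParaFLib.bijective_oneG x).1 (Subsingleton.elim _ _))
    rw [hs]
    refine (HilbLib.not_dim_lt_iff isClosed_univ _).1 ?_
    rw [(Homeomorph.Set.univ X).isHomeomorph.topologicalKrullDim_eq, hd]
    exact lt_irrefl _
  obtain ⟨x, hx⟩ : ∃ x, x = cl hL := ⟨_, rfl⟩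
  obtain ⟨y, hy⟩ : ∃ y, y = cl hH.1 := ⟨_, rfl⟩
  have hlow : ∀ i, i ≤ e + 1 → 0 ≤ pairing k (Coh.structureModule X) (mono2 x y (e + 2) i) := fun i hi => by
    subst hx hy; exact pairing_low k (he _ le_rfl) hL hH hn hO hsup hi
  have h0 : 0 < pairing k (Coh.structureModule X) (mono2 x y (e + 2) 0) := by
    have := (isPos_cl_pow k hH (e + 2) _ hO hsup).2 hchain
    subst hy
    simpa [mono2] using this
  have key := nonneg_top (e := e + 1) (c := fun i => pairing k (Coh.structureModule X) (mono2 x y (e + 2) i))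
    hlow h0 fun a b ha hb hpos => ?_
  · simpa [mono2, hx] using key
  obtain ⟨M, hM⟩ : ∃ M, M = CohB1.tensorMod (CohB1.tensorPow L a) (CohB1.tensorPow H b) := ⟨_, rfl⟩
  have hMi : PicF.IsInvertible M :=
    hM ▸ AmpleLib.isInvertible_tensor (AmpleLib.isInvertible_tensorPow hL a) (AmpleLib.isInvertible_tensorPow hH.1 b)
  obtain ⟨u, hu⟩ : ∃ u, u = (a : PicRing X) * x + (b : PicRing X) * y := ⟨_, rfl⟩
  have hxm : x ∈ Aug X := hx ▸ cl_mem hL
  have hym : y ∈ Aug X := hy ▸ cl_mem hH.1
  have hum : u ∈ Aug X := hu ▸ Ideal.add_mem _ (Ideal.mul_mem_left _ _ hxm) (Ideal.mul_mem_left _ _ hym)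
  have hMu : cl hMi - u ∈ Aug X ^ 2 := by
    subst hM
    rw [hu, hx, hy, cl_tensor (AmpleLib.isInvertible_tensorPow hL a) (AmpleLib.isInvertible_tensorPow hH.1 b)]
    have h3 : cl (AmpleLib.isInvertible_tensorPow hL a) * cl (AmpleLib.isInvertible_tensorPow hH.1 b) ∈ Aug X ^ 2 := by
      rw [pow_two]; exact Ideal.mul_mem_mul (cl_mem _) (cl_mem _)
    convert Ideal.add_mem _ (Ideal.add_mem _ (cl_tensorPow_sub_mem hL a) (cl_tensorPow_sub_mem hH.1 b)) h3 using 1
    ring
  have hamp : CohB1.IsAmple M := by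
    refine isAmple_of_nakaiPos k hMi (nakaiPos_of_ideals k hMi fun J hJi _ _ hJ =>
      topPos_of_pairing k (AmpleLib.isInvertible_pullback J.subschemeι hMi) fun d hd0 hdJ => ?_)
    haveI := EulerIneqLib.isNoetherian_proper (X := J.subscheme) k
    rw [← pullRing_cl J.subschemeι hMi, ← map_pow, ← pairing_push k J.subschemeι hJ (isCoh_structureModule _)]
    have hq : Coh.IsCoh (ClSub.quotMod J) := IntLib.isCoh_quotMod J
    have hds : topologicalKrullDim (J.support : Set X) = (d : WithBot ℕ∞) := by
      rw [← hdJ, J.subschemeι.isEmbedding.toHomeomorph.isHomeomorph.topologicalKrullDim_eq,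
        Scheme.IdealSheafData.range_subschemeι]
    have hdq : topologicalKrullDim (CohB1.support (ClSub.quotMod J)) < ((d + 1 : ℕ) : WithBot ℕ∞) :=
      lt_of_le_of_lt ((Topology.IsEmbedding.inclusion
        (IntLib.support_quotMod_subset J)).isInducing.topologicalKrullDim_le.trans hds.le)
        (by exact_mod_cast Nat.lt_succ_self d)
    show 0 < pairing k (ClSub.quotMod J) (cl hMi ^ d)
    rw [pairing_congr k (pow_sub_pow_mem (cl_mem _) hum hMu d) hq hdq, ← one_mul (u ^ d), hu, pairing_binom]
    simp only [one_mul]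
    have hdle : d ≤ e + 2 := by
      have := J.subschemeι.isEmbedding.isInducing.topologicalKrullDim_le
      rw [hdJ, hd] at this
      exact_mod_cast this
    rcases hdle.eq_or_lt with rfl | hdlt
    · rw [Finset.sum_congr rfl fun i hi => by
        rw [pairing_full k hd J hdJ (mono2_mem hxm hym (Nat.lt_succ_iff.1 (Finset.mem_range.1 hi)))]]
      exact hpos
    refine Finset.sum_pos' (fun i hi => mul_nonneg (by positivity) ?_) ⟨0, Finset.mem_range.2 d.succ_pos, ?_⟩
    · subst hx hy
      exact he d (Nat.lt_succ_iff.1 hdlt) X L H hL hH hn _ hq hdq i (Nat.lt_succ_iff.1 (Finset.mem_range.1 hi))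
    · have hch : HasChain d (CohB1.support (ClSub.quotMod J)) := by
        rw [show CohB1.support (ClSub.quotMod J) = (J.support : Set X) from
          (IntLib.support_quotMod_subset J).antisymm fun w hw => ?_]
        · exact (HilbLib.not_dim_lt_iff J.support.isClosed _).1 (by rw [hds]; exact lt_irrefl _)
        obtain ⟨v, rfl⟩ : w ∈ Set.range J.subschemeι := by rwa [Scheme.IdealSheafData.range_subschemeι]
        have hgen : J.subschemeι (genericPoint J.subscheme) ∈ CohB1.support (ClSub.quotMod J) := fun hs => by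
          haveI := (isPiece_pushUnit J.subschemeι).simple
          haveI := IsSimpleModule.nontrivial (X.presheaf.stalk (J.subschemeι (genericPoint J.subscheme)))
            (((Scheme.Modules.pushforward J.subschemeι).obj (Coh.structureModule J.subscheme)).presheaf.stalk
              (J.subschemeι (genericPoint J.subscheme)))
          exact not_subsingleton _ hs
        exact ((genericPoint_specializes v).map J.subschemeι.continuous).mem_closed
          (isClosed_support hq) hgen
      refine mul_pos ?_ ?_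
      · simp only [Nat.choose_zero_right, pow_zero, Nat.cast_one, one_mul, mul_one, Nat.sub_zero]
        exact pow_pos (by exact_mod_cast hb) _
      have := (isPos_cl_pow k hH d _ hq hdq).2 hch
      subst hy
      simpa [mono2] using this
  obtain ⟨C, m, hC, hm, hdC, hCz⟩ := exists_cut k hamp (isPiece_structureModule X)
    (d := e + 1) (by rw [(genericPoint_spec X).def, (Homeomorph.Set.univ X).isHomeomorph.topologicalKrullDim_eq, hd])
    (z := x * u ^ e) (by rw [pow_succ']; exact Ideal.mul_mem_mul hxm (Ideal.pow_mem_pow hum e))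
  have h1 : 0 ≤ pairing k C (x * u ^ e) := by
    rw [hu, pairing_binom]
    refine Finset.sum_nonneg fun i hi => mul_nonneg (by positivity) ?_
    have hi' := Nat.lt_succ_iff.1 (Finset.mem_range.1 hi)
    rw [show x * mono2 x y e i = mono2 x y (e + 1) (i + 1) by
      rw [mono2, mono2, Nat.succ_sub_succ, pow_succ', mul_assoc]]
    subst hx hy
    exact he _ le_rfl X L H hL hH hn C hC hdC _ (by omega)
  rw [hCz] at h1
  have h2 := nonneg_of_mul_nonneg_right h1 (by exact_mod_cast hm)
  have hmem : x * u ^ e * cl hMi - x * u ^ (e + 1) ∈ Aug X ^ (e + 1 + 2) := by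
    rw [show x * u ^ e * cl hMi - x * u ^ (e + 1) = x * u ^ e * (cl hMi - u) by ring, pow_add]
    refine Ideal.mul_mem_mul ?_ hMu
    rw [pow_succ']
    exact Ideal.mul_mem_mul hxm (Ideal.pow_mem_pow hum e)
  rw [pairing_congr k hmem hO hsup, hu, pairing_binom] at h2
  refine h2.trans_eq (Finset.sum_congr rfl fun j _ => ?_)
  rw [show x * mono2 x y (e + 1) j = mono2 x y (e + 2) (j + 1) by
    rw [mono2, mono2, Nat.succ_sub_succ, pow_succ', mul_assoc]]

theorem klOK_one : KlOK.{u} k 1 := by
  intro X _ _ L H hL hH hn F hF hd i hi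
  rcases Nat.eq_zero_or_pos i with rfl | hi0
  · exact pairing_low k (klOK_zero k) hL hH hn hF hd le_rfl
  obtain rfl : i = 1 := by omega
  simpa [mono2] using hn.nonneg k hF hd

/-- Kleiman's theorem. -/
theorem klOK : ∀ d, KlOK.{u} k d := by
  intro d
  induction d using Nat.strong_induction_on with
  | _ d IH =>
  rcases d with _ | _ | e
  · exact klOK_zero k
  · exact klOK_one k
  intro X _ _ L H hL hH hn F hF hd i hi
  rcases hi.lt_or_eq with hlt | rfl
  · exact pairing_low k (IH _ (Nat.lt_succ_self _)) hL hH hn hF hd (Nat.lt_succ_iff.1 hlt)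
  refine pairing_nonneg k (mono2_mem (cl_mem hL) (cl_mem hH.1) le_rfl) hF hd fun ξ _ hξ => ?_
  haveI := EulerIneqLib.isNoetherian_proper (X := X) k
  let J := Scheme.IdealSheafData.vanishingIdeal (⟨closure {ξ}, isClosed_closure⟩ : Closeds X)
  letI : J.subscheme.Over (Spec (CommRingCat.of k)) := ⟨J.subschemeι ≫ (X ↘ Spec (CommRingCat.of k))⟩
  haveI : IsProper (J.subscheme ↘ Spec (CommRingCat.of k)) :=
    (inferInstanceAs (IsProper (J.subschemeι ≫ (X ↘ Spec (CommRingCat.of k)))))
  haveI := CurveLib.isIntegral_vanishingIdeal (X := X) (C := closure {ξ}) isClosed_closure isIrreducible_singleton.closure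
  haveI := EulerIneqLib.isNoetherian_proper (X := J.subscheme) k
  have hcomp : compMod ξ = (Scheme.Modules.pushforward J.subschemeι).obj (Coh.structureModule J.subscheme) := rfl
  rw [hcomp, pairing_push k J.subschemeι rfl (isCoh_structureModule _), mono2, Nat.sub_self, pow_zero, mul_one,
    map_pow, pullRing_cl]
  exact pairing_top k (fun d hd' => IH d (by omega)) (AmpleLib.isInvertible_pullback _ hL)
    (AmpleLib.isAmple_pullback J.subschemeι hH) (hn.restrict k J.subschemeι rfl) ((dim_vanishing ξ).trans hξ)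

end Groth.Agent.Nakai
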