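import Groth.Agent.NakaiLib.Apps
import Groth.Agent.AmpleEmb.RelVanish
import Groth.Agent.RpushLib.Main
import Groth.Agent.RpushLib.Finite
import Groth.Agent.S0927

/-!
# Pairings and proper morphisms out of projective schemes
-/

set_option autoImplicit false
set_option backward.isDefEq.respectTransparency false
set_option linter.style.haveILetI false

universe u

open CategoryTheory CategoryTheory.Limits AlgebraicGeometry TopologicalSpace Opposite
open Groth.Agent.PullbackMod Groth.Agent.DCohLib Groth.Agent.DevLib Groth.Agent.QCohLib Groth.Agent.CohBase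
open Groth.Agent.IntLib (PicRing pairing dif inv' compMod)

noncomputable section

namespace Groth.Agent.Nakai

variable {X X' : Scheme.{u}} (π : X' ⟶ X)

/-- The projection formula for direct images. -/
theorem nonempty_proj (F : X'.Modules) {G : X.Modules} (hG : FlatMod.IsFinLocFree G) :
    Nonempty (CohB1.tensorMod G ((Scheme.Modules.pushforward π).obj F) ≅
      (Scheme.Modules.pushforward π).obj (CohB1.tensorMod ((Scheme.Modules.pullback π).obj G) F)) := by
  haveI : HasInjectiveResolutions X'.Modules := inferInstance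
  obtain ⟨e⟩ := Groth.Agent.S0927.result π F G hG 0
  exact ⟨AmpleLib.tIso (Iso.refl G) ((Scheme.Modules.pushforward π).rightDerivedZeroIsoSelf.app F).symm ≪≫ e ≪≫
    (Scheme.Modules.pushforward π).rightDerivedZeroIsoSelf.app _⟩

/-- No higher direct images. -/
def RAcyclic [HasInjectiveResolutions X'.Modules] (N : X'.Modules) : Prop :=
  ∀ n : ℕ, IsZero ((Coh.Rpush π (n + 1)).obj N)

theorem isZero_of_isZero_toAb {M : X.Modules} (h : IsZero ((QCohLib.toAbF X).obj M)) : IsZero M := by
  rw [IsZero.iff_id_eq_zero]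
  refine (QCohLib.toAbF X).map_injective ?_
  rw [CategoryTheory.Functor.map_id, Functor.map_zero]
  exact h.eq_of_src _ _

/-- Large twists by an ample module have no higher direct images. -/
theorem exists_rAcyclic [IsProper π] [AlgebraicGeometry.IsNoetherian X] [HasInjectiveResolutions X'.Modules]
    {A : X'.Modules} (hA : CohB1.IsAmple A) {F : X'.Modules} (hF : Coh.IsCoh F) :
    ∃ t₀ : ℕ, ∀ t, t₀ ≤ t → RAcyclic π (CohB1.tensorMod F (CohB1.tensorPow A t)) := by
  haveI : IsLocallyNoetherian X' := LocallyOfFiniteType.isLocallyNoetherian π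
  haveI : CompactSpace X' := QuasiCompact.compactSpace_of_compactSpace π
  haveI : AlgebraicGeometry.IsNoetherian X' := { }
  obtain ⟨t₀, ht⟩ := AmpleEmb.exists_isZero_rpushAb_tensorPow π hA.1 (fun W _ => by
    haveI : CompactSpace (π ⁻¹ᵁ W).toScheme :=
      isCompact_iff_compactSpace.1 ((NoetherianSpace.isCompact ((π ⁻¹ᵁ W : X'.Opens) : Set X')))
    exact AmpleLib.isAmple_restrict (π ⁻¹ᵁ W).ι hA) hF
  exact ⟨t₀, fun t htt n => isZero_of_isZero_toAb
    ((ht t htt (n + 1) n.succ_pos).of_iso ((RpushLib.toAbRpushIso π (n + 1)).app _))⟩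

theorem RAcyclic.twist [HasInjectiveResolutions X'.Modules] {N : X'.Modules} (h : RAcyclic π N) {G : X.Modules}
    (hG : PicF.IsInvertible G) : RAcyclic π (CohB1.tensorMod ((Scheme.Modules.pullback π).obj G) N) := fun n => by
  obtain ⟨e⟩ := Groth.Agent.S0927.result π N G (CurveLib.isFinLocFree_of_isInvertible hG) (n + 1)
  exact ((Functor.map_isZero ((DCoh.tensorBi (X := X)).obj G) (h n)) : _).of_iso e.symm

theorem RAcyclic.affAcyclic [IsProper π] [HasInjectiveResolutions X'.Modules] {N : X'.Modules} [Coh.IsQCoh N]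
    (h : RAcyclic π N) : ProperFin.AffAcyclic π N := fun V hV n => by
  obtain ⟨i⟩ := RpushLib.nonempty_sections (M := N) π n hV
  haveI : Subsingleton Γ((Coh.Rpush π (n + 1)).obj N, V) := AddCommGrpCat.subsingleton_of_isZero
    (((Scheme.Modules.toPresheaf X).map_isZero (h n)).obj (op V))
  exact i.symm.toEquiv.subsingleton

variable (k : Type u) [Field k] [X.Over (Spec (CommRingCat.of k))] [X'.Over (Spec (CommRingCat.of k))]
  [IsProper (X ↘ Spec (CommRingCat.of k))] [IsProper (X' ↘ Spec (CommRingCat.of k))]

/-- Euler characteristics along a proper morphism on acyclic modules. -/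
theorem euler_proper_push [IsProper π]
    (hπ : π ≫ (X ↘ Spec (CommRingCat.of k)) = X' ↘ Spec (CommRingCat.of k)) {N : X'.Modules}
    (h : ProperFin.AffAcyclic π N) :
    Curv2.euler k X ((Scheme.Modules.pushforward π).obj N) = Curv2.euler k X' N := by
  refine finsum_congr fun n => ?_
  obtain ⟨e, he⟩ := ProperFin.exists_pushEquiv π h n
  let L : Coh.HH X' N n ≃ₗ[k] Coh.HH X ((Scheme.Modules.pushforward π).obj N) n :=
    { e with
      map_smul' := fun a x => by
        show e (Coh.toGlobal (X' ↘ Spec (CommRingCat.of k)) a • x) =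
          Coh.toGlobal (X ↘ Spec (CommRingCat.of k)) a • e x
        rw [IntLib.toGlobal_comp k π hπ]
        exact he _ x }
  rw [L.finrank_eq]

/-- Acyclicity is kept by twists from the base. -/
theorem pairing_proper_push [IsProper π]
    [HasInjectiveResolutions X'.Modules]
    (hπ : π ≫ (X ↘ Spec (CommRingCat.of k)) = X' ↘ Spec (CommRingCat.of k)) {N : X'.Modules} (hN : Coh.IsCoh N)
    (h : RAcyclic π N) (z : PicRing X) :
    pairing k ((Scheme.Modules.pushforward π).obj N) z = pairing k N (pullRing π z) := by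
  haveI := EulerIneqLib.isNoetherian_proper (X := X') k
  induction z using MonoidAlgebra.induction_on with
  | of g =>
    obtain ⟨c, G, hG, rfl⟩ := g
    have e : pullRing π (MonoidAlgebra.of ℤ (IntLib.Inv X) (inv' hG)) =
        MonoidAlgebra.of ℤ (IntLib.Inv X') (inv' (AmpleLib.isInvertible_pullback π hG)) := by
      refine (MonoidAlgebra.lift_of _ _).trans ?_
      exact congrArg (MonoidAlgebra.of ℤ (IntLib.Inv X')) (Subtype.ext (IntLib.pullCls_mk π G))
    show pairing k _ (MonoidAlgebra.of ℤ (IntLib.Inv X) (inv' hG)) =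
      pairing k N (pullRing π (MonoidAlgebra.of ℤ (IntLib.Inv X) (inv' hG)))
    rw [e, IntLib.pairing_of, IntLib.pairing_of]
    obtain ⟨p⟩ := nonempty_proj π N (CurveLib.isFinLocFree_of_isInvertible hG)
    exact (CurveLib.euler_iso (K := k) (AmpleLib.comm _ G ≪≫ p)).trans
      ((euler_proper_push π k hπ (by
        haveI : Coh.IsQCoh (CohB1.tensorMod ((Scheme.Modules.pullback π).obj G) N) :=
          (CurveLib.isCoh_tmod (CurveLib.isCoh_of_isInvertible (AmpleLib.isInvertible_pullback π hG)) hN).1
        exact (h.twist π hG).affAcyclic π)).trans (CurveLib.euler_iso (K := k) (AmpleLib.comm _ N)))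
  | add a b ha hb => rw [map_add, map_add, map_add, ha, hb]
  | smul n a ha => rw [map_zsmul, map_zsmul, map_zsmul, ha]

end Groth.Agent.Nakai
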