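import Groth.Agent.NakaiLib.Nef
import Groth.Prelude.Def_Pic13

/-!
# Nef twisted by ample; degrees on curves
-/

set_option autoImplicit false
set_option backward.isDefEq.respectTransparency false
set_option linter.style.haveILetI false

universe u

open CategoryTheory CategoryTheory.Limits AlgebraicGeometry TopologicalSpace
open Groth.Agent.PullbackMod Groth.Agent.DCohLib Groth.Agent.DevLib Groth.Agent.QCohLib
open Groth.Agent.HilbLib (HasChain)
open Groth.Agent.IntLib (PicRing pairing dif inv' compMod)

noncomputable section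

namespace Groth.Agent.Nakai

variable {X : Scheme.{u}} (k : Type u) [Field k] [X.Over (Spec (CommRingCat.of k))]
  [IsProper (X ↘ Spec (CommRingCat.of k))]

/-- The degree as a pairing. -/
theorem pairing_cl (F : X.Modules) {L : X.Modules} (hL : PicF.IsInvertible L) :
    pairing k F (cl hL) = Curv2.euler k X (CohB1.tensorMod F L) - Curv2.euler k X F := by
  rw [cl_eq_neg_dif, map_neg, IntLib.pairing_dif, neg_sub]

/-- The curve degree as a pairing on the ambient scheme. -/
theorem curveDeg_eq {L : X.Modules} (hL : PicF.IsInvertible L) {Y : Scheme.{u}} (i : Y ⟶ X) [IsClosedImmersion i]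
    (hY : topologicalKrullDim Y = ((1 : ℕ) : WithBot ℕ∞)) :
    Pic13.curveDeg k (i ≫ (X ↘ Spec (CommRingCat.of k))) ((Scheme.Modules.pullback i).obj L) =
      pairing k ((Scheme.Modules.pushforward i).obj (Coh.structureModule Y)) (cl hL) := by
  letI : Y.Over (Spec (CommRingCat.of k)) := ⟨i ≫ (X ↘ Spec (CommRingCat.of k))⟩
  haveI : IsProper (Y ↘ Spec (CommRingCat.of k)) :=
    (inferInstanceAs (IsProper (i ≫ (X ↘ Spec (CommRingCat.of k)))))
  haveI := EulerIneqLib.isNoetherian_proper (X := Y) k
  rw [pairing_push k i rfl (isCoh_structureModule Y), pullRing_cl, pairing_cl]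
  show FGA.eulerCharLE k Y _ 1 - FGA.eulerCharLE k Y _ 1 = _
  rw [HilbLib.eulerCharLE_eq k _ hY.le, HilbLib.eulerCharLE_eq k _ hY.le,
    CurveLib.euler_iso (K := k) (AmpleLib.unitL ((Scheme.Modules.pullback i).obj L))]

theorem nefP_of_curveDeg {L : X.Modules} (hL : PicF.IsInvertible L)
    (h : ∀ (Y : Scheme.{u}) (i : Y ⟶ X) [IsClosedImmersion i], IsIntegral Y → topologicalKrullDim Y = 1 →
      0 ≤ Pic13.curveDeg k (i ≫ (X ↘ Spec (CommRingCat.of k))) ((Scheme.Modules.pullback i).obj L)) :
    NefP k hL := fun ξ hξ => by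
  let J := Scheme.IdealSheafData.vanishingIdeal (⟨closure {ξ}, isClosed_closure⟩ : Closeds X)
  have hd : topologicalKrullDim J.subscheme = ((1 : ℕ) : WithBot ℕ∞) := (dim_vanishing ξ).trans hξ
  have h1 := h J.subscheme J.subschemeι
    (CurveLib.isIntegral_vanishingIdeal (X := X) isClosed_closure isIrreducible_singleton.closure)
    (hd.trans Nat.cast_one)
  rw [curveDeg_eq k hL J.subschemeι hd] at h1
  exact h1

theorem nefP_of_quotMod {L : X.Modules} (hL : PicF.IsInvertible L)
    (h : ∀ C : X.IdealSheafData, IsIntegral C.subscheme → topologicalKrullDim (C.support : Set X) = 1 →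
      0 ≤ Curv2.euler k X (CohB1.tensorMod (ClSub.quotMod C) L) - Curv2.euler k X (ClSub.quotMod C)) :
    NefP k hL := fun ξ hξ => by
  let J := Scheme.IdealSheafData.vanishingIdeal (⟨closure {ξ}, isClosed_closure⟩ : Closeds X)
  have h1 := h J (CurveLib.isIntegral_vanishingIdeal (X := X) isClosed_closure isIrreducible_singleton.closure)
    (by rw [Scheme.IdealSheafData.coe_support_vanishingIdeal]; exact hξ.trans Nat.cast_one)
  rw [← pairing_cl k _ hL] at h1
  exact h1

theorem dim_supp_quotMod {J : X.IdealSheafData} {d : ℕ} (hd : topologicalKrullDim (J.support : Set X) = (d : WithBot ℕ∞)) :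
    topologicalKrullDim (CohB1.support (ClSub.quotMod J)) < ((d + 1 : ℕ) : WithBot ℕ∞) :=
  lt_of_le_of_lt ((Topology.IsEmbedding.inclusion
    (IntLib.support_quotMod_subset J)).isInducing.topologicalKrullDim_le.trans hd.le)
    (by exact_mod_cast Nat.lt_succ_self d)

include k in
theorem support_quotMod_eq (J : X.IdealSheafData) [IsIntegral J.subscheme] :
    CohB1.support (ClSub.quotMod J) = (J.support : Set X) := by
  haveI := EulerIneqLib.isNoetherian_proper (X := X) k
  refine (IntLib.support_quotMod_subset J).antisymm fun w hw => ?_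
  obtain ⟨v, rfl⟩ : w ∈ Set.range J.subschemeι := by rwa [Scheme.IdealSheafData.range_subschemeι]
  have hgen : J.subschemeι (genericPoint J.subscheme) ∈ CohB1.support (ClSub.quotMod J) := fun hs => by
    haveI := (isPiece_pushUnit J.subschemeι).simple
    haveI := IsSimpleModule.nontrivial (X.presheaf.stalk (J.subschemeι (genericPoint J.subscheme)))
      (((Scheme.Modules.pushforward J.subschemeι).obj (Coh.structureModule J.subscheme)).presheaf.stalk
        (J.subschemeι (genericPoint J.subscheme)))
    exact not_subsingleton _ hs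
  exact ((genericPoint_specializes v).map J.subschemeι.continuous).mem_closed
    (isClosed_support (IntLib.isCoh_quotMod J)) hgen

/-- Ample modules are positive on integral closed subschemes. -/
theorem pos_quotMod {H : X.Modules} (hH : CohB1.IsAmple H) (J : X.IdealSheafData) [IsIntegral J.subscheme] {d : ℕ}
    (hd : topologicalKrullDim (J.support : Set X) = (d : WithBot ℕ∞)) :
    0 < pairing k (ClSub.quotMod J) (cl hH.1 ^ d) := by
  haveI := EulerIneqLib.isNoetherian_proper (X := X) k
  refine (isPos_cl_pow k hH d _ (IntLib.isCoh_quotMod J) (dim_supp_quotMod hd)).2 ?_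
  rw [support_quotMod_eq k J]
  exact (HilbLib.not_dim_lt_iff J.support.isClosed _).1 (by rw [hd]; exact lt_irrefl _)

/-- A positive combination of a nef and an ample class is ample. -/
theorem isAmple_of_cl {L H M : X.Modules} (hL : PicF.IsInvertible L) (hH : CohB1.IsAmple H) (hn : NefP k hL)
    (hM : PicF.IsInvertible M) {a b : ℕ} (hb : 0 < b)
    (hMu : cl hM - ((a : PicRing X) * cl hL + (b : PicRing X) * cl hH.1) ∈ Aug X ^ 2) : CohB1.IsAmple M := by
  haveI := EulerIneqLib.isNoetherian_proper (X := X) k
  refine isAmple_of_nakaiPos k hM (nakaiPos_of_ideals k hM fun J _ _ _ hJ =>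
    topPos_of_pairing k (AmpleLib.isInvertible_pullback J.subschemeι hM) fun d hd0 hdJ => ?_)
  haveI := EulerIneqLib.isNoetherian_proper (X := J.subscheme) k
  rw [← pullRing_cl J.subschemeι hM, ← map_pow, ← pairing_push k J.subschemeι hJ (isCoh_structureModule _)]
  have hds : topologicalKrullDim (J.support : Set X) = (d : WithBot ℕ∞) := by
    rw [← hdJ, J.subschemeι.isEmbedding.toHomeomorph.isHomeomorph.topologicalKrullDim_eq,
      Scheme.IdealSheafData.range_subschemeι]
  have hum : (a : PicRing X) * cl hL + (b : PicRing X) * cl hH.1 ∈ Aug X :=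
    Ideal.add_mem _ (Ideal.mul_mem_left _ _ (cl_mem _)) (Ideal.mul_mem_left _ _ (cl_mem _))
  show 0 < pairing k (ClSub.quotMod J) (cl hM ^ d)
  rw [pairing_congr k (pow_sub_pow_mem (cl_mem _) hum hMu d) (IntLib.isCoh_quotMod J) (dim_supp_quotMod hds),
    ← one_mul ((_ : PicRing X) ^ d), pairing_binom]
  simp only [one_mul]
  refine Finset.sum_pos' (fun i hi => mul_nonneg (by positivity) (klOK k d X L H hL hH hn _
    (IntLib.isCoh_quotMod J) (dim_supp_quotMod hds) i (Nat.lt_succ_iff.1 (Finset.mem_range.1 hi))))
    ⟨0, Finset.mem_range.2 d.succ_pos, mul_pos ?_ ?_⟩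
  · simp only [Nat.choose_zero_right, pow_zero, Nat.cast_one, one_mul, mul_one, Nat.sub_zero]
    exact pow_pos (by exact_mod_cast hb) _
  · simpa [mono2] using pos_quotMod k hH J hds

end Groth.Agent.Nakai
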