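import Groth.Agent.NakaiLib.SurfBig

/-!
# The index of the intersection form on a projective surface
-/

set_option autoImplicit false
set_option backward.isDefEq.respectTransparency false
set_option linter.style.haveILetI false

universe u

open CategoryTheory CategoryTheory.Limits AlgebraicGeometry TopologicalSpace Opposite
open Groth.Agent.PullbackMod Groth.Agent.DCohLib Groth.Agent.AmpleLib
open Groth.Agent.IntLib (PicRing pairing dif inv')

noncomputable section

namespace Groth.Agent.Nakai

variable {X : Scheme.{u}}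

/-- Elements congruent to classes of invertible modules. -/
def ClsSub (X : Scheme.{u}) : AddSubgroup (PicRing X) where
  carrier := {u | ∃ (N : X.Modules) (hN : PicF.IsInvertible N), cl hN - u ∈ Aug X ^ 2}
  zero_mem' := ⟨_, ParaFLib.isInvertible_structureModule, by
    rw [cl, show inv' (ParaFLib.isInvertible_structureModule (X := X)) = 1 from rfl, map_one, sub_self, sub_zero]
    exact zero_mem _⟩
  add_mem' := by
    rintro u v ⟨M, hM, hu⟩ ⟨N, hN, hv⟩
    refine ⟨_, AmpleLib.isInvertible_tensor hM hN, ?_⟩
    rw [cl_tensor hM hN, show cl hM + cl hN + cl hM * cl hN - (u + v) = (cl hM - u) + (cl hN - v) + cl hM * cl hN by ring]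
    refine add_mem (add_mem hu hv) ?_
    rw [pow_two]
    exact Ideal.mul_mem_mul (cl_mem _) (cl_mem _)
  neg_mem' := by
    rintro u ⟨M, hM, hu⟩
    obtain ⟨M', hM', ⟨e⟩⟩ := AmpleEmb.exists_isInverseOf hM
    refine ⟨M', hM', ?_⟩
    rw [cl_eq_neg_dif hM', show -dif hM' - -u = (cl hM - dif hM') - (cl hM - u) by ring]
    exact sub_mem (cl_mul_inverse_mem hM hM' e) hu

/-- Every element of the augmentation ideal is congruent to a class. -/
theorem mem_clsSub {u : PicRing X} (hu : u ∈ Aug X) : u ∈ ClsSub X := by
  have hcong : ∀ {a b : PicRing X}, a - b ∈ Aug X ^ 2 → b ∈ ClsSub X → a ∈ ClsSub X := by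
    rintro a b hab ⟨N, hN, hb⟩
    refine ⟨N, hN, ?_⟩
    rw [show cl hN - a = (cl hN - b) - (a - b) by ring]
    exact sub_mem hb hab
  induction hu using Submodule.span_induction with
  | mem u hu =>
    obtain ⟨⟨G, hG⟩, rfl⟩ := hu
    exact ⟨G, hG, by rw [sub_self]; exact zero_mem _⟩
  | zero => exact zero_mem _
  | add a b _ _ ha hb => exact add_mem ha hb
  | smul r a ha' ha =>
    rw [smul_eq_mul]
    induction r using MonoidAlgebra.induction_on with
    | of g =>
      obtain ⟨c, G, hG, rfl⟩ := g
      refine hcong ?_ ha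
      show MonoidAlgebra.of ℤ _ (inv' hG) * a - a ∈ _
      rw [show MonoidAlgebra.of ℤ (IntLib.Inv X) (inv' hG) * a - a = cl hG * a by rw [cl, sub_mul, one_mul], pow_two]
      exact Ideal.mul_mem_mul (cl_mem _) ha'
    | add r s hr hs => rw [add_mul]; exact add_mem hr hs
    | smul n r hr => rw [smul_mul_assoc]; exact zsmul_mem hr n

variable (k : Type u) [Field k] [X.Over (Spec (CommRingCat.of k))] [IsProper (X ↘ Spec (CommRingCat.of k))]

/-- The intersection form. -/
abbrev form (u v : PicRing X) : ℤ := pairing k (Coh.structureModule X) (u * v)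

theorem form_congr (hdim : topologicalKrullDim X = ((2 : ℕ) : WithBot ℕ∞)) {u w v : PicRing X}
    (h : u - w ∈ Aug X ^ 2) (hv : v ∈ Aug X) : form k u v = form k w v := by
  refine pairing_congr k (n := 2 + 1) ?_ (DevLib.isCoh_structureModule X)
    (lt_of_le_of_lt (Topology.IsInducing.subtypeVal.topologicalKrullDim_le.trans hdim.le)
      (by exact_mod_cast Nat.lt_succ_self 2))
  rw [← sub_mul, pow_succ]
  exact Ideal.mul_mem_mul h hv

theorem form_comm (u v : PicRing X) : form k u v = form k v u := by rw [form, form, mul_comm]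

theorem form_add_left (u v w : PicRing X) : form k (u + v) w = form k u w + form k v w := by
  rw [form, form, form, add_mul, map_add]

theorem form_smul_left (n : ℤ) (u w : PicRing X) : form k (n • u) w = n * form k u w := by
  rw [form, form, smul_mul_assoc, map_zsmul, smul_eq_mul]

theorem form_add_right (u v w : PicRing X) : form k u (v + w) = form k u v + form k u w := by
  rw [form, form, form, mul_add, map_add]

theorem form_smul_right (n : ℤ) (u w : PicRing X) : form k u (n • w) = n * form k u w := by
  rw [form, form, mul_smul_comm, map_zsmul, smul_eq_mul]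

/-- The square of an ample class is positive. -/
theorem form_ample_pos (hdim : topologicalKrullDim X = ((2 : ℕ) : WithBot ℕ∞)) {H : X.Modules}
    (hH : CohB1.IsAmple H) : 0 < form k (cl hH.1) (cl hH.1) := by
  have hdO : topologicalKrullDim (CohB1.support (Coh.structureModule X)) < ((2 + 1 : ℕ) : WithBot ℕ∞) :=
    lt_of_le_of_lt (Topology.IsInducing.subtypeVal.topologicalKrullDim_le.trans hdim.le)
      (by exact_mod_cast Nat.lt_succ_self 2)
  have hch : HilbLib.HasChain 2 (CohB1.support (Coh.structureModule X)) := by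
    rw [show CohB1.support (Coh.structureModule X) = Set.univ from Set.eq_univ_of_forall fun x =>
      haveI : Nontrivial ((Coh.structureModule X).presheaf.stalk x) := (ParaFLib.bijective_oneG x).1.nontrivial
      not_subsingleton _]
    refine (HilbLib.not_dim_lt_iff isClosed_univ _).1 ?_
    rw [(Homeomorph.Set.univ X).isHomeomorph.topologicalKrullDim_eq, hdim]
    exact lt_irrefl _
  have h := (isPos_cl_pow k hH 2 _ (DevLib.isCoh_structureModule X) hdO).2 hch
  rwa [pow_two] at h

variable [IsIntegral X] {H : X.Modules}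

/-- Classes orthogonal to an ample class have nonpositive square. -/
theorem form_nonpos (hdim : topologicalKrullDim X = ((2 : ℕ) : WithBot ℕ∞)) (hH : CohB1.IsAmple H)
    {u : PicRing X} (hu : u ∈ Aug X) (h : form k u (cl hH.1) = 0) : form k u u ≤ 0 := by
  haveI := EulerIneqLib.isNoetherian_proper (X := X) k
  obtain ⟨N, hN, hNu⟩ := mem_clsSub hu
  have hNH : form k (cl hN) (cl hH.1) = 0 := (form_congr k hdim hNu (cl_mem _)).trans h
  have hNN : form k (cl hN) (cl hN) = form k u u := by
    rw [form_congr k hdim hNu (cl_mem _), form_comm k, form_congr k hdim hNu hu]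
  by_contra hpos
  push Not at hpos
  obtain ⟨E, hE⟩ := AmpleEmb.eventually_isAmple_tensor hH hN
  have hB := (hE E le_rfl).1
  have hNB : 0 < form k (cl hN) (cl hB.1) := by
    have hmem : cl hB.1 - ((E : ℤ) • cl hH.1 + cl hN) ∈ Aug X ^ 2 := by
      rw [show cl hB.1 = cl (isInvertible_tensor (isInvertible_tensorPow hH.1 E) hN) from rfl,
        cl_tensor (isInvertible_tensorPow hH.1 E) hN, zsmul_eq_mul, Int.cast_natCast]
      have h2 : cl (isInvertible_tensorPow hH.1 E) * cl hN ∈ Aug X ^ 2 := by
        rw [pow_two]; exact Ideal.mul_mem_mul (cl_mem _) (cl_mem _)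
      convert Ideal.add_mem _ (cl_tensorPow_sub_mem hH.1 E) h2 using 1
      ring
    rw [form_comm k, form_congr k hdim hmem (cl_mem _), form_add_left, form_smul_left, form_comm k (cl hH.1),
      hNH, mul_zero, zero_add, hNN]
    exact hpos
  have hpos' : 0 < form k (cl hN) (cl hN) := hNN.symm ▸ hpos
  obtain ⟨n, hn, hs⟩ := exists_section_of_pos k hdim hB hN hpos' hNB
  exact (pairing_ample_pos_of_section k hdim hN hH hn hs hpos').ne' hNH

/-- Classes orthogonal to an ample class and of square zero are orthogonal to everything. -/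
theorem form_eq_zero (hdim : topologicalKrullDim X = ((2 : ℕ) : WithBot ℕ∞)) (hH : CohB1.IsAmple H)
    {u : PicRing X} (hu : u ∈ Aug X) (h : form k u (cl hH.1) = 0) (h2 : form k u u = 0) {v : PicRing X}
    (hv : v ∈ Aug X) : form k u v = 0 := by
  have ha := form_ample_pos k hdim hH
  obtain ⟨w, hw⟩ : ∃ w, w = form k (cl hH.1) (cl hH.1) • v + (-form k v (cl hH.1)) • cl hH.1 := ⟨_, rfl⟩
  have hwm : w ∈ Aug X := hw ▸ add_mem (zsmul_mem hv _) (zsmul_mem (cl_mem _) _)
  have hwH : form k w (cl hH.1) = 0 := by
    rw [hw, form_add_left, form_smul_left, form_smul_left]; ring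
  have huw : form k u w = form k (cl hH.1) (cl hH.1) * form k u v := by
    rw [hw, form_add_right, form_smul_right, form_smul_right, h]; ring
  have hx : form k u w = 0 := by
    obtain ⟨m, hm⟩ : ∃ m : ℤ, m = form k u w * (|form k w w| + 1) := ⟨_, rfl⟩
    have key := form_nonpos k hdim hH (u := m • u + w) (add_mem (zsmul_mem hu _) hwm)
      (by rw [form_add_left, form_smul_left, h, hwH]; ring)
    rw [form_add_left, form_smul_left, form_add_right, form_smul_right, form_add_right, form_smul_right, h2,
      form_comm k w u, hm] at key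
    by_contra hne
    have h1 : 1 ≤ form k u w * form k u w := by
      have := mul_self_pos.2 hne
      omega
    have h3 := mul_le_mul_of_nonneg_right h1 (add_nonneg (abs_nonneg (form k w w)) zero_le_one)
    ring_nf at key h3
    nlinarith [neg_abs_le (form k w w), abs_nonneg (form k w w)]
  rw [huw] at hx
  exact (mul_eq_zero.1 hx).resolve_left ha.ne'

/-- The index theorem with respect to any class of positive square. -/
theorem form_hodge (hdim : topologicalKrullDim X = ((2 : ℕ) : WithBot ℕ∞)) (hH : CohB1.IsAmple H)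
    {u h v : PicRing X} (hu : u ∈ Aug X) (hh : h ∈ Aug X) (hv : v ∈ Aug X) (hpos : 0 < form k h h)
    (horth : form k u h = 0) (hnn : 0 ≤ form k u u) : form k u v = 0 := by
  obtain ⟨a, ha⟩ : ∃ a, a = form k h (cl hH.1) := ⟨_, rfl⟩
  obtain ⟨b, hb⟩ : ∃ b, b = form k u (cl hH.1) := ⟨_, rfl⟩
  obtain ⟨w, hw⟩ : ∃ w, w = a • u + (-b) • h := ⟨_, rfl⟩
  have hwm : w ∈ Aug X := hw ▸ add_mem (zsmul_mem hu _) (zsmul_mem hh _)
  have hwH : form k w (cl hH.1) = 0 := by
    rw [hw, form_add_left, form_smul_left, form_smul_left, ← ha, ← hb]; ring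
  have hww : form k w w = a ^ 2 * form k u u + b ^ 2 * form k h h := by
    rw [hw]
    simp only [form_add_left, form_smul_left, form_add_right, form_smul_right, form_comm k h u, horth]
    ring
  have h0 : form k w w = 0 := le_antisymm (form_nonpos k hdim hH hwm hwH)
    (hww ▸ add_nonneg (mul_nonneg (sq_nonneg a) hnn) (mul_nonneg (sq_nonneg b) hpos.le))
  have hwh := form_eq_zero k hdim hH hwm hwH h0 hh
  rw [hw, form_add_left, form_smul_left, form_smul_left, horth, mul_zero, zero_add] at hwh
  have hb0 : b = 0 := neg_eq_zero.1 ((mul_eq_zero.1 hwh).resolve_right hpos.ne')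
  exact form_eq_zero k hdim hH hu (hb ▸ hb0) (le_antisymm (form_nonpos k hdim hH hu (hb ▸ hb0)) hnn) hv

end Groth.Agent.Nakai
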