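import Groth.Agent.NakaiLib.Push
import Groth.Agent.S0025
import Groth.Agent.AmpleEmb.Immersion

/-!
# Kleiman's theorem on proper schemes, by Chow's lemma
-/

set_option autoImplicit false
set_option backward.isDefEq.respectTransparency false
set_option linter.style.haveILetI false

universe u

open CategoryTheory CategoryTheory.Limits AlgebraicGeometry TopologicalSpace Opposite
open Groth.Agent.PullbackMod Groth.Agent.DCohLib Groth.Agent.DevLib Groth.Agent.QCohLib
open Groth.Agent.HilbLib (HasChain)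
open Groth.Agent.IntLib (PicRing pairing dif inv' compMod)

noncomputable section

namespace Groth.Agent.Nakai

theorem pullRing_mem {X X' : Scheme.{u}} (π : X' ⟶ X) {d : ℕ} {z : PicRing X} (hz : z ∈ Aug X ^ d) :
    pullRing π z ∈ Aug X' ^ d := by
  have h : (Aug X).map (pullRing π) ≤ Aug X' := by
    rw [Aug, Ideal.map_span, Ideal.span_le]
    rintro _ ⟨_, ⟨⟨L, hL⟩, rfl⟩, rfl⟩
    rw [pullRing_cl π hL]
    exact cl_mem _
  exact Ideal.pow_right_mono h d (Ideal.map_pow (pullRing π) (Aug X) d ▸ Ideal.mem_map_of_mem _ hz)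

/-- Chains lift along closed maps. -/
theorem exists_hasChain_lift {X X' : Scheme.{u}} (π : X' ⟶ X) [UniversallyClosed π] :
    ∀ (n : ℕ) (q : X'), HasChain n (closure {π q}) → HasChain n (closure {q})
  | 0, q, _ => ⟨fun _ => q, fun _ => subset_closure rfl, fun i j hij => by omega⟩
  | n + 1, q, h => by
    obtain ⟨x, hx, hne, hch⟩ := h.exists_below
    obtain ⟨q', hq', rfl⟩ : x ∈ π '' closure {q} := by
      have hcl : IsClosed (π '' closure {q}) := π.isClosedMap _ isClosed_closure
      refine closure_minimal ?_ hcl (specializes_iff_mem_closure.1 hx)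
      exact Set.singleton_subset_iff.2 (Set.mem_image_of_mem π (subset_closure (Set.mem_singleton q)))
    obtain ⟨p, hp, hp'⟩ := exists_hasChain_lift π n q' hch
    refine ⟨Fin.snoc p q, fun i => ?_, fun i j hij => ?_⟩
    · induction i using Fin.lastCases with
      | last => rw [Fin.snoc_last]; exact subset_closure rfl
      | cast i =>
        rw [Fin.snoc_castSucc]
        exact closure_minimal (Set.singleton_subset_iff.2 hq') isClosed_closure (hp i)
    · induction j using Fin.lastCases with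
      | last =>
        induction i using Fin.lastCases with
        | last => exact absurd hij (lt_irrefl _)
        | cast i =>
          rw [Fin.snoc_last, Fin.snoc_castSucc]
          have hqi : q' ⤳ p i := specializes_iff_mem_closure.2 (hp i)
          refine ⟨(specializes_iff_mem_closure.2 hq').trans hqi, fun eq => hne ?_⟩
          rw [((specializes_iff_mem_closure.2 hq').antisymm (eq ▸ hqi)).eq]
      | cast j =>
        induction i using Fin.lastCases with
        | last => exact absurd hij (not_lt.2 (Fin.le_last _))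
        | cast i =>
          rw [Fin.snoc_castSucc, Fin.snoc_castSucc]
          exact hp' i j (Fin.castSucc_lt_castSucc_iff.1 hij)

/-- Direct images are supported on the image of the support. -/
theorem support_push_subset {X X' : Scheme.{u}} (π : X' ⟶ X) {N : X'.Modules} {C : Set X} (hC : IsClosed C)
    (h : ∀ x' ∈ CohB1.support N, π x' ∈ C) :
    CohB1.support ((Scheme.Modules.pushforward π).obj N) ⊆ C := fun y hy => by
  by_contra hyC
  refine hy (subsingleton_of_forall_eq 0 fun z => ?_)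
  obtain ⟨U, hyU, s, rfl⟩ := TopCat.Presheaf.exists_germ_eq ((Scheme.Modules.pushforward π).obj N).presheaf z
  let V : X.Opens := U ⊓ ⟨Cᶜ, hC.isOpen_compl⟩
  rw [← TopCat.Presheaf.germ_res_apply ((Scheme.Modules.pushforward π).obj N).presheaf
    (homOfLE (inf_le_left : V ≤ U)) y ⟨hyU, hyC⟩ s]
  refine (congrArg _ ?_).trans (map_zero _)
  refine DevLib.eq_zero_of_forall_germ (M := N) (V := π ⁻¹ᵁ V) _ fun x' hx' => ?_
  exact @Subsingleton.elim _ (not_not.1 fun hs => hx'.2 (h x' hs)) _ _

/-- Over the open where a morphism is an isomorphism direct images keep nonzero stalks. -/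
theorem mem_support_push {X X' : Scheme.{u}} (π : X' ⟶ X) (U : X.Opens) [IsIso (π ∣_ U)] {N : X'.Modules}
    {ζ : X'} (hζ : π ζ ∈ U) (h : ζ ∈ CohB1.support N) :
    π ζ ∈ CohB1.support ((Scheme.Modules.pushforward π).obj N) := fun hs => by
  refine h (subsingleton_of_forall_eq 0 fun z => ?_)
  obtain ⟨W, hW, s, rfl⟩ := TopCat.Presheaf.exists_germ_eq N.presheaf z
  let φ := inv (π ∣_ U)
  let V : X.Opens := U.ι ''ᵁ (φ ⁻¹ᵁ ((π ⁻¹ᵁ U).ι ⁻¹ᵁ W))
  have hm : ∀ x : (π ⁻¹ᵁ U).toScheme, U.ι ((π ∣_ U) x) = π ((π ⁻¹ᵁ U).ι x) := fun x => by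
    rw [← Scheme.Hom.comp_apply, morphismRestrict_ι, Scheme.Hom.comp_apply]
  have hV : π ⁻¹ᵁ V = π ⁻¹ᵁ U ⊓ W := by
    ext x'
    constructor
    · rintro ⟨u, hu, hux⟩
      have hx'U : π x' ∈ U := hux ▸ u.2
      refine ⟨hx'U, ?_⟩
      have hu' : u = (π ∣_ U) ⟨x', hx'U⟩ := Subtype.ext (hux.trans (hm ⟨x', hx'U⟩).symm)
      have : φ u = ⟨x', hx'U⟩ := by
        rw [hu', ← Scheme.Hom.comp_apply, IsIso.hom_inv_id]; rfl
      have hu2 : (π ⁻¹ᵁ U).ι (φ u) ∈ W := hu
      rwa [this] at hu2
    · rintro ⟨hx'U, hx'W⟩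
      refine ⟨(π ∣_ U) ⟨x', hx'U⟩, ?_, hm ⟨x', hx'U⟩⟩
      show (π ⁻¹ᵁ U).ι (φ ((π ∣_ U) ⟨x', hx'U⟩)) ∈ W
      rw [← Scheme.Hom.comp_apply (π ∣_ U) φ, IsIso.hom_inv_id]
      exact hx'W
  have hζV : π ζ ∈ V := (hV.ge ⟨hζ, hW⟩ : ζ ∈ π ⁻¹ᵁ V)
  let t : Γ((Scheme.Modules.pushforward π).obj N, V) :=
    N.presheaf.map (homOfLE (hV.le.trans inf_le_right : π ⁻¹ᵁ V ≤ W)).op s
  have h1 := pushStalk_germ π N ζ (W := V) hζV t
  rw [@Subsingleton.elim _ hs (((Scheme.Modules.pushforward π).obj N).presheaf.germ V (π ζ) hζV t) 0, map_zero] at h1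
  exact (TopCat.Presheaf.germ_res_apply N.presheaf (homOfLE (hV.le.trans inf_le_right : π ⁻¹ᵁ V ≤ W)) ζ hζV s).symm.trans
    h1.symm

variable {X X' : Scheme.{u}} (π : X' ⟶ X) (k : Type u) [Field k] [X.Over (Spec (CommRingCat.of k))]
  [X'.Over (Spec (CommRingCat.of k))]
  [IsProper (X ↘ Spec (CommRingCat.of k))] [IsProper (X' ↘ Spec (CommRingCat.of k))] [IsProper π]

/-- Pairings of a module upstairs are pairings of a direct image. -/
theorem exists_transfer (hπ : π ≫ (X ↘ Spec (CommRingCat.of k)) = X' ↘ Spec (CommRingCat.of k)) {A : X'.Modules}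
    (hA : CohB1.IsAmple A) {F : X'.Modules} (hF : Coh.IsCoh F) {d : ℕ}
    (hd : topologicalKrullDim (CohB1.support F) < ((d + 1 : ℕ) : WithBot ℕ∞)) :
    ∃ N : X'.Modules, Coh.IsCoh N ∧ CohB1.support N = CohB1.support F ∧
      Coh.IsCoh ((Scheme.Modules.pushforward π).obj N) ∧
      ∀ z ∈ Aug X ^ d, pairing k ((Scheme.Modules.pushforward π).obj N) z = pairing k F (pullRing π z) := by
  haveI := EulerIneqLib.isNoetherian_proper (X := X) k
  haveI := EulerIneqLib.isNoetherian_proper (X := X') k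
  haveI : HasInjectiveResolutions X'.Modules := inferInstance
  obtain ⟨t, ht⟩ := exists_rAcyclic π hA hF
  have hP := AmpleLib.isInvertible_tensorPow hA.1 t
  have hN := CurveLib.isCoh_tmod hF (CurveLib.isCoh_of_isInvertible hP)
  haveI := hN.1
  refine ⟨_, hN, HilbLib.support_tensor hP F, RpushLib.isCoh_push π hN, fun z hz => ?_⟩
  rw [pairing_proper_push π k hπ hN (ht t le_rfl) z]
  show pairing k (CohB1.tensorMod F (CohB1.tensorPow A t)) _ = _
  rw [← IntLib.pairing_of_mul k F hP]
  refine pairing_congr k (n := d + 1) ?_ hF hd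
  rw [show MonoidAlgebra.of ℤ (IntLib.Inv X') (inv' hP) * pullRing π z - pullRing π z = cl hP * pullRing π z by
    rw [cl, sub_mul, one_mul], pow_succ']
  exact Ideal.mul_mem_mul (cl_mem _) (pullRing_mem π hz)

/-- Nef modules pull back to nef modules. -/
theorem NefP.pullback (hπ : π ≫ (X ↘ Spec (CommRingCat.of k)) = X' ↘ Spec (CommRingCat.of k)) {A : X'.Modules}
    (hA : CohB1.IsAmple A) {L : X.Modules} {hL : PicF.IsInvertible L} (h : NefP k hL) :
    NefP k (AmpleLib.isInvertible_pullback π hL) := fun ζ hζ => by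
  haveI := EulerIneqLib.isNoetherian_proper (X := X') k
  haveI := EulerIneqLib.isNoetherian_proper (X := X) k
  have hlt : topologicalKrullDim (closure {ζ} : Set X') < ((1 + 1 : ℕ) : WithBot ℕ∞) := by
    rw [hζ]; exact_mod_cast Nat.lt_succ_self 1
  have hd : topologicalKrullDim (CohB1.support (compMod ζ)) < ((1 + 1 : ℕ) : WithBot ℕ∞) :=
    dim_supp_le (IntLib.isPiece_compMod ζ).supp hlt
  obtain ⟨N, -, hsN, hG, hz⟩ := exists_transfer π k hπ hA (IntLib.isPiece_compMod ζ).coh hd
  rw [← pullRing_cl π hL, ← hz _ (by rw [pow_one]; exact cl_mem hL)]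
  refine h.nonneg k hG (lt_of_le_of_lt (Topology.IsEmbedding.inclusion
    (support_push_subset π (C := closure {π ζ}) isClosed_closure fun x' hx' => ?_)).isInducing.topologicalKrullDim_le ?_)
  · rw [hsN] at hx'
    exact specializes_iff_mem_closure.1 (((IntLib.isPiece_compMod ζ).supp x' hx').map π.continuous)
  · by_contra hno
    exact (HilbLib.not_dim_lt_iff isClosed_closure _).2
      (exists_hasChain_lift π 2 ζ ((HilbLib.not_dim_lt_iff isClosed_closure _).1 hno)) hlt

omit [X'.Over (Spec (CommRingCat.of k))] [IsProper (X' ↘ Spec (CommRingCat.of k))] in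
include k in
/-- Isomorphic points have closures of equal dimension. -/
theorem dim_closure_eq (U : X.Opens) [IsIso (π ∣_ U)] {ζ : X'} (hζ : π ζ ∈ U) :
    topologicalKrullDim (closure {ζ} : Set X') = topologicalKrullDim (closure {π ζ} : Set X) := by
  obtain ⟨t, ht, hdt⟩ := FlatDim.topologicalKrullDim_closure k (π ≫ (X ↘ Spec (CommRingCat.of k))) ζ
  obtain ⟨s, hs, hds⟩ := FlatDim.topologicalKrullDim_closure k (X ↘ Spec (CommRingCat.of k)) (π ζ)
  have h0 := FlatDim.resTrdegAt_congr (morphismRestrict_ι π U).symm ⟨ζ, hζ⟩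
  rw [FlatDim.resTrdegAt_comp, FlatDim.resTrdegAt_comp, FlatDim.resTrdegAt_preimmersion (π ⁻¹ᵁ U).ι,
    FlatDim.resTrdegAt_preimmersion (π ∣_ U), FlatDim.resTrdegAt_preimmersion U.ι, add_zero] at h0
  have h1 : DimFormulaLib.resTrdegAt π ζ = 0 := (by simpa using h0)
  rw [FlatDim.resTrdegAt_comp, h1, add_zero, hs] at ht
  rw [hdt, hds, Nat.cast_inj.1 ht]

/-- Kleiman's theorem on an integral proper scheme. -/
theorem kleiman_integral {X : Scheme.{u}} [X.Over (Spec (CommRingCat.of k))]
    [IsProper (X ↘ Spec (CommRingCat.of k))] [IsIntegral X] {d : ℕ}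
    (hd : topologicalKrullDim X = (d : WithBot ℕ∞)) {L : X.Modules} {hL : PicF.IsInvertible L} (hn : NefP k hL) :
    0 ≤ pairing k (Coh.structureModule X) (cl hL ^ d) := by
  haveI := EulerIneqLib.isNoetherian_proper (X := X) k
  obtain ⟨n, X', π, j, hj, hjf, hπp, hπs, U, hU, hiso⟩ :=
    Groth.Agent.S0025.result (X ↘ Spec (CommRingCat.of k))
  letI : X'.Over (Spec (CommRingCat.of k)) := ⟨π ≫ (X ↘ Spec (CommRingCat.of k))⟩
  haveI : IsProper (X' ↘ Spec (CommRingCat.of k)) :=
    (inferInstanceAs (IsProper (π ≫ (X ↘ Spec (CommRingCat.of k)))))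
  haveI := EulerIneqLib.isNoetherian_proper (X := X') k
  haveI : IsProper (j ≫ CohB1.ProjSpaceOver.toBase n (Spec (CommRingCat.of k))) := hjf ▸ inferInstance
  haveI : IsProper j := IsProper.of_comp j (CohB1.ProjSpaceOver.toBase n (Spec (CommRingCat.of k)))
  haveI : IsClosedImmersion j := .of_isPreimmersion j j.isClosedMap.isClosed_range
  have hA := AmpleLib.isAmple_pullback j (AmpleEmb.isAmple_twistOver (Y := Spec (CommRingCat.of k)) n)
  have hne : (U : Set X).Nonempty := by
    obtain ⟨y, hy, -⟩ := hU.inter_open_nonempty Set.univ isOpen_univ ⟨genericPoint X, trivial⟩ |>.imp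
      fun y hy => And.intro hy.2 hy.1
    exact ⟨y, hy⟩
  have hηU : genericPoint X ∈ U := ((genericPoint_spec X).mem_open_set_iff U.isOpen).2 (by rwa [Set.univ_inter])
  obtain ⟨ζ, hζ⟩ := hπs.surj (genericPoint X)
  have hdζ : topologicalKrullDim (closure {ζ} : Set X') = (d : WithBot ℕ∞) := by
    rw [dim_closure_eq π k U (hζ ▸ hηU), hζ, (genericPoint_spec X).def,
      (Homeomorph.Set.univ X).isHomeomorph.topologicalKrullDim_eq, hd]
  have hP := IntLib.isPiece_compMod ζ
  have hdlt : topologicalKrullDim (closure {ζ} : Set X') < ((d + 1 : ℕ) : WithBot ℕ∞) := by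
    rw [hdζ]; exact_mod_cast Nat.lt_succ_self d
  have hd' := dim_supp_le hP.supp hdlt
  obtain ⟨N, hN, hsN, hG, hz⟩ := exists_transfer π k rfl hA hP.coh hd'
  have hzd : cl hL ^ d ∈ Aug X ^ d := Ideal.pow_mem_pow (cl_mem hL) d
  have h1 : 0 ≤ pairing k ((Scheme.Modules.pushforward π).obj N) (cl hL ^ d) := by
    rw [hz _ hzd, map_pow, pullRing_cl]
    have := klOK k d X' _ _ (AmpleLib.isInvertible_pullback π hL) hA (hn.pullback π k rfl hA) _ hP.coh hd' d le_rfl
    simpa [mono2] using this
  have hdX : topologicalKrullDim (closure {genericPoint X} : Set X) < ((d + 1 : ℕ) : WithBot ℕ∞) := by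
    rw [(genericPoint_spec X).def, (Homeomorph.Set.univ X).isHomeomorph.topologicalKrullDim_eq, hd]
    exact_mod_cast Nat.lt_succ_self d
  have hdev : ∀ F : X.Modules, Coh.IsCoh F → ∃ m : ℕ,
      pairing k F (cl hL ^ d) = (m : ℤ) * pairing k (Coh.structureModule X) (cl hL ^ d) ∧
        (genericPoint X ∈ CohB1.support F → 0 < m) := fun F hF => by
    refine devissage Set.univ (fun F => ∃ m : ℕ,
      pairing k F (cl hL ^ d) = (m : ℤ) * pairing k (Coh.structureModule X) (cl hL ^ d) ∧
        (genericPoint X ∈ CohB1.support F → 0 < m)) ?_ ?_ ?_ ?_ F hF (Set.subset_univ _)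
    · rintro A B ⟨e⟩ ⟨m, hm, hm'⟩
      exact ⟨m, (IntLib.pairing_iso k e _).symm.trans hm, fun h => hm' fun hs =>
        h (HilbLib.stalkLin_bijective_of_iso e (genericPoint X)).surjective.subsingleton⟩
    · intro A hA'
      exact ⟨0, by rw [IntLib.pairing_isZero k hA']; simp, fun h => absurd h (by
        rw [HilbLib.support_eq_empty_of_isZero hA']; exact Set.notMem_empty _)⟩
    · rintro S hS h₁ h₂ h₃ - ⟨a, ha, ha'⟩ ⟨b, hb, hb'⟩
      refine ⟨a + b, by rw [IntLib.pairing_shortExact k hS h₁ h₂ h₃, ha, hb]; push_cast; ring, fun h => ?_⟩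
      rw [support_X₂ hS] at h
      rcases h with h | h
      · have := ha' h; omega
      · have := hb' h; omega
    · intro ξ _ _ Q hQ _
      by_cases he : ξ = genericPoint X
      · subst he
        exact ⟨1, by rw [pairing_piece k hQ (isPiece_structureModule X) hdX hzd]; simp, fun _ => one_pos⟩
      · have hno : genericPoint X ∉ closure ({ξ} : Set X) := fun hm =>
          he ((specializes_iff_mem_closure.2 hm).antisymm (genericPoint_specializes ξ)).eq
        refine ⟨0, ?_, fun h => absurd (specializes_iff_mem_closure.1 (hQ.supp _ h)) hno⟩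
        rw [Nat.cast_zero, zero_mul]
        exact pairing_mem_eq_zero k hzd hQ.coh (dim_supp_le hQ.supp (HilbLib.dim_lt_of_notMem isClosed_closure
          (by rw [(genericPoint_spec X).def]; exact Set.subset_univ _) hno hdX))
  obtain ⟨m, hm, hm'⟩ := hdev _ hG
  have hmem : genericPoint X ∈ CohB1.support ((Scheme.Modules.pushforward π).obj N) := hζ ▸
    mem_support_push π U (hζ ▸ hηU) (hsN ▸ fun hs => by
      haveI := hP.simple
      haveI := IsSimpleModule.nontrivial (X'.presheaf.stalk ζ) ((compMod ζ).presheaf.stalk ζ)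
      exact not_subsingleton _ hs)
  rw [hm] at h1
  exact nonneg_of_mul_nonneg_right h1 (by exact_mod_cast hm' hmem)

omit [X'.Over (Spec (CommRingCat.of k))] [IsProper (X' ↘ Spec (CommRingCat.of k))] [IsProper π] in
/-- Kleiman's theorem on a proper scheme. -/
theorem kleiman {L : X.Modules} {hL : PicF.IsInvertible L} (hn : NefP k hL) {F : X.Modules} (hF : Coh.IsCoh F)
    {d : ℕ} (hd : topologicalKrullDim (CohB1.support F) < ((d + 1 : ℕ) : WithBot ℕ∞)) :
    0 ≤ pairing k F (cl hL ^ d) := by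
  refine pairing_nonneg k (Ideal.pow_mem_pow (cl_mem hL) d) hF hd fun ξ _ hξ => ?_
  haveI := EulerIneqLib.isNoetherian_proper (X := X) k
  let J := Scheme.IdealSheafData.vanishingIdeal (⟨closure {ξ}, isClosed_closure⟩ : Closeds X)
  letI : J.subscheme.Over (Spec (CommRingCat.of k)) := ⟨J.subschemeι ≫ (X ↘ Spec (CommRingCat.of k))⟩
  haveI : IsProper (J.subscheme ↘ Spec (CommRingCat.of k)) :=
    (inferInstanceAs (IsProper (J.subschemeι ≫ (X ↘ Spec (CommRingCat.of k)))))
  haveI := CurveLib.isIntegral_vanishingIdeal (X := X) (C := closure {ξ}) isClosed_closure isIrreducible_singleton.closure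
  haveI := EulerIneqLib.isNoetherian_proper (X := J.subscheme) k
  have hcomp : compMod ξ = (Scheme.Modules.pushforward J.subschemeι).obj (Coh.structureModule J.subscheme) := rfl
  rw [hcomp, pairing_push k J.subschemeι rfl (isCoh_structureModule _), map_pow, pullRing_cl]
  exact kleiman_integral k ((dim_vanishing ξ).trans hξ) (hn.restrict k J.subschemeι rfl)

end Groth.Agent.Nakai
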