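import Groth.Agent.NakaiLib.Hodge
import Groth.Agent.NakaiLib.ProperKleiman
import Groth.Agent.BlowExistsLib.Glue
import Groth.Agent.BlowExistsLib.Proper
import Groth.Agent.BlowCompLib.Basic
import Groth.Agent.S2348
import Groth.Agent.S8862
import Groth.Agent.S8914

/-!
# The index theorem on proper surfaces
-/

set_option autoImplicit false
set_option backward.isDefEq.respectTransparency false
set_option linter.style.haveILetI false

universe u

open CategoryTheory CategoryTheory.Limits AlgebraicGeometry TopologicalSpace Opposite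
open Groth.Agent.PullbackMod Groth.Agent.DCohLib Groth.Agent.DevLib Groth.Agent.QCohLib
open Groth.Agent.HilbLib (HasChain)
open Groth.Agent.IntLib (PicRing pairing dif inv' compMod)

noncomputable section

namespace Groth.Agent.Nakai

variable {X : Scheme.{u}} (k : Type u) [Field k] [X.Over (Spec (CommRingCat.of k))]
  [IsProper (X ↘ Spec (CommRingCat.of k))]

/-- A module supported on the closure of a point is a positive multiple of that closure. -/
theorem exists_pairing_eq_mul {d : ℕ} {η : X} (hη : topologicalKrullDim (closure {η} : Set X) = (d : WithBot ℕ∞))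
    {G : X.Modules} (hG : Coh.IsCoh G) (hsub : CohB1.support G ⊆ closure {η}) (hmem : η ∈ CohB1.support G) :
    ∃ a : ℕ, 0 < a ∧ ∀ z ∈ Aug X ^ d, pairing k G z = (a : ℤ) * pairing k (compMod η) z := by
  classical
  haveI := EulerIneqLib.isNoetherian_proper (X := X) k
  have hdG : topologicalKrullDim (CohB1.support G) ≤ (d : WithBot ℕ∞) :=
    le_of_le_of_eq (Topology.IsEmbedding.inclusion hsub).isInducing.topologicalKrullDim_le hη
  have hs : ∀ ξ : X, ξ ∈ ({η} : Finset X) ↔
      ξ ∈ CohB1.support G ∧ topologicalKrullDim (closure ({ξ} : Set X)) = (d : WithBot ℕ∞) := fun ξ => by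
    rw [Finset.mem_singleton]
    refine ⟨fun h => h ▸ ⟨hmem, hη⟩, fun ⟨h1, h2⟩ => by_contra fun hne => ?_⟩
    exact IntLib.dim_closure_succ (specializes_iff_mem_closure.2 (hsub h1)) (Ne.symm hne) h2 hη.le
  have key : ∀ z ∈ Aug X ^ d, Module.length (X.presheaf.stalk η) (G.presheaf.stalk η) ≠ ⊤ ∧ pairing k G z =
      ((Module.length (X.presheaf.stalk η) (G.presheaf.stalk η)).toNat : ℤ) * pairing k (compMod η) z := fun z hz => by
    obtain ⟨h1, h2⟩ := DegDevLib.additive_decomp (fun F => pairing k F z)
      (fun A B ⟨e⟩ => IntLib.pairing_iso k e z)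
      (fun S hS a b c => IntLib.pairing_shortExact k hS a b c z)
      (fun N hN => IntLib.pairing_isZero k hN z) (r := d)
      (fun N hN hlt => pairing_mem_eq_zero k hz hN hlt) hG hdG {η} hs
    refine ⟨h1 η (Finset.mem_singleton_self η), ?_⟩
    simpa using h2
  refine ⟨(Module.length (X.presheaf.stalk η) (G.presheaf.stalk η)).toNat, Nat.pos_of_ne_zero fun h0 => hmem ?_,
    fun z hz => (key z hz).2⟩
  rcases ENat.toNat_eq_zero.1 h0 with h | h
  · exact Module.length_eq_zero_iff.1 h
  · exact absurd h (key 0 (zero_mem _)).1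

/-- The structure sheaf of a closed subscheme has nonzero stalks on it. -/
theorem mem_support_quotMod {Y : Scheme.{u}} (D : Y.IdealSheafData) {y : Y} (hy : y ∈ D.support) :
    y ∈ CohB1.support (ClSub.quotMod D) := by
  obtain ⟨z, rfl⟩ : y ∈ Set.range D.subschemeι := by rw [Scheme.IdealSheafData.range_subschemeι]; exact hy
  intro hsub
  let one : Γ((Scheme.Modules.pushforward D.subschemeι).obj (Coh.structureModule D.subscheme), ⊤) :=
    (1 : Γ(D.subscheme, ⊤))
  have h1 := pushStalk_germ D.subschemeι (Coh.structureModule D.subscheme) z (W := ⊤) trivial one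
  rw [@Subsingleton.elim _ hsub (((Scheme.Modules.pushforward D.subschemeι).obj (Coh.structureModule D.subscheme)).presheaf.germ
    ⊤ (D.subschemeι z) trivial one) 0, map_zero] at h1
  exact one_ne_zero (α := D.subscheme.presheaf.stalk z) ((ParaFLib.bijective_oneG z).1
    ((one_smul _ _).trans (h1.symm.trans (zero_smul _ _).symm)))

/-- Pairings upstairs are multiples of the pairings of the image. -/
theorem exists_mult_push {X' : Scheme.{u}} (π : X' ⟶ X) [X'.Over (Spec (CommRingCat.of k))]
    [IsProper (X' ↘ Spec (CommRingCat.of k))] [IsProper π]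
    (hπ : π ≫ (X ↘ Spec (CommRingCat.of k)) = X' ↘ Spec (CommRingCat.of k)) {A : X'.Modules}
    (hA : CohB1.IsAmple A) {F : X'.Modules} (hF : Coh.IsCoh F) {d : ℕ} {η : X}
    (hη : topologicalKrullDim (closure {η} : Set X) = (d : WithBot ℕ∞))
    (hd : topologicalKrullDim (CohB1.support F) < ((d + 1 : ℕ) : WithBot ℕ∞))
    (hmap : ∀ x ∈ CohB1.support F, π x ∈ closure {η}) {ζ : X'} (hζ : π ζ = η) (hζF : ζ ∈ CohB1.support F) :
    ∃ a : ℕ, 0 < a ∧ ∀ z ∈ Aug X ^ d, pairing k F (pullRing π z) = (a : ℤ) * pairing k (compMod η) z := by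
  haveI := EulerIneqLib.isNoetherian_proper (X := X) k
  haveI := EulerIneqLib.isNoetherian_proper (X := X') k
  haveI : HasInjectiveResolutions X'.Modules := inferInstance
  obtain ⟨t₀, ht⟩ := exists_rAcyclic π hA hF
  obtain ⟨t₁, ht'⟩ := AmpleEmb.eventually_isGloballyGenerated hA hF
  obtain ⟨N, hNdef⟩ : ∃ N, N = CohB1.tensorMod F (CohB1.tensorPow A (max t₀ t₁)) := ⟨_, rfl⟩
  have hP := AmpleLib.isInvertible_tensorPow hA.1 (max t₀ t₁)
  have hN : Coh.IsCoh N := hNdef ▸ CurveLib.isCoh_tmod hF (CurveLib.isCoh_of_isInvertible hP)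
  haveI := hN.1
  have hsN : CohB1.support N = CohB1.support F := by
    subst hNdef
    haveI := hF.1
    exact HilbLib.support_tensor hP F
  have hgen : Curv2.IsGloballyGenerated N := hNdef ▸ ht' _ (le_max_right _ _)
  have hG := RpushLib.isCoh_push π hN
  obtain ⟨σ, hσ⟩ : ∃ σ : Γ(N, ⊤), N.presheaf.germ ⊤ ζ trivial σ ≠ 0 := by
    by_contra hno
    push Not at hno
    refine (hsN.symm ▸ hζF : ζ ∈ CohB1.support N) (subsingleton_of_forall_eq 0 fun v => ?_)
    have hv : v ∈ (⊥ : Submodule (X'.presheaf.stalk ζ) (N.presheaf.stalk ζ)) := by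
      refine (le_of_eq_of_le (ProjBundleLib.span_germ_of_isGloballyGenerated hgen ζ).symm (Submodule.span_le.2 ?_))
        Submodule.mem_top
      rintro _ ⟨σ, rfl⟩
      exact hno σ
    exact (Submodule.mem_bot _).1 hv
  have hmem : η ∈ CohB1.support ((Scheme.Modules.pushforward π).obj N) := fun hsub => hσ (by
    subst hζ
    have h1 := pushStalk_germ π N ζ (W := ⊤) trivial σ
    rw [@Subsingleton.elim _ hsub (((Scheme.Modules.pushforward π).obj N).presheaf.germ ⊤ (π ζ) trivial σ) 0,
      map_zero] at h1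
    exact h1.symm)
  obtain ⟨a, ha, key⟩ := exists_pairing_eq_mul k hη hG
    (support_push_subset π isClosed_closure fun x hx => hmap x (hsN ▸ hx)) hmem
  refine ⟨a, ha, fun z hz => ?_⟩
  rw [← key z hz, pairing_proper_push π k hπ hN (hNdef ▸ ht _ (le_max_left _ _)) z]
  subst hNdef
  rw [← IntLib.pairing_of_mul k F hP]
  refine (pairing_congr k (n := d + 1) ?_ hF hd).symm
  rw [show MonoidAlgebra.of ℤ (IntLib.Inv X') (inv' hP) * pullRing π z - pullRing π z = cl hP * pullRing π z by
    rw [cl, sub_mul, one_mul], pow_succ']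
  exact Ideal.mul_mem_mul (cl_mem _) (pullRing_mem π hz)

omit [X.Over (Spec (CommRingCat.of k))] [IsProper (X ↘ Spec (CommRingCat.of k))] in
/-- Projective birational models. -/
theorem exists_model (W : Scheme.{u}) [W.Over (Spec (CommRingCat.of k))] [IsProper (W ↘ Spec (CommRingCat.of k))]
    [IsIntegral W] :
    ∃ (W' : Scheme.{u}) (π : W' ⟶ W) (_ : IsIntegral W'), IsProper π ∧ Surjective π ∧
      π (genericPoint W') = genericPoint W ∧ topologicalKrullDim W' = topologicalKrullDim W ∧
      ∃ A : W'.Modules, CohB1.IsAmple A := by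
  haveI := EulerIneqLib.isNoetherian_proper (X := W) k
  obtain ⟨n, X', π, j, hj, hjf, hπp, hπs, U, hU, hiso⟩ :=
    Groth.Agent.S0025.result (W ↘ Spec (CommRingCat.of k))
  letI : X'.Over (Spec (CommRingCat.of k)) := ⟨π ≫ (W ↘ Spec (CommRingCat.of k))⟩
  haveI : IsProper (j ≫ CohB1.ProjSpaceOver.toBase n (Spec (CommRingCat.of k))) := hjf ▸ inferInstance
  haveI : IsProper j := IsProper.of_comp j (CohB1.ProjSpaceOver.toBase n (Spec (CommRingCat.of k)))
  haveI : IsClosedImmersion j := .of_isPreimmersion j j.isClosedMap.isClosed_range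
  obtain ⟨ζ, hζ⟩ := hπs.surj (genericPoint W)
  let J := Scheme.IdealSheafData.vanishingIdeal (⟨closure {ζ}, isClosed_closure⟩ : Closeds X')
  have hr : Set.range J.subschemeι = closure {ζ} := by
    rw [Scheme.IdealSheafData.range_subschemeι, Scheme.IdealSheafData.coe_support_vanishingIdeal]; rfl
  haveI hJint : IsIntegral J.subscheme :=
    CurveLib.isIntegral_vanishingIdeal isClosed_closure isIrreducible_singleton.closure
  have hgen : J.subschemeι (genericPoint J.subscheme) = ζ := by
    have h1 : IsGenericPoint (J.subschemeι (genericPoint J.subscheme)) (closure {ζ}) := by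
      have := (genericPoint_spec J.subscheme).image J.subschemeι.continuous
      rwa [Set.image_univ, hr, closure_closure] at this
    exact h1.eq isGenericPoint_closure
  haveI hJp : IsProper (J.subschemeι ≫ π) := inferInstance
  have hgen' : (J.subschemeι ≫ π) (genericPoint J.subscheme) = genericPoint W := by
    rw [Scheme.Hom.comp_apply, hgen, hζ]
  refine ⟨J.subscheme, J.subschemeι ≫ π, hJint, hJp, ⟨?_⟩, hgen', ?_,
    ⟨_, AmpleLib.isAmple_pullback (J.subschemeι ≫ j) (AmpleEmb.isAmple_twistOver (Y := Spec (CommRingCat.of k)) n)⟩⟩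
  · intro y
    have hcl := (J.subschemeι ≫ π).isClosedMap.isClosed_range
    exact hcl.closure_subset_iff.2 (Set.singleton_subset_iff.2 ⟨_, hgen'⟩)
      (specializes_iff_mem_closure.1 (genericPoint_specializes y))
  · have hne : genericPoint W ∈ U := by
      obtain ⟨y, -, hy⟩ := hU.inter_open_nonempty Set.univ isOpen_univ ⟨genericPoint W, trivial⟩
      exact (genericPoint_specializes y).mem_open U.isOpen hy
    rw [J.subschemeι.isEmbedding.toHomeomorph.isHomeomorph.topologicalKrullDim_eq, hr,
      dim_closure_eq π k U (hζ ▸ hne), hζ, (genericPoint_spec W).def,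
      (Homeomorph.Set.univ W).isHomeomorph.topologicalKrullDim_eq]

/-- The index theorem on an irreducible proper surface. -/
theorem hodge_proper [IrreducibleSpace X] (hdim : topologicalKrullDim X = ((2 : ℕ) : WithBot ℕ∞))
    {u h : PicRing X} (hu : u ∈ Aug X) (hh : h ∈ Aug X) (hpos : 0 < form k h h)
    (horth : form k u h = 0) (hnn : 0 ≤ form k u u) {ξ : X}
    (hξ : topologicalKrullDim (closure {ξ} : Set X) = ((1 : ℕ) : WithBot ℕ∞)) :
    pairing k (compMod ξ) u = 0 := by
  haveI := EulerIneqLib.isNoetherian_proper (X := X) k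
  let η : X := genericPoint X
  have hηd : topologicalKrullDim (closure {η} : Set X) = ((2 : ℕ) : WithBot ℕ∞) := by
    rw [(genericPoint_spec X).def, (Homeomorph.Set.univ X).isHomeomorph.topologicalKrullDim_eq, hdim]
  let J := Scheme.IdealSheafData.vanishingIdeal (⟨closure {η}, isClosed_closure⟩ : Closeds X)
  have hr : Set.range J.subschemeι = closure {η} := by
    rw [Scheme.IdealSheafData.range_subschemeι, Scheme.IdealSheafData.coe_support_vanishingIdeal]; rfl
  haveI hJint : IsIntegral J.subscheme :=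
    CurveLib.isIntegral_vanishingIdeal isClosed_closure isIrreducible_singleton.closure
  letI : J.subscheme.Over (Spec (CommRingCat.of k)) := ⟨J.subschemeι ≫ (X ↘ Spec (CommRingCat.of k))⟩
  haveI : IsProper (J.subscheme ↘ Spec (CommRingCat.of k)) :=
    inferInstanceAs (IsProper (J.subschemeι ≫ (X ↘ Spec (CommRingCat.of k))))
  haveI := EulerIneqLib.isNoetherian_proper (X := J.subscheme) k
  obtain ⟨ξ₀, hξ₀⟩ : ξ ∈ Set.range J.subschemeι := by rw [hr, (genericPoint_spec X).def]; trivial
  have hgJ : J.subschemeι (genericPoint J.subscheme) = η := by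
    have h1 : IsGenericPoint (J.subschemeι (genericPoint J.subscheme)) (closure {η}) := by
      have := (genericPoint_spec J.subscheme).image J.subschemeι.continuous
      rwa [Set.image_univ, hr, closure_closure] at this
    exact h1.eq isGenericPoint_closure
  have hηξ : η ∉ closure ({ξ} : Set X) := fun hmem => by
    have h1 : topologicalKrullDim (closure {η} : Set X) ≤ ((1 : ℕ) : WithBot ℕ∞) := hξ ▸
      (Topology.IsEmbedding.inclusion (closure_minimal (Set.singleton_subset_iff.2 hmem) isClosed_closure)).isInducing.topologicalKrullDim_le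
    rw [hηd] at h1
    exact absurd (by exact_mod_cast h1 : 2 ≤ 1) (by omega)
  let I : J.subscheme.IdealSheafData :=
    Scheme.IdealSheafData.vanishingIdeal (⟨closure {ξ₀}, isClosed_closure⟩ : Closeds J.subscheme)
  have hIs : (I.support : Set J.subscheme) = closure {ξ₀} := Scheme.IdealSheafData.coe_support_vanishingIdeal _
  have hgI : genericPoint J.subscheme ∉ I.support := fun hmem => hηξ (by
    rw [← hgJ, ← hξ₀]
    exact (specializes_iff_mem_closure.2 (hIs ▸ hmem : genericPoint J.subscheme ∈ closure {ξ₀})).map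
      J.subschemeι.continuous |>.mem_closure)
  have hI : I ≠ ⊥ := fun h0 => hgI (by rw [h0, Scheme.IdealSheafData.support_bot]; trivial)
  obtain ⟨B, b, hb⟩ := Groth.Agent.BlowExistsLib.exists_isBlowUp (𝓘 := I)
  obtain ⟨hBint, hgb, -⟩ := Groth.Agent.S2348.result I hI b hb
  haveI := hBint
  haveI : IsProper b := Groth.Agent.BlowExistsLib.isProper_of_FG hb fun U => by
    haveI := IsLocallyNoetherian.component_noetherian U
    exact Ideal.fg_of_isNoetherianRing _
  letI : B.Over (Spec (CommRingCat.of k)) := ⟨b ≫ (J.subscheme ↘ Spec (CommRingCat.of k))⟩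
  haveI : IsProper (B ↘ Spec (CommRingCat.of k)) :=
    inferInstanceAs (IsProper (b ≫ (J.subscheme ↘ Spec (CommRingCat.of k))))
  obtain ⟨W, p, hWint, hpp, hps, hgp, hpd, A, hA⟩ := exists_model k B
  haveI := hWint
  haveI := hpp
  let φ : W ⟶ X := p ≫ b ≫ J.subschemeι
  letI : W.Over (Spec (CommRingCat.of k)) := ⟨φ ≫ (X ↘ Spec (CommRingCat.of k))⟩
  haveI : IsProper φ := inferInstanceAs (IsProper (p ≫ b ≫ J.subschemeι))
  haveI : IsProper (W ↘ Spec (CommRingCat.of k)) := inferInstanceAs (IsProper (φ ≫ (X ↘ Spec (CommRingCat.of k))))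
  haveI := EulerIneqLib.isNoetherian_proper (X := W) k
  have hgφ : φ (genericPoint W) = η := by
    show J.subschemeι (b (p (genericPoint W))) = η
    rw [hgp]
    exact (congrArg J.subschemeι hgb).trans hgJ
  have hdW : topologicalKrullDim W = ((2 : ℕ) : WithBot ℕ∞) := by
    rw [hpd]
    haveI := BlowCompLib.isIso_restrict I b hb
    have h1 := dim_closure_eq b k I.support.compl (ζ := genericPoint B) (by rw [hgb]; exact hgI)
    rw [hgb, (genericPoint_spec B).def, (Homeomorph.Set.univ B).isHomeomorph.topologicalKrullDim_eq,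
      (genericPoint_spec J.subscheme).def, (Homeomorph.Set.univ J.subscheme).isHomeomorph.topologicalKrullDim_eq,
      J.subschemeι.isEmbedding.toHomeomorph.isHomeomorph.topologicalKrullDim_eq, hr, hηd] at h1
    exact h1
  have hOW := DevLib.isCoh_structureModule W
  have hOs : ∀ {Y : Scheme.{u}}, CohB1.support (Coh.structureModule Y) = Set.univ := fun {Y} =>
    Set.eq_univ_of_forall fun x =>
      haveI : Nontrivial ((Coh.structureModule Y).presheaf.stalk x) := (ParaFLib.bijective_oneG x).1.nontrivial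
      not_subsingleton _
  obtain ⟨a, ha, hup⟩ := exists_mult_push k φ rfl hA hOW hηd
    (lt_of_le_of_lt (Topology.IsInducing.subtypeVal.topologicalKrullDim_le.trans hdW.le)
      (by exact_mod_cast Nat.lt_succ_self 2))
    (fun x _ => by rw [(genericPoint_spec X).def]; trivial) hgφ (hOs.symm ▸ trivial)
  obtain ⟨c, hc, hdown⟩ := exists_pairing_eq_mul k hηd (DevLib.isCoh_structureModule X)
    (by rw [(genericPoint_spec X).def]; exact Set.subset_univ _) (hOs.symm ▸ trivial)
  have hform : ∀ {v w : PicRing X}, v ∈ Aug X → w ∈ Aug X →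
      (c : ℤ) * form k (pullRing φ v) (pullRing φ w) = (a : ℤ) * form k v w := fun {v w} hv hw => by
    have hz : v * w ∈ Aug X ^ 2 := by rw [pow_two]; exact Ideal.mul_mem_mul hv hw
    rw [form, form, ← map_mul, hup _ hz, hdown _ hz]
    ring
  have hmemW : ∀ {v : PicRing X}, v ∈ Aug X → pullRing φ v ∈ Aug W := fun {v} hv => by
    simpa using pullRing_mem φ (d := 1) (z := v) (by simpa using hv)
  have hc0 : (0 : ℤ) < c := by exact_mod_cast hc
  have ha0 : (0 : ℤ) < a := by exact_mod_cast ha
  have hpos' : 0 < form k (pullRing φ h) (pullRing φ h) :=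
    pos_of_mul_pos_right (lt_of_lt_of_eq (mul_pos ha0 hpos) (hform hh hh).symm) hc0.le
  have horth' : form k (pullRing φ u) (pullRing φ h) = 0 := by
    have := hform hu hh
    rw [horth, mul_zero] at this
    exact (mul_eq_zero.1 this).resolve_left hc0.ne'
  have hnn' : 0 ≤ form k (pullRing φ u) (pullRing φ u) :=
    nonneg_of_mul_nonneg_right (le_of_le_of_eq (mul_nonneg ha0.le hnn) (hform hu hu).symm) hc0
  let E : W.IdealSheafData := (I.comap b).comap p
  have hEc : BlowUp.IsEffCartierIdeal E := Groth.Agent.S8862.result p (I.comap b) hb.1 fun w hw => by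
    rw [← hw (genericPoint W) (genericPoint_specializes w), hgp]
    rw [← SetLike.mem_coe, Scheme.IdealSheafData.support_comap]
    intro hmem
    exact hgI (hgb ▸ hmem)
  have hEi : PicF.IsInvertible (ClSub.idealMod E) := (Groth.Agent.S8914.result E).2 hEc
  have hEs : ∀ w : W, w ∈ E.support ↔ b (p w) ∈ I.support := fun w => by
    show w ∈ (E.support : Set W) ↔ _
    rw [show (E.support : Set W) = p ⁻¹' (b ⁻¹' (I.support : Set J.subscheme)) by
      rw [Scheme.IdealSheafData.support_comap, Closeds.coe_preimage, Scheme.IdealSheafData.support_comap,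
        Closeds.coe_preimage]]
    rfl
  have hzero : pairing k (ClSub.quotMod E) (pullRing φ u) = 0 := by
    rw [IntLib.pairing_quotMod k hEi, mul_comm]
    refine form_hodge k hdW hA (hmemW hu) (hmemW hh) ?_ hpos' horth' hnn'
    rw [← neg_neg (dif hEi), ← cl_eq_neg_dif]
    exact neg_mem (cl_mem _)
  obtain ⟨β, hβ⟩ : ∃ β, b β = ξ₀ := by
    exact b.isClosedMap.isClosed_range.closure_subset_iff.2 (Set.singleton_subset_iff.2 ⟨_, hgb⟩)
      (specializes_iff_mem_closure.1 (genericPoint_specializes ξ₀))
  obtain ⟨ζ, hζ⟩ := hps.surj β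
  have hζE : ζ ∈ E.support := (hEs ζ).2 (by
    rw [hζ, hβ, ← SetLike.mem_coe, hIs]; exact subset_closure rfl)
  have hsE := IntLib.support_quotMod_subset E
  obtain ⟨e, he, hpush⟩ := exists_mult_push k φ rfl hA (IntLib.isCoh_quotMod E) hξ (d := 1)
    (VanGrow.dim_support_lt (n := 2) hdW (DevLib.isClosed_support (IntLib.isCoh_quotMod E)) fun hmem => hgI (by
      rw [← hgb, ← hgp]
      exact (hEs _).1 (hsE hmem)))
    (fun w hw => by
      have h1 : b (p w) ∈ closure ({ξ₀} : Set J.subscheme) := hIs ▸ (hEs w).1 (hsE hw)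
      rw [← hξ₀]
      exact ((specializes_iff_mem_closure.2 h1).map J.subschemeι.continuous).mem_closure)
    (ζ := ζ) (by show J.subschemeι (b (p ζ)) = ξ; rw [hζ, hβ, hξ₀]) (mem_support_quotMod E hζE)
  have := hpush u (by rwa [pow_one])
  rw [hzero] at this
  exact (mul_eq_zero.1 this.symm).resolve_left (by exact_mod_cast he.ne')

end Groth.Agent.Nakai
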