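import Groth.Agent.NakaiLib.Surf
import Groth.Agent.NakaiLib.Small

/-!
# Classes of positive square on surfaces have sections
-/

set_option autoImplicit false
set_option backward.isDefEq.respectTransparency false
set_option linter.style.haveILetI false

universe u

open CategoryTheory CategoryTheory.Limits AlgebraicGeometry TopologicalSpace Opposite
open Groth.Agent.PullbackMod Groth.Agent.DCohLib Groth.Agent.AmpleLib
open Groth.Agent.CurveLib (tensR)
open Groth.Agent.IntLib (PicRing pairing dif inv')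

noncomputable section

namespace Groth.Agent.Nakai

variable {X : Scheme.{u}} (k : Type u) [Field k] [X.Over (Spec (CommRingCat.of k))]
  [IsProper (X ↘ Spec (CommRingCat.of k))]

/-- The dimension of the cohomology in one degree. -/
abbrev hd (M : X.Modules) (p : ℕ) : ℕ := Module.finrank k (Coh.HH X M p)

/-- On a surface the Euler characteristic is at most `h⁰ + h²`. -/
theorem euler_le (hdim : topologicalKrullDim X ≤ ((2 : ℕ) : WithBot ℕ∞)) (M : X.Modules) :
    Curv2.euler k X M ≤ (hd k M 0 : ℤ) + hd k M 2 := by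
  haveI := EulerIneqLib.isNoetherian_proper (X := X) k
  rw [CurveLib.euler_eq_sum (K := k) M 3 fun p hp => CurveLib.subsingleton_HH_of_dim M hdim (by omega),
    Finset.sum_range_succ, Finset.sum_range_succ, Finset.sum_range_succ, Finset.sum_range_zero]
  simp only [hd, pow_zero, pow_one, one_mul, neg_one_mul, zero_add, neg_one_sq]
  omega

/-- Twists of modules of dimension at most one have `h¹` growing at most linearly. -/
theorem exists_h1_bound {H L C : X.Modules} (hH : CohB1.IsAmple H) (hL : PicF.IsInvertible L) (hC : Coh.IsCoh C)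
    (hdC : topologicalKrullDim (CohB1.support C) < ((2 : ℕ) : WithBot ℕ∞)) :
    ∃ K : ℚ, 0 ≤ K ∧ ∀ m : ℕ, (hd k (CohB1.tensorMod C (CohB1.tensorPow L m)) 1 : ℚ) ≤ K * ((m : ℚ) + 1) := by
  haveI := EulerIneqLib.isNoetherian_proper (X := X) k
  obtain ⟨A, hA0, hA⟩ := exists_h_bound k hH hL hC (d := 1) hdC
  obtain ⟨Q, hQ, hQe⟩ := HilbLib.exists_poly k hL 2 C hC hdC
  obtain ⟨B, hB0, hB⟩ := exists_pow_bound (d := 1) hQ
  refine ⟨A + B, by positivity, fun m => ?_⟩
  haveI := hC.1
  have hsub : ∀ p, 2 ≤ p → Subsingleton (Coh.HH X (CohB1.tensorMod C (CohB1.tensorPow L m)) p) := fun p hp =>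
    CurveLib.subsingleton_HH_of_support _ (DevLib.isClosed_support hC)
      (HilbLib.support_tensor (isInvertible_tensorPow hL m) C).le (IntLib.dim_le_of_lt (q := 1) hdC) (by omega)
  have he : Curv2.euler k X (CohB1.tensorMod C (CohB1.tensorPow L m)) =
      (hd k (CohB1.tensorMod C (CohB1.tensorPow L m)) 0 : ℤ) - hd k (CohB1.tensorMod C (CohB1.tensorPow L m)) 1 := by
    rw [CurveLib.euler_eq_sum (K := k) _ 2 hsub, Finset.sum_range_succ, Finset.sum_range_succ, Finset.sum_range_zero]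
    simp only [hd, pow_zero, pow_one, one_mul, neg_one_mul, zero_add]
    omega
  have he' : (Curv2.euler k X (CohB1.tensorMod C (CohB1.tensorPow L m)) : ℚ) = Q.eval (m : ℚ) := hQe m
  rw [he] at he'
  push_cast at he'
  have h1 := hA m
  have h2 := abs_le.1 (hB m)
  rw [pow_one] at h1 h2
  rw [add_mul]
  change (hd k (CohB1.tensorMod C (CohB1.tensorPow L m)) 0 : ℚ) ≤ _ at h1
  linarith [h2.1]

variable [IsIntegral X]

include k in
/-- A module with a nonzero section gives a small cokernel. -/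
theorem dim_support_coker_lt (hdim : topologicalKrullDim X = ((2 : ℕ) : WithBot ℕ∞)) {E : X.Modules}
    (hE : PicF.IsInvertible E) {s : Coh.structureModule X ⟶ E} (hs : s ≠ 0) :
    topologicalKrullDim (CohB1.support (cokernel s)) < ((2 : ℕ) : WithBot ℕ∞) := by
  haveI := EulerIneqLib.isNoetherian_proper (X := X) k
  haveI := CurveLib.mono_of_ne_zero ParaFLib.isInvertible_structureModule hE hs
  exact VanGrow.dim_support_lt hdim (DevLib.isClosed_support
    (QCohLib.isCoh_kernel_cokernel s (DevLib.isCoh_structureModule X) (CurveLib.isCoh_of_isInvertible hE)).2)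
    (CurveLib.genericPoint_notMem_support ParaFLib.isInvertible_structureModule hE hs)

/-- `h²` decreases along effective twists. -/
theorem h2_le_of_section (hdim : topologicalKrullDim X = ((2 : ℕ) : WithBot ℕ∞)) {M E : X.Modules}
    (hM : PicF.IsInvertible M) (hE : PicF.IsInvertible E) (hs : VolLib.h k E ≠ 0) :
    hd k (CohB1.tensorMod E M) 2 ≤ hd k M 2 := by
  haveI := EulerIneqLib.isNoetherian_proper (X := X) k
  haveI : Nontrivial (Coh.HH X E 0) := Module.nontrivial_of_finrank_pos (R := k) (Nat.pos_of_ne_zero hs)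
  obtain ⟨c, hc⟩ := exists_ne (0 : Coh.HH X E 0)
  have hne := CurveLib.secHom_secOf_ne_zero _ hc
  generalize DCohLib.secHom _ (CurveLib.secOf _ c) = t at hne
  haveI := CurveLib.mono_of_ne_zero ParaFLib.isInvertible_structureModule hE hne
  have hO := DevLib.isCoh_structureModule X
  have hC : Coh.IsCoh (cokernel t) := (QCohLib.isCoh_kernel_cokernel t hO (CurveLib.isCoh_of_isInvertible hE)).2
  have hT := CurveLib.shortExact_tensR (DevLib.cokerSeq_shortExact t) fun x => CurveLib.freeAt_one_of_isInvertible hM x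
  haveI : Subsingleton (Coh.HH X (tmod (cokernel t) M) 2) := by
    haveI := hC.1
    exact CurveLib.subsingleton_HH_of_support _ (DevLib.isClosed_support hC) (HilbLib.support_tensor hM _).le
      (IntLib.dim_le_of_lt (q := 1) (dim_support_coker_lt k hdim hE hne)) (by omega)
  haveI := EulerIneqLib.finite_HH (k := k)
    (CurveLib.isCoh_tmod hO (CurveLib.isCoh_of_isInvertible hM)) 2
  have hsurj : Function.Surjective (CurveLib.hMap (k := k) (CurveLib.tmap t M) 2) := fun y =>
    (CurveLib.range_hMap_f (k := k) hT 2).ge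
      (LinearMap.mem_ker.2 (Subsingleton.elim (α := Coh.HH X (tmod (cokernel t) M) 2) _ _))
  exact (LinearMap.finrank_le_finrank_of_surjective hsurj).trans
    (CurveLib.hMap_bijective_finrank (k := k) (AmpleLib.unitL M) 2).le

/-- `h²` of the negative powers of an ample module with a section grows at most quadratically. -/
theorem exists_h2_bound (hdim : topologicalKrullDim X = ((2 : ℕ) : WithBot ℕ∞)) {P P' : X.Modules}
    (hP : CohB1.IsAmple P) (hP' : PicF.IsInvertible P') (e : CohB1.tensorMod P P' ≅ Coh.structureModule X)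
    (hs : VolLib.h k P ≠ 0) :
    ∃ K : ℚ, 0 ≤ K ∧ ∀ m : ℕ, (hd k (CohB1.tensorPow P' m) 2 : ℚ) ≤ K * ((m : ℚ) + 1) ^ 2 := by
  haveI := EulerIneqLib.isNoetherian_proper (X := X) k
  haveI : Nontrivial (Coh.HH X P 0) := Module.nontrivial_of_finrank_pos (R := k) (Nat.pos_of_ne_zero hs)
  obtain ⟨c, hc⟩ := exists_ne (0 : Coh.HH X P 0)
  have hne := CurveLib.secHom_secOf_ne_zero _ hc
  generalize DCohLib.secHom _ (CurveLib.secOf _ c) = t at hne
  haveI := CurveLib.mono_of_ne_zero ParaFLib.isInvertible_structureModule hP.1 hne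
  have hO := DevLib.isCoh_structureModule X
  have hC : Coh.IsCoh (cokernel t) := (QCohLib.isCoh_kernel_cokernel t hO (CurveLib.isCoh_of_isInvertible hP.1)).2
  obtain ⟨K₁, hK₁, hK⟩ := exists_h1_bound k hP hP' hC (dim_support_coker_lt k hdim hP.1 hne)
  refine ⟨K₁ + hd k (CohB1.tensorPow P' 0) 2, by positivity, fun m => ?_⟩
  induction m with
  | zero => simp [hK₁]
  | succ m ih =>
    have hi := isInvertible_tensorPow hP' (m + 1)
    have hT := CurveLib.shortExact_tensR (DevLib.cokerSeq_shortExact t) fun x => CurveLib.freeAt_one_of_isInvertible hi x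
    obtain ⟨f, hf⟩ : ∃ f, f = CurveLib.hMap (k := k) (CurveLib.tmap t (CohB1.tensorPow P' (m + 1))) 2 := ⟨_, rfl⟩
    haveI := EulerIneqLib.finite_HH (k := k) (CurveLib.isCoh_tmod hO (CurveLib.isCoh_of_isInvertible hi)) 2
    haveI := EulerIneqLib.finite_HH (k := k)
      (CurveLib.isCoh_tmod (CurveLib.isCoh_of_isInvertible hP.1) (CurveLib.isCoh_of_isInvertible hi)) 2
    haveI := EulerIneqLib.finite_HH (k := k) (CurveLib.isCoh_tmod hC (CurveLib.isCoh_of_isInvertible hi)) 1
    have hker : Module.finrank k (LinearMap.ker f) ≤ hd k (tmod (cokernel t) (CohB1.tensorPow P' (m + 1))) 1 := by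
      rw [hf]
      haveI : Module.Finite k (Coh.HH X ((DevLib.cokerSeq t).map (tensR (CohB1.tensorPow P' (m + 1)))).X₃ 1) :=
        EulerIneqLib.finite_HH (k := k) (CurveLib.isCoh_tmod hC (CurveLib.isCoh_of_isInvertible hi)) 1
      exact le_trans (le_of_eq (congrArg (fun S : Submodule k _ => Module.finrank k S)
        (CurveLib.range_hδ (k := k) hT 1).symm)) (LinearMap.finrank_range_le _)
    have hrange : Module.finrank k (LinearMap.range f) ≤ hd k (CohB1.tensorPow P' m) 2 := by
      refine (Submodule.finrank_le _).trans (le_of_eq (CurveLib.hMap_bijective_finrank (k := k) ?_ 2))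
      exact tIso (Iso.refl P) (comm _ _) ≪≫ (assoc P P' _).symm ≪≫ tIso e (Iso.refl _) ≪≫ unitL _
    have h3 : hd k (CohB1.tensorPow P' (m + 1)) 2 ≤
        hd k (CohB1.tensorPow P' m) 2 + hd k (tmod (cokernel t) (CohB1.tensorPow P' (m + 1))) 1 := by
      refine ((CurveLib.hMap_bijective_finrank (k := k) (AmpleLib.unitL _) 2).symm.le).trans ?_
      have hsum := LinearMap.finrank_range_add_finrank_ker f
      exact hsum.ge.trans (add_le_add hrange hker)
    have h4 : (hd k (CohB1.tensorPow P' (m + 1)) 2 : ℚ) ≤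
        (hd k (CohB1.tensorPow P' m) 2 : ℚ) + hd k (tmod (cokernel t) (CohB1.tensorPow P' (m + 1))) 1 := by
      exact_mod_cast h3
    have h5 := hK (m + 1)
    have h0 : (0 : ℚ) ≤ (hd k (CohB1.tensorPow P' 0) 2 : ℚ) := Nat.cast_nonneg _
    have hm : (0 : ℚ) ≤ (m : ℚ) := Nat.cast_nonneg m
    change (hd k (tmod (cokernel t) (CohB1.tensorPow P' (m + 1))) 1 : ℚ) ≤ _ at h5
    push_cast at h5 ⊢
    nlinarith [mul_nonneg hK₁ hm, mul_nonneg h0 hm]

/-- Descending along the segment from a big class: positive square keeps sections. -/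
theorem exists_section_of_pos (hdim : topologicalKrullDim X = ((2 : ℕ) : WithBot ℕ∞)) {H N : X.Modules}
    (hH : CohB1.IsAmple H) (hN : PicF.IsInvertible N)
    (hsq : 0 < pairing k (Coh.structureModule X) (cl hN * cl hN))
    (hNH : 0 < pairing k (Coh.structureModule X) (cl hN * cl hH.1)) :
    ∃ n : ℕ, 0 < n ∧ VolLib.h k (CohB1.tensorPow N n) ≠ 0 := by
  haveI := EulerIneqLib.isNoetherian_proper (X := X) k
  have hO := DevLib.isCoh_structureModule X
  have hdO : topologicalKrullDim (CohB1.support (Coh.structureModule X)) < ((2 + 1 : ℕ) : WithBot ℕ∞) :=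
    lt_of_le_of_lt (Topology.IsInducing.subtypeVal.topologicalKrullDim_le.trans hdim.le)
      (by exact_mod_cast Nat.lt_succ_self 2)
  have hdO' : topologicalKrullDim (CohB1.support (Coh.structureModule X)) ≤ ((2 : ℕ) : WithBot ℕ∞) :=
    IntLib.dim_le_of_lt hdO
  obtain ⟨c, hc⟩ := exists_h_ne_zero k hH (ParaFLib.isInvertible_structureModule (X := X))
  obtain ⟨c', rfl⟩ : ∃ c', c' = c + 1 := ⟨_, rfl⟩
  obtain ⟨P, hPdef⟩ : ∃ P, P = CohB1.tensorPow H (c + 1) := ⟨_, rfl⟩
  have hPa : CohB1.IsAmple P := hPdef ▸ (AmpleLib.isAmple_pow_iff hH.1 c.succ_pos).2 hH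
  have hPs : VolLib.h k P ≠ 0 := hPdef ▸ fun h0 => hc (c + 1) c.le_succ ((VolLib.h_congr k (unitL _)).trans h0)
  have hP := hPa.1
  obtain ⟨P', hP', ⟨eP⟩⟩ := AmpleEmb.exists_isInverseOf hP
  obtain ⟨K, hK0, hK⟩ := exists_h2_bound k hdim hPa hP' eP hPs
  have hNP : 0 ≤ pairing k (Coh.structureModule X) (cl hN * cl hP) := by
    subst hPdef
    rw [pairing_congr k (n := 2 + 1) (w := ((c + 1 : ℕ) : ℤ) • (cl hN * cl hH.1)) ?_ hO hdO, map_zsmul, smul_eq_mul]
    · exact mul_nonneg (Int.natCast_nonneg _) hNH.le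
    · rw [show cl hN * cl hP - ((c + 1 : ℕ) : ℤ) • (cl hN * cl hH.1) =
        (cl hP - ((c + 1 : ℕ) : PicRing X) * cl hH.1) * cl hN by
        rw [zsmul_eq_mul, Int.cast_natCast]; ring, pow_succ]
      exact Ideal.mul_mem_mul (cl_tensorPow_sub_mem hH.1 _) (cl_mem _)
  have hPP : 0 ≤ pairing k (Coh.structureModule X) (cl hP * cl hP) := by
    have h1 := (isPos_cl_pow k hPa 2 _ hO hdO).1
    rwa [pow_two] at h1
  obtain ⟨T, hT⟩ := exists_nat_gt (16 * K)
  have hT1 : (1 : ℕ) ≤ T := Nat.one_le_iff_ne_zero.2 fun h => by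
    rw [h, Nat.cast_zero] at hT; linarith
  have step : ∀ a : ℕ, (∃ n, 0 < n ∧ VolLib.h k (CohB1.tensorPow (CohB1.tensorMod (CohB1.tensorPow N T) (CohB1.tensorPow P (a + 1))) n) ≠ 0) →
      ∃ n, 0 < n ∧ VolLib.h k (CohB1.tensorPow (CohB1.tensorMod (CohB1.tensorPow N T) (CohB1.tensorPow P a)) n) ≠ 0 := by
    rintro a ⟨n, hn, hsn⟩
    obtain ⟨D, hD⟩ : ∃ D, D = CohB1.tensorMod (CohB1.tensorPow N T) (CohB1.tensorPow P a) := ⟨_, rfl⟩
    have hDi : PicF.IsInvertible D :=
      hD ▸ isInvertible_tensor (isInvertible_tensorPow hN T) (isInvertible_tensorPow hP a)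
    obtain ⟨B, hB⟩ : ∃ B, B = CohB1.tensorMod (CohB1.tensorPow N T) (CohB1.tensorPow P (a + 1)) := ⟨_, rfl⟩
    have hBi : PicF.IsInvertible B :=
      hB ▸ isInvertible_tensor (isInvertible_tensorPow hN T) (isInvertible_tensorPow hP _)
    have eBD : CohB1.tensorMod B P' ≅ D := by
      subst hB hD
      exact assoc _ _ _ ≪≫ tIso (Iso.refl _) (assoc _ P P' ≪≫ tIso (Iso.refl _) eP ≪≫ unitR _)
    rw [← hB] at hsn
    rw [← hD]
    have hh2 : ∀ l : ℕ, (hd k (CohB1.tensorPow D (n * (l + 1))) 2 : ℚ) ≤ K * (((n * (l + 1) : ℕ) : ℚ) + 1) ^ 2 := by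
      intro l
      refine le_trans ?_ (hK _)
      have hsl : VolLib.h k (CohB1.tensorPow B (n * (l + 1))) ≠ 0 := fun h0 =>
        VolLib.h_pow_ne_zero k (isInvertible_tensorPow hBi n) hsn l ((VolLib.h_congr k (powMul B n (l + 1))).trans h0)
      have h1 := h2_le_of_section k hdim (isInvertible_tensorPow hP' (n * (l + 1)))
        (isInvertible_tensorPow hBi (n * (l + 1))) hsl
      exact_mod_cast ((CurveLib.hMap_bijective_finrank (k := k)
        ((powTensor B P' _).symm ≪≫ powCongr eBD _) 2).symm.le.trans h1)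
    obtain ⟨Q, hQd, hQe⟩ := HilbLib.exists_poly k hDi 3 _ hO hdO
    have hQ2 : ((T : ℚ) ^ 2) ≤ 2 * Q.coeff 2 := by
      have h1 := pairing_cl_pow_eq_coeff k hO hDi hdO' Q hQd hQe
      have hDD : pairing k (Coh.structureModule X) (cl hDi ^ 2) =
          (T : ℤ) ^ 2 * pairing k (Coh.structureModule X) (cl hN * cl hN) +
          2 * (T : ℤ) * a * pairing k (Coh.structureModule X) (cl hN * cl hP) +
          (a : ℤ) ^ 2 * pairing k (Coh.structureModule X) (cl hP * cl hP) := by
        have hdec : cl hDi - ((T : PicRing X) * cl hN + (a : PicRing X) * cl hP) ∈ Aug X ^ 2 := by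
          subst hD
          rw [show cl hDi = cl (isInvertible_tensor (isInvertible_tensorPow hN T) (isInvertible_tensorPow hP a)) from rfl,
            cl_tensor (isInvertible_tensorPow hN T) (isInvertible_tensorPow hP a)]
          have h2 : cl (isInvertible_tensorPow hN T) * cl (isInvertible_tensorPow hP a) ∈ Aug X ^ 2 := by
            rw [pow_two]; exact Ideal.mul_mem_mul (cl_mem _) (cl_mem _)
          convert Ideal.add_mem _ (Ideal.add_mem _ (cl_tensorPow_sub_mem hN T) (cl_tensorPow_sub_mem hP a)) h2 using 1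
          ring
        rw [pairing_congr k (n := 2 + 1)
          (w := ((T : ℤ) ^ 2) • (cl hN * cl hN) + (2 * (T : ℤ) * a) • (cl hN * cl hP) + ((a : ℤ) ^ 2) • (cl hP * cl hP))
          ?_ hO hdO, map_add, map_add, map_zsmul, map_zsmul, map_zsmul, smul_eq_mul, smul_eq_mul, smul_eq_mul]
        have h3 := pow_sub_pow_mem (cl_mem hDi) (Ideal.add_mem _ (Ideal.mul_mem_left _ (T : PicRing X) (cl_mem hN))
          (Ideal.mul_mem_left _ (a : PicRing X) (cl_mem hP))) hdec 2
        convert h3 using 1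
        simp only [zsmul_eq_mul]
        push_cast
        ring
      have h2 : (T : ℤ) ^ 2 ≤ pairing k (Coh.structureModule X) (cl hDi ^ 2) := by
        rw [hDD]
        have : (0 : ℤ) ≤ 2 * (T : ℤ) * a * pairing k (Coh.structureModule X) (cl hN * cl hP) :=
          mul_nonneg (by positivity) hNP
        have : (0 : ℤ) ≤ (a : ℤ) ^ 2 * pairing k (Coh.structureModule X) (cl hP * cl hP) :=
          mul_nonneg (by positivity) hPP
        nlinarith [mul_le_mul_of_nonneg_left (show (1 : ℤ) ≤ pairing k (Coh.structureModule X) (cl hN * cl hN) by omega)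
          (sq_nonneg (T : ℤ))]
      have h2' : ((T : ℚ) ^ 2) ≤ (pairing k (Coh.structureModule X) (cl hDi ^ 2) : ℚ) := by exact_mod_cast h2
      rw [h1] at h2'
      simpa using h2'
    have hTT : 16 * K < (T : ℚ) ^ 2 := lt_of_lt_of_le hT (by
      have : (1 : ℚ) ≤ T := by exact_mod_cast hT1
      nlinarith)
    obtain ⟨l, hl⟩ := exists_nat_gt ((|Q.coeff 1| + |Q.coeff 0| + 1) / ((T : ℚ) ^ 2 / 4))
    obtain ⟨m, hm⟩ : ∃ m, m = n * (l + 1) := ⟨_, rfl⟩
    refine ⟨m, hm ▸ Nat.mul_pos hn l.succ_pos, fun h0 => ?_⟩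
    have h1 := euler_le k hdim.le (CohB1.tensorPow D m)
    have h0' : hd k (CohB1.tensorPow D m) 0 = 0 := h0
    rw [h0', Nat.cast_zero, zero_add] at h1
    have h2 : Q.eval (m : ℚ) ≤ K * ((m : ℚ) + 1) ^ 2 := by
      refine le_trans ?_ (hm ▸ hh2 l)
      rw [← hQe]
      show (Curv2.euler k X (ShStab.twist X D (Coh.structureModule X) m) : ℚ) ≤ _
      rw [ShStab.twist, CurveLib.euler_iso (K := k) (unitL _)]
      exact_mod_cast h1
    have hev : Q.eval (m : ℚ) = Q.coeff 2 * (m : ℚ) ^ 2 + Q.coeff 1 * m + Q.coeff 0 := by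
      rw [Polynomial.eval_eq_sum_range' (n := 3) (by
        rcases eq_or_ne Q 0 with rfl | hQ0
        · simp
        · rw [Polynomial.degree_eq_natDegree hQ0] at hQd; exact_mod_cast hQd),
        Finset.sum_range_succ, Finset.sum_range_succ, Finset.sum_range_succ, Finset.sum_range_zero]
      ring
    rw [hev] at h2
    have hm1 : (1 : ℚ) ≤ (m : ℚ) := by exact_mod_cast (hm ▸ Nat.mul_pos hn l.succ_pos : 0 < m)
    have hml : (l : ℚ) ≤ (m : ℚ) := by
      exact_mod_cast (hm ▸ le_trans l.le_succ (Nat.le_mul_of_pos_left _ hn) : l ≤ m)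
    rw [div_lt_iff₀ (by nlinarith)] at hl
    have h3 : |Q.coeff 1| + |Q.coeff 0| + 1 < (m : ℚ) * ((T : ℚ) ^ 2 / 4) :=
      lt_of_lt_of_le hl (mul_le_mul_of_nonneg_right hml (by positivity))
    have h4 : -(|Q.coeff 1| * m) ≤ Q.coeff 1 * m := by
      nlinarith [neg_abs_le (Q.coeff 1)]
    have h5 := neg_abs_le (Q.coeff 0)
    have h6 : K * ((m : ℚ) + 1) ^ 2 ≤ K * (4 * (m : ℚ) ^ 2) := mul_le_mul_of_nonneg_left (by nlinarith) hK0
    have h7 : (|Q.coeff 1| + |Q.coeff 0| + 1) * m < (m : ℚ) * ((T : ℚ) ^ 2 / 4) * m :=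
      mul_lt_mul_of_pos_right h3 (by linarith)
    have h8 : |Q.coeff 0| ≤ |Q.coeff 0| * m := le_mul_of_one_le_right (abs_nonneg _) hm1
    nlinarith [mul_lt_mul_of_pos_right hTT (show (0 : ℚ) < (m : ℚ) ^ 2 by positivity),
      mul_le_mul_of_nonneg_right hQ2 (sq_nonneg (m : ℚ))]
  obtain ⟨q₀, hq₀⟩ := exists_h_ne_zero k hPa (isInvertible_tensorPow hN T)
  have main : ∀ a : ℕ, ∀ n : ℕ, 0 < n →
      VolLib.h k (CohB1.tensorPow (CohB1.tensorMod (CohB1.tensorPow N T) (CohB1.tensorPow P a)) n) ≠ 0 →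
      ∃ n, 0 < n ∧ VolLib.h k (CohB1.tensorPow N n) ≠ 0 := by
    intro a
    induction a with
    | zero =>
      intro n hn h
      refine ⟨T * n, Nat.mul_pos hT1 hn, fun h0 => h ?_⟩
      exact (VolLib.h_congr k (powCongr (unitR _) n ≪≫ powMul N T n)).trans h0
    | succ a ih =>
      intro n hn h
      obtain ⟨n', hn', h'⟩ := step a ⟨n, hn, h⟩
      exact ih n' hn' h'
  exact main q₀ 1 one_pos fun h0 => hq₀ q₀ le_rfl ((VolLib.h_congr k (powOne _)).symm.trans h0)

end Groth.Agent.Nakai
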