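import Groth.Agent.NakaiLib.Ring

/-!
# Pairings of pieces and hyperplane sections
-/

set_option autoImplicit false
set_option backward.isDefEq.respectTransparency false
set_option linter.style.haveILetI false

universe u

open CategoryTheory CategoryTheory.Limits AlgebraicGeometry TopologicalSpace
open Groth.Agent.PullbackMod Groth.Agent.DCohLib Groth.Agent.DevLib Groth.Agent.QCohLib
open Groth.Agent.HilbLib (HasChain)
open Groth.Agent.IntLib (PicRing pairing dif inv' compMod)

noncomputable section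

namespace Groth.Agent.Nakai

theorem isPiece_structureModule (X : Scheme.{u}) [IsIntegral X] [IsLocallyNoetherian X] :
    IsPiece (genericPoint X) (Coh.structureModule X) where
  coh := isCoh_structureModule X
  supp y _ := genericPoint_specializes y
  simple := by
    have hb := ParaFLib.bijective_oneG (X := X) (genericPoint X)
    refine isSimpleModule_iff_toSpanSingleton_surjective.2 ⟨?_, fun m hm y => ?_⟩
    · exact hb.1.nontrivial
    obtain ⟨a, rfl⟩ := hb.2 m
    obtain ⟨b, rfl⟩ := hb.2 y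
    have ha : a ≠ 0 := fun h => hm (by rw [h]; exact zero_smul _ _)
    obtain ⟨v, hv⟩ := (Ne.isUnit ha : IsUnit (a : X.functionField))
    refine ⟨b * ↑v⁻¹, ?_⟩
    show (b * ↑v⁻¹) • a • ParaFLib.oneG (X := X) (genericPoint X) = b • ParaFLib.oneG (X := X) (genericPoint X)
    rw [smul_smul]
    congr 1
    rw [← hv]
    exact Units.inv_mul_cancel_right b v
  tf V s hs := by
    by_cases hη : genericPoint X ∈ V
    · exact ParaFLib.eq_zero_of_germ_generic ParaFLib.isInvertible_structureModule s fun _ => hs hη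
    · exact ParaFLib.eq_zero_of_germ_generic ParaFLib.isInvertible_structureModule s fun h => absurd h hη

variable {X : Scheme.{u}} (k : Type u) [Field k] [X.Over (Spec (CommRingCat.of k))]
  [IsProper (X ↘ Spec (CommRingCat.of k))]

theorem dim_supp_le {ξ : X} {Q : X.Modules} (hs : ∀ y ∈ CohB1.support Q, ξ ⤳ y) {n : WithBot ℕ∞}
    (h : topologicalKrullDim (closure {ξ} : Set X) < n) : topologicalKrullDim (CohB1.support Q) < n :=
  lt_of_le_of_lt (Topology.IsEmbedding.inclusion
    (fun y hy => specializes_iff_mem_closure.1 (hs y hy) : CohB1.support Q ⊆ closure {ξ})).isInducing.topologicalKrullDim_le h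

/-- Pieces at the same point have the same top pairings. -/
theorem pairing_piece {ξ : X} {Q Q' : X.Modules} (hQ : IsPiece ξ Q) (hQ' : IsPiece ξ Q') {d : ℕ}
    (hd : topologicalKrullDim (closure {ξ} : Set X) < ((d + 1 : ℕ) : WithBot ℕ∞)) {z : PicRing X}
    (hz : z ∈ Aug X ^ d) : pairing k Q z = pairing k Q' z := by
  haveI := EulerIneqLib.isNoetherian_proper (X := X) k
  obtain ⟨H, p, q, hH, hp, hq, hps, hqs⟩ := exists_common hQ hQ'
  have small : ∀ N : X.Modules, Coh.IsCoh N → (∀ y ∈ CohB1.support N, ξ ⤳ y) → ξ ∉ CohB1.support N →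
      pairing k N z = 0 := fun N hN hs hξ => pairing_mem_eq_zero k hz hN
        (HilbLib.dim_lt_of_notMem (isClosed_support hN) (fun y hy => specializes_iff_mem_closure.1 (hs y hy)) hξ hd)
  rw [IntLib.pairing_coker k p hH hQ.coh, IntLib.pairing_coker k q hH hQ'.coh,
    small _ (isCoh_kernel_cokernel p hH hQ.coh).2 (supp_coker p hQ.supp) (notMem_support_coker p hps),
    small _ (isCoh_kernel_cokernel q hH hQ'.coh).2 (supp_coker q hQ'.supp) (notMem_support_coker q hqs)]

/-- Nonnegativity is tested on the components of top dimension. -/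
theorem pairing_nonneg {d : ℕ} {z : PicRing X} (hz : z ∈ Aug X ^ d) {F : X.Modules} (hF : Coh.IsCoh F)
    (hd : topologicalKrullDim (CohB1.support F) < ((d + 1 : ℕ) : WithBot ℕ∞))
    (h : ∀ ξ ∈ CohB1.support F, topologicalKrullDim (closure {ξ} : Set X) = (d : WithBot ℕ∞) →
      0 ≤ pairing k (compMod ξ) z) : 0 ≤ pairing k F z := by
  haveI := EulerIneqLib.isNoetherian_proper (X := X) k
  refine devissage (CohB1.support F) (fun N => 0 ≤ pairing k N z)
    (fun A B ⟨e⟩ hA => by rwa [← IntLib.pairing_iso k e]) (fun A hA => (IntLib.pairing_isZero k hA z).ge)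
    (fun S hS h₁ h₂ h₃ _ a b => by rw [IntLib.pairing_shortExact k hS h₁ h₂ h₃]; exact add_nonneg a b)
    (fun ξ hξT hsub Q hQ _ => ?_) F hF subset_rfl
  have hd' : topologicalKrullDim (closure {ξ} : Set X) < ((d + 1 : ℕ) : WithBot ℕ∞) :=
    HilbLib.isClosed_closure_le hsub hd
  by_cases he : topologicalKrullDim (closure {ξ} : Set X) = (d : WithBot ℕ∞)
  · rw [pairing_piece k hQ (IntLib.isPiece_compMod ξ) hd' hz]
    exact h ξ hξT he
  · exact (pairing_mem_eq_zero k hz hQ.coh
      (dim_supp_le hQ.supp (lt_of_le_of_ne (IntLib.dim_le_of_lt hd') he))).ge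

/-- Cutting by a section of a power of an ample module. -/
theorem exists_cut {H : X.Modules} (hH : CohB1.IsAmple H) {ξ : X} {Q : X.Modules} (hQ : IsPiece ξ Q) {d : ℕ}
    (hd : topologicalKrullDim (closure {ξ} : Set X) = ((d + 1 : ℕ) : WithBot ℕ∞)) {z : PicRing X}
    (hz : z ∈ Aug X ^ d) :
    ∃ (C : X.Modules) (m : ℕ), Coh.IsCoh C ∧ 0 < m ∧
      topologicalKrullDim (CohB1.support C) < ((d + 1 : ℕ) : WithBot ℕ∞) ∧
      pairing k C z = (m : ℤ) * pairing k Q (z * cl hH.1) := by
  haveI := EulerIneqLib.isNoetherian_proper (X := X) k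
  have hd' : topologicalKrullDim (closure {ξ} : Set X) < ((d + 1 + 1 : ℕ) : WithBot ℕ∞) :=
    hd ▸ (by exact_mod_cast Nat.lt_succ_self (d + 1))
  have hch : HasChain (d + 1) (closure {ξ}) := (HilbLib.not_dim_lt_iff isClosed_closure _).1 (by
    rw [hd]; exact lt_irrefl _)
  obtain ⟨x, hξx, hne, -⟩ := hch.exists_below
  obtain ⟨j, μ, _, hCs, hξC, -⟩ := IntLib.exists_section_mono hH hξx hne hQ
  have hN : PicF.IsInvertible (CohB1.tensorPow H (j + 1)) := AmpleLib.isInvertible_tensorPow hH.1 _
  have hQN := CurveLib.isCoh_tmod hQ.coh (CurveLib.isCoh_of_isInvertible hN)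
  have hC := (isCoh_kernel_cokernel μ hQ.coh hQN).2
  refine ⟨cokernel μ, j + 1, hC, Nat.succ_pos j, HilbLib.dim_lt_of_notMem (isClosed_support hC)
    (fun y hy => specializes_iff_mem_closure.1 (hCs y hy)) hξC hd', ?_⟩
  have h : pairing k (CohB1.tensorMod Q (CohB1.tensorPow H (j + 1))) z =
      pairing k Q z + pairing k (cokernel μ) z := IntLib.pairing_coker k μ hQ.coh hQN z
  rw [← IntLib.pairing_of_mul k Q hN] at h
  have e : pairing k (cokernel μ) z = pairing k Q (cl hN * z) := by
    rw [cl, sub_mul, one_mul, map_sub, h, add_sub_cancel_left]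
  have hmem : cl hN * z - ((j + 1 : ℕ) : ℤ) • (z * cl hH.1) ∈ Aug X ^ (2 + d) := by
    rw [pow_add, zsmul_eq_mul, Int.cast_natCast, show cl hN * z - ((j + 1 : ℕ) : PicRing X) * (z * cl hH.1) =
      (cl hN - ((j + 1 : ℕ) : PicRing X) * cl hH.1) * z by ring]
    exact Ideal.mul_mem_mul (cl_tensorPow_sub_mem hH.1 (j + 1)) hz
  rw [e, pairing_congr k hmem hQ.coh (dim_supp_le hQ.supp (by rwa [show 2 + d = d + 1 + 1 by omega])),
    map_zsmul, smul_eq_mul]

end Groth.Agent.Nakai
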