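import Groth.Agent.NakaiLib.Big

/-!
# A nef invertible module is big when its top self-intersection is positive
-/

set_option autoImplicit false
set_option backward.isDefEq.respectTransparency false
set_option linter.style.haveILetI false

universe u

open CategoryTheory CategoryTheory.Limits AlgebraicGeometry TopologicalSpace Opposite Polynomial
open Groth.Agent.PullbackMod Groth.Agent.DCohLib Groth.Agent.AmpleLib
open Groth.Agent.CurveLib (tmap)
open Groth.Agent.IntLib (PicRing pairing dif inv' compMod)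

noncomputable section

namespace Groth.Agent.Nakai

variable {X : Scheme.{u}} (k : Type u) [Field k] [X.Over (Spec (CommRingCat.of k))]
  [IsProper (X ↘ Spec (CommRingCat.of k))]

/-- Sections are subadditive. -/
theorem h_le_add {S : ShortComplex X.Modules} (hS : S.ShortExact) (h1 : Coh.IsCoh S.X₁) (h2 : Coh.IsCoh S.X₂)
    (h3 : Coh.IsCoh S.X₃) : VolLib.h k S.X₂ ≤ VolLib.h k S.X₁ + VolLib.h k S.X₃ := by
  haveI := EulerIneqLib.finite_HH (k := k) h1 0
  haveI := EulerIneqLib.finite_HH (k := k) h2 0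
  haveI := EulerIneqLib.finite_HH (k := k) h3 0
  have hrn := LinearMap.finrank_range_add_finrank_ker (CurveLib.hMap (k := k) S.g 0)
  rw [show LinearMap.ker (CurveLib.hMap (k := k) S.g 0) = LinearMap.range (CurveLib.hMap (k := k) S.f 0) from
    (CurveLib.range_hMap_f (k := k) hS 0).symm] at hrn
  have a := Submodule.finrank_le (LinearMap.range (CurveLib.hMap (k := k) S.g 0))
  have b := LinearMap.finrank_range_le (CurveLib.hMap (k := k) S.f 0)
  show Module.finrank k (Coh.HH X S.X₂ 0) ≤ Module.finrank k (Coh.HH X S.X₁ 0) + Module.finrank k (Coh.HH X S.X₃ 0)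
  omega

/-- The pairing of the cokernel of a section. -/
theorem pairing_coker_section {P : X.Modules} (hP : PicF.IsInvertible P) (t : Coh.structureModule X ⟶ P) [Mono t]
    (z : PicRing X) : pairing k (cokernel t) z = pairing k (Coh.structureModule X) (cl hP * z) := by
  haveI := EulerIneqLib.isNoetherian_proper (X := X) k
  have h := IntLib.pairing_coker k t (DevLib.isCoh_structureModule X) (CurveLib.isCoh_of_isInvertible hP) z
  rw [← IntLib.pairing_iso k (unitL P) z, ← IntLib.pairing_of_mul k (Coh.structureModule X) hP] at h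
  rw [cl, sub_mul, one_mul, map_sub, h, add_sub_cancel_left]

variable [IsIntegral X]

omit [IsIntegral X] in
theorem dim_structureModule_lt {n : ℕ} (hn : topologicalKrullDim X = (n : WithBot ℕ∞)) :
    topologicalKrullDim (CohB1.support (Coh.structureModule X)) < ((n + 1 : ℕ) : WithBot ℕ∞) :=
  lt_of_le_of_lt (Topology.IsInducing.subtypeVal.topologicalKrullDim_le.trans hn.le)
    (by exact_mod_cast Nat.lt_succ_self n)

/-- Big nef modules have positive self-intersection. -/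
theorem pos_of_mono {n : ℕ} (hn : topologicalKrullDim X = (n : WithBot ℕ∞)) {L B : X.Modules}
    (hL : PicF.IsInvertible L) (hnef : NefP k hL) (hB : CohB1.IsAmple B) {ν : ℕ} (hν : 0 < ν)
    (φ : B ⟶ CohB1.tensorPow L ν) [Mono φ] : 0 < pairing k (Coh.structureModule X) (cl hL ^ n) := by
  haveI := EulerIneqLib.isNoetherian_proper (X := X) k
  have hLν := isInvertible_tensorPow hL ν
  have hBc := CurveLib.isCoh_of_isInvertible hB.1
  have hLc := CurveLib.isCoh_of_isInvertible hLν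
  have hC : Coh.IsCoh (cokernel φ) := (QCohLib.isCoh_kernel_cokernel φ hBc hLc).2
  have hφ : φ ≠ 0 := fun h0 => by
    subst h0
    have := ((PullbackMod.mono_iff_stalk (0 : B ⟶ CohB1.tensorPow L ν)).1 inferInstance) (genericPoint X)
    obtain ⟨e, he⟩ := ParaFLib.exists_stalk_gen hB.1 (genericPoint X)
    haveI : Subsingleton (B.presheaf.stalk (genericPoint X)) := ⟨fun a b => this (by
      obtain ⟨U, hU, a, rfl⟩ := TopCat.Presheaf.exists_germ_eq B.presheaf a
      obtain ⟨V, hV, b, rfl⟩ := TopCat.Presheaf.exists_germ_eq B.presheaf b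
      rw [stalkLin_germ, stalkLin_germ]
      exact (map_zero _).trans (map_zero _).symm)⟩
    exact one_ne_zero (α := X.presheaf.stalk (genericPoint X)) (he.1 (Subsingleton.elim _ _))
  have hdO := dim_structureModule_lt hn
  have hdC : topologicalKrullDim (CohB1.support (cokernel φ)) < (n : WithBot ℕ∞) :=
    VanGrow.dim_support_lt hn (DevLib.isClosed_support hC) (CurveLib.genericPoint_notMem_support hB.1 hLν hφ)
  have hstep : ∀ i, i < n → pairing k (Coh.structureModule X) (mono2 (cl hL) (cl hB.1) n i) ≤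
      (ν : ℤ) * pairing k (Coh.structureModule X) (mono2 (cl hL) (cl hB.1) n (i + 1)) := fun i hi => by
    obtain ⟨e, rfl⟩ : ∃ e, n = e + 1 := ⟨n - 1, by omega⟩
    have hie : i ≤ e := Nat.lt_succ_iff.1 hi
    obtain ⟨z, hz⟩ : ∃ z, z = mono2 (cl hL) (cl hB.1) e i := ⟨_, rfl⟩
    have hzmem : z ∈ Aug X ^ e := hz ▸ mono2_mem (cl_mem hL) (cl_mem hB.1) hie
    have h0 : 0 ≤ pairing k (cokernel φ) z := hz ▸ klOK k e X L B hL hB hnef _ hC hdC i hie
    have h := IntLib.pairing_coker k φ hBc hLc z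
    rw [← IntLib.pairing_iso k (unitL (CohB1.tensorPow L ν)) z, ← IntLib.pairing_iso k (unitL B) z,
      ← IntLib.pairing_of_mul k (Coh.structureModule X) hLν, ← IntLib.pairing_of_mul k (Coh.structureModule X) hB.1] at h
    have h1 : pairing k (Coh.structureModule X) (cl hB.1 * z) ≤ pairing k (Coh.structureModule X) (cl hLν * z) := by
      rw [cl, cl, sub_mul, sub_mul, map_sub, map_sub]
      linarith
    have e1 : cl hB.1 * z = mono2 (cl hL) (cl hB.1) (e + 1) i := by
      rw [hz, mono2, mono2, Nat.succ_sub hie, pow_succ]; ring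
    have hmem : cl hLν * z - (ν : ℤ) • mono2 (cl hL) (cl hB.1) (e + 1) (i + 1) ∈ Aug X ^ (e + 1 + 1) := by
      have : cl hLν * z - (ν : ℤ) • mono2 (cl hL) (cl hB.1) (e + 1) (i + 1) =
          (cl hLν - (ν : PicRing X) * cl hL) * z := by
        rw [zsmul_eq_mul, Int.cast_natCast, hz, mono2, mono2, Nat.succ_sub_succ, pow_succ]; ring
      rw [this, show e + 1 + 1 = 2 + e by omega, pow_add]
      exact Ideal.mul_mem_mul (cl_tensorPow_sub_mem hL ν) hzmem
    rw [e1, pairing_congr k hmem (DevLib.isCoh_structureModule X) hdO, map_zsmul, smul_eq_mul] at h1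
    exact h1
  have hpos : ∀ i, i ≤ n → 0 < pairing k (Coh.structureModule X) (mono2 (cl hL) (cl hB.1) n i) := by
    intro i
    induction i with
    | zero =>
      intro _
      have hch : HilbLib.HasChain n (CohB1.support (Coh.structureModule X)) := by
        rw [show CohB1.support (Coh.structureModule X) = Set.univ from Set.eq_univ_of_forall fun x =>
          haveI : Nontrivial ((Coh.structureModule X).presheaf.stalk x) := (ParaFLib.bijective_oneG x).1.nontrivial
          not_subsingleton _]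
        refine (HilbLib.not_dim_lt_iff isClosed_univ _).1 ?_
        rw [(Homeomorph.Set.univ X).isHomeomorph.topologicalKrullDim_eq, hn]
        exact lt_irrefl _
      have := (isPos_cl_pow k hB n _ (DevLib.isCoh_structureModule X) hdO).2 hch
      simpa [mono2] using this
    | succ i ih =>
      intro hi
      exact pos_of_mul_pos_right (lt_of_lt_of_le (ih (by omega)) (hstep i (by omega))) (Int.natCast_nonneg ν)
  simpa [mono2] using hpos n le_rfl

/-- Choosing the twist. -/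
theorem exists_twist_pos (e : ℕ) (c : ℕ → ℤ) (hc : ∀ i, i ≤ e + 1 → 0 ≤ c i) (htop : 0 < c (e + 1)) :
    ∃ b : ℕ, 0 < b ∧ (e : ℤ) * ∑ j ∈ Finset.range (e + 1), (e.choose j : ℤ) * (b : ℤ) ^ j * c j <
      (b : ℤ) * ∑ j ∈ Finset.range (e + 1), (e.choose j : ℤ) * (b : ℤ) ^ j * c (j + 1) := by
  obtain ⟨S, hS⟩ : ∃ S : ℤ, S = ∑ j ∈ Finset.range (e + 1), (e.choose j : ℤ) * c j := ⟨_, rfl⟩
  have hS0 : 0 ≤ S := hS ▸ Finset.sum_nonneg fun j hj =>
    mul_nonneg (Int.natCast_nonneg _) (hc j (Finset.mem_range.1 hj).le)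
  obtain ⟨b, hb⟩ : ∃ b : ℕ, b = e * S.toNat + 1 := ⟨_, rfl⟩
  refine ⟨b, by omega, ?_⟩
  have hb1 : (1 : ℤ) ≤ (b : ℤ) := by omega
  have hbS : (e : ℤ) * S < (b : ℤ) := by
    rw [hb]
    push_cast [Int.toNat_of_nonneg hS0]
    omega
  have h1 : ∑ j ∈ Finset.range (e + 1), (e.choose j : ℤ) * (b : ℤ) ^ j * c j ≤ S * (b : ℤ) ^ e := by
    rw [hS, Finset.sum_mul]
    refine Finset.sum_le_sum fun j hj => ?_
    rw [mul_right_comm]
    exact mul_le_mul_of_nonneg_left (pow_le_pow_right₀ hb1 (Nat.lt_succ_iff.1 (Finset.mem_range.1 hj)))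
      (mul_nonneg (Int.natCast_nonneg _) (hc j (Finset.mem_range.1 hj).le))
  have h2 : (b : ℤ) ^ e * c (e + 1) ≤ ∑ j ∈ Finset.range (e + 1), (e.choose j : ℤ) * (b : ℤ) ^ j * c (j + 1) := by
    have := Finset.single_le_sum (f := fun j => (e.choose j : ℤ) * (b : ℤ) ^ j * c (j + 1))
      (fun j hj => mul_nonneg (by positivity) (hc _ (by have := Finset.mem_range.1 hj; omega)))
      (Finset.self_mem_range_succ e)
    simpa using this
  have hbe : (0 : ℤ) < (b : ℤ) ^ e := pow_pos (by omega) e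
  calc (e : ℤ) * ∑ j ∈ Finset.range (e + 1), (e.choose j : ℤ) * (b : ℤ) ^ j * c j ≤ (e : ℤ) * S * (b : ℤ) ^ e := by
        rw [mul_assoc]; exact mul_le_mul_of_nonneg_left h1 (Int.natCast_nonneg _)
    _ < (b : ℤ) * (b : ℤ) ^ e := mul_lt_mul_of_pos_right hbS hbe
    _ ≤ (b : ℤ) * ((b : ℤ) ^ e * c (e + 1)) :=
        mul_le_mul_of_nonneg_left (le_mul_of_one_le_right hbe.le htop) (by omega)
    _ ≤ _ := mul_le_mul_of_nonneg_left h2 (by omega)

omit [IsIntegral X] in
/-- Comparing the sections of `L^(bq)` with those of an ample twist. -/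
theorem exists_lower_bound {P A L : X.Modules} (hPa : CohB1.IsAmple P) (hA : CohB1.IsAmple A)
    (t : Coh.structureModule X ⟶ P) [Mono t] {b : ℕ}
    (eA : Nonempty (A ≅ CohB1.tensorMod (CohB1.tensorPow L b) P)) :
    ∃ g : ℕ, 0 < g ∧ ∀ q : ℕ, ∃ r, r ≤ g ∧ VolLib.h k (CohB1.tensorPow A q) ≤
      VolLib.h k (CohB1.tensorPow L (b * q)) +
        q * VolLib.h k (CohB1.tensorMod (CohB1.tensorMod (cokernel t) (CohB1.tensorPow P r)) (CohB1.tensorPow A q)) := by
  haveI := EulerIneqLib.isNoetherian_proper (X := X) k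
  obtain ⟨eA⟩ := eA
  have hO := DevLib.isCoh_structureModule X
  have hPc := CurveLib.isCoh_of_isInvertible hPa.1
  have hC : Coh.IsCoh (cokernel t) := (QCohLib.isCoh_kernel_cokernel t hO hPc).2
  obtain ⟨g, u, hu, -, -⟩ := AmpleEmb.exists_genLocus_finite hPa (VanGrow.finite_ass hC) (U := ⊤) (fun _ _ => trivial)
  have hU : PicF.IsInvertible (CohB1.tensorPow P (g + 1)) := isInvertible_tensorPow hPa.1 _
  obtain ⟨P', hP', ⟨ι⟩⟩ := AmpleEmb.exists_isInverseOf hPa.1
  haveI := VanGrow.mono_mulS hC hU u hu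
  have key : ∀ (l : ℕ) (N : X.Modules), PicF.IsInvertible N → VolLib.h k (CohB1.tensorMod (cokernel t) N) ≤
      VolLib.h k (CohB1.tensorMod (cokernel t) (CohB1.tensorMod (CohB1.tensorPow (CohB1.tensorPow P (g + 1)) l) N)) := by
    intro l
    induction l with
    | zero => exact fun N _ => (VolLib.h_congr k (tIso (Iso.refl _) (unitL N))).ge
    | succ l ih =>
      intro N hN
      refine le_trans ?_ ((ih _ (isInvertible_tensor hU hN)).trans_eq
        (VolLib.h_congr k (tIso (Iso.refl _) (assoc _ _ _).symm)))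
      haveI := CurveLib.mono_tmap ((AmpleLib.unitR (cokernel t)).inv ≫ CurveLib.mulS (cokernel t) u)
        (CurveLib.freeAt_one_of_isInvertible hN)
      exact (VanGrow.h_mono k (tmap ((AmpleLib.unitR (cokernel t)).inv ≫ CurveLib.mulS (cokernel t) u) N)
        (CurveLib.isCoh_tmod (CurveLib.isCoh_tmod hC (CurveLib.isCoh_of_isInvertible hU))
          (CurveLib.isCoh_of_isInvertible hN))).trans_eq (VolLib.h_congr k (assoc _ _ N))
  refine ⟨g + 1, g.succ_pos, fun q => ?_⟩
  obtain ⟨r, hr, hmax⟩ := Finset.exists_max_image (Finset.range (g + 1 + 1)) (fun r =>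
    VolLib.h k (CohB1.tensorMod (CohB1.tensorMod (cokernel t) (CohB1.tensorPow P r)) (CohB1.tensorPow A q)))
    ⟨0, Finset.mem_range.2 (g + 1).succ_pos⟩
  refine ⟨r, Nat.lt_succ_iff.1 (Finset.mem_range.1 hr), ?_⟩
  obtain ⟨M, hM⟩ : ∃ M, M = VolLib.h k (CohB1.tensorMod (CohB1.tensorMod (cokernel t) (CohB1.tensorPow P r))
      (CohB1.tensorPow A q)) := ⟨_, rfl⟩
  rw [← hM]
  obtain ⟨Aq, hAq⟩ : ∃ Aq, Aq = CohB1.tensorPow A q := ⟨_, rfl⟩
  have hAqi : PicF.IsInvertible Aq := hAq ▸ isInvertible_tensorPow hA.1 q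
  have hN : ∀ i, PicF.IsInvertible (CohB1.tensorMod Aq (CohB1.tensorPow P' i)) := fun i =>
    isInvertible_tensor hAqi (isInvertible_tensorPow hP' i)
  have hNc := fun i => CurveLib.isCoh_of_isInvertible (hN i)
  have hsmall : ∀ i, VolLib.h k (CohB1.tensorMod (cokernel t) (CohB1.tensorMod Aq (CohB1.tensorPow P' i))) ≤ M := by
    intro i
    obtain ⟨l, hl⟩ : ∃ l, l = i / (g + 1) + 1 := ⟨_, rfl⟩
    obtain ⟨r', hr'⟩ : ∃ r', r' + i = (g + 1) * l := ⟨(g + 1) * l - i, by
      have := Nat.div_add_mod i (g + 1)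
      have h2 : i % (g + 1) < g + 1 := Nat.mod_lt i g.succ_pos
      rw [hl, Nat.mul_succ]
      generalize i / (g + 1) = dv at *
      generalize i % (g + 1) = md at *
      generalize (g + 1) * dv = pr at *
      omega⟩
    have hr'le : r' ≤ g + 1 := by
      have := Nat.div_add_mod i (g + 1)
      rw [hl, Nat.mul_succ] at hr'
      omega
    refine (key l _ (hN i)).trans (le_trans (le_of_eq (VolLib.h_congr k ?_))
      ((hmax r' (Finset.mem_range.2 (Nat.lt_succ_of_le hr'le))).trans hM.ge))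
    subst hAq
    refine tIso (Iso.refl _) ?_ ≪≫ (assoc _ _ _).symm
    refine tIso (powMul P (g + 1) l ≪≫ eqToIso (congrArg (CohB1.tensorPow P) hr'.symm) ≪≫ powAdd P r' i)
      (comm _ _) ≪≫ assoc _ _ _ ≪≫ tIso (Iso.refl _) ((assoc _ _ _).symm ≪≫
        tIso ((powTensor P P' i).symm ≪≫ powCongr ι i ≪≫ powUnit i) (Iso.refl _) ≪≫ unitL _)
  have hchain : ∀ i, VolLib.h k Aq ≤ VolLib.h k (CohB1.tensorMod Aq (CohB1.tensorPow P' i)) + i * M := by
    intro i
    induction i with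
    | zero =>
      rw [Nat.zero_mul, Nat.add_zero]
      exact (VolLib.h_congr k (unitR _)).ge
    | succ i ih =>
      have hT := CurveLib.shortExact_tensR (DevLib.cokerSeq_shortExact t)
        (CurveLib.freeAt_one_of_isInvertible (hN (i + 1)))
      have h2 := h_le_add k hT (CurveLib.isCoh_tmod hO (hNc _)) (CurveLib.isCoh_tmod hPc (hNc _))
        (CurveLib.isCoh_tmod hC (hNc _))
      have e1 : VolLib.h k ((DevLib.cokerSeq t).map (CurveLib.tensR (CohB1.tensorMod Aq (CohB1.tensorPow P' (i + 1))))).X₂ =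
          VolLib.h k (CohB1.tensorMod Aq (CohB1.tensorPow P' i)) := by
        refine VolLib.h_congr k ?_
        exact (assoc P Aq _).symm ≪≫ tIso (comm P Aq) (Iso.refl _) ≪≫ assoc Aq P _ ≪≫
          tIso (Iso.refl Aq) (tIso (Iso.refl P) (comm _ P') ≪≫ (assoc P P' _).symm ≪≫ tIso ι (Iso.refl _) ≪≫ unitL _)
      have e2 : VolLib.h k ((DevLib.cokerSeq t).map (CurveLib.tensR (CohB1.tensorMod Aq (CohB1.tensorPow P' (i + 1))))).X₁ =
          VolLib.h k (CohB1.tensorMod Aq (CohB1.tensorPow P' (i + 1))) := VolLib.h_congr k (unitL _)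
      have e3 : VolLib.h k ((DevLib.cokerSeq t).map (CurveLib.tensR (CohB1.tensorMod Aq (CohB1.tensorPow P' (i + 1))))).X₃ ≤ M :=
        hsmall (i + 1)
      rw [Nat.succ_mul]
      omega
  refine le_trans (le_of_eq ?_) ((hchain q).trans_eq (congrArg (· + q * M) (VolLib.h_congr k ?_)))
  · rw [hAq]
  · subst hAq
    exact (powTensor A P' q).symm ≪≫ powCongr (tIso eA (Iso.refl P') ≪≫ assoc _ _ _ ≪≫ tIso (Iso.refl _) ι ≪≫
      unitR _) q ≪≫ powMul L b q

/-- Nef modules of positive self-intersection are big. -/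
theorem exists_growth_of_pos {e : ℕ} (hn : topologicalKrullDim X = ((e + 1 : ℕ) : WithBot ℕ∞)) {L H : X.Modules}
    (hL : PicF.IsInvertible L) (hH : CohB1.IsAmple H) (hnef : NefP k hL)
    (hpos : 0 < pairing k (Coh.structureModule X) (cl hL ^ (e + 1))) :
    ∃ ν a : ℕ, 0 < ν ∧ 0 < a ∧ ∀ μ : ℕ, 1 ≤ μ → μ ^ (e + 1) ≤ a * VolLib.h k (CohB1.tensorPow L (ν * μ)) := by
  haveI := EulerIneqLib.isNoetherian_proper (X := X) k
  obtain ⟨P, t, hPa, hηt⟩ : ∃ (P : X.Modules) (t : Coh.structureModule X ⟶ P),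
      CohB1.IsAmple P ∧ genericPoint X ∈ CohB1.genLocus P t := by
    obtain ⟨q, t, hηt, -, -⟩ := AmpleLib.exists_small_genLocus hH (U := ⊤) (x := genericPoint X) trivial
    exact ⟨_, t, (AmpleLib.isAmple_pow_iff hH.1 (Nat.succ_pos q)).2 hH, hηt⟩
  have ht : t ≠ 0 := fun h0 => by
    have hb := (AmpleLib.mem_genLocus_iff hPa.1).1 hηt
    have e : AmpleLib.sec t = 0 := by rw [h0]; rfl
    rw [e, map_zero] at hb
    exact one_ne_zero (hb.1 ((smul_zero (1 : X.presheaf.stalk (genericPoint X))).trans (smul_zero 0).symm))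
  haveI := CurveLib.mono_of_ne_zero ParaFLib.isInvertible_structureModule hPa.1 ht
  have hO := DevLib.isCoh_structureModule X
  have hdO := dim_structureModule_lt hn
  have hC : Coh.IsCoh (cokernel t) := (QCohLib.isCoh_kernel_cokernel t hO (CurveLib.isCoh_of_isInvertible hPa.1)).2
  have hdC : topologicalKrullDim (CohB1.support (cokernel t)) < ((e + 1 : ℕ) : WithBot ℕ∞) :=
    VanGrow.dim_support_lt hn (DevLib.isClosed_support hC)
      (CurveLib.genericPoint_notMem_support ParaFLib.isInvertible_structureModule hPa.1 ht)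
  obtain ⟨x, hx⟩ : ∃ x, x = cl hL := ⟨_, rfl⟩
  obtain ⟨y, hy⟩ : ∃ y, y = cl hPa.1 := ⟨_, rfl⟩
  obtain ⟨b, hb, hD⟩ := exists_twist_pos e (fun i => pairing k (Coh.structureModule X) (mono2 x y (e + 1) i))
    (fun i hi => by subst hx hy; exact klOK k (e + 1) X L P hL hPa hnef _ hO hdO i hi)
    (by simpa [mono2, hx] using hpos)
  obtain ⟨u, hu⟩ : ∃ u, u = (b : PicRing X) * x + ((1 : ℕ) : PicRing X) * y := ⟨_, rfl⟩
  obtain ⟨A, hAd⟩ : ∃ A, A = CohB1.tensorMod (CohB1.tensorPow L b) P := ⟨_, rfl⟩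
  have hAi : PicF.IsInvertible A := hAd ▸ isInvertible_tensor (isInvertible_tensorPow hL b) hPa.1
  have hAu : cl hAi - u ∈ Aug X ^ 2 := by
    subst hAd
    rw [hu, hx, hy, cl_tensor (isInvertible_tensorPow hL b) hPa.1]
    have h3 : cl (isInvertible_tensorPow hL b) * cl hPa.1 ∈ Aug X ^ 2 := by
      rw [pow_two]; exact Ideal.mul_mem_mul (cl_mem _) (cl_mem _)
    convert Ideal.add_mem _ (cl_tensorPow_sub_mem hL b) h3 using 1
    push_cast
    ring
  have hA : CohB1.IsAmple A := isAmple_of_cl k hL hPa hnef hAi one_pos (by rw [← hx, ← hy, ← hu]; exact hAu)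
  have hum : u ∈ Aug X := by
    rw [hu, hx, hy]
    exact Ideal.add_mem _ (Ideal.mul_mem_left _ _ (cl_mem _)) (Ideal.mul_mem_left _ _ (cl_mem _))
  have hSv : pairing k (Coh.structureModule X) (y * u ^ e) =
      ∑ j ∈ Finset.range (e + 1), (e.choose j : ℤ) * (b : ℤ) ^ j * pairing k (Coh.structureModule X) (mono2 x y (e + 1) j) := by
    rw [hu, pairing_binom]
    refine Finset.sum_congr rfl fun j hj => ?_
    rw [show y * mono2 x y e j = mono2 x y (e + 1) j by
      rw [mono2, mono2, Nat.succ_sub (Nat.lt_succ_iff.1 (Finset.mem_range.1 hj)), pow_succ]; ring]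
    simp
  have hTv : pairing k (Coh.structureModule X) (x * u ^ e) =
      ∑ j ∈ Finset.range (e + 1), (e.choose j : ℤ) * (b : ℤ) ^ j * pairing k (Coh.structureModule X) (mono2 x y (e + 1) (j + 1)) := by
    rw [hu, pairing_binom]
    refine Finset.sum_congr rfl fun j hj => ?_
    rw [show x * mono2 x y e j = mono2 x y (e + 1) (j + 1) by
      rw [mono2, mono2, Nat.succ_sub_succ, pow_succ]; ring]
    simp
  rw [← hSv, ← hTv] at hD
  obtain ⟨g, hg, hlow⟩ := exists_lower_bound k hPa hA t (b := b) (L := L) ⟨eqToIso hAd⟩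
  obtain ⟨P0, N0, hP0, hP0e, hP0h⟩ := VanGrow.exists_poly_h0 k hA hO hdO
  have hFr : ∀ r, Coh.IsCoh (CohB1.tensorMod (cokernel t) (CohB1.tensorPow P r)) := fun r =>
    CurveLib.isCoh_tmod hC (CurveLib.isCoh_of_isInvertible (isInvertible_tensorPow hPa.1 r))
  have hsr : ∀ r, topologicalKrullDim (CohB1.support (CohB1.tensorMod (cokernel t) (CohB1.tensorPow P r))) <
      ((e + 1 : ℕ) : WithBot ℕ∞) := fun r => by
    haveI := hC.1
    exact lt_of_eq_of_lt (congrArg (fun s : Set X => topologicalKrullDim s)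
      (HilbLib.support_tensor (isInvertible_tensorPow hPa.1 r) _)) hdC
  choose Q N hQd hQe hQh using fun r => VanGrow.exists_poly_h0 k hA (hFr r) (hsr r)
  have hc0 : ((e + 1).factorial : ℚ) * P0.coeff (e + 1) =
      (b : ℚ) * (pairing k (Coh.structureModule X) (x * u ^ e) : ℚ) + (pairing k (Coh.structureModule X) (y * u ^ e) : ℚ) := by
    rw [← pairing_cl_pow_eq_coeff k hO hAi (IntLib.dim_le_of_lt hdO) P0 hP0 hP0e,
      pairing_congr k (pow_sub_pow_mem (cl_mem _) hum hAu (e + 1)) hO hdO,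
      show u ^ (e + 1) = (b : ℤ) • (x * u ^ e) + y * u ^ e by
        rw [pow_succ, zsmul_eq_mul, Int.cast_natCast]
        nth_rw 2 [hu]
        push_cast; ring,
      map_add, map_zsmul, smul_eq_mul]
    push_cast
    ring
  have hcr : ∀ r, (e.factorial : ℚ) * (Q r).coeff e = (pairing k (Coh.structureModule X) (y * u ^ e) : ℚ) := fun r => by
    rw [← pairing_cl_pow_eq_coeff k (hFr r) hAi (IntLib.dim_le_of_lt (hsr r)) (Q r) (hQd r) (hQe r),
      pairing_congr k (pow_sub_pow_mem (cl_mem _) hum hAu e) (hFr r) (hsr r), hy,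
      ← pairing_coker_section k hPa.1 t, ← IntLib.pairing_of_mul k (cokernel t) (isInvertible_tensorPow hPa.1 r)]
    congr 1
    refine pairing_congr k (n := e + 1) ?_ hC hdC
    rw [show MonoidAlgebra.of ℤ (IntLib.Inv X) (inv' (isInvertible_tensorPow hPa.1 r)) * u ^ e - u ^ e =
      cl (isInvertible_tensorPow hPa.1 r) * u ^ e by rw [cl, sub_mul, one_mul], pow_succ']
    exact Ideal.mul_mem_mul (cl_mem _) (Ideal.pow_mem_pow hum e)
  have hfe : (0 : ℚ) < ((e + 1).factorial : ℚ) := by exact_mod_cast (e + 1).factorial_pos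
  have hcoef : ∀ r, ((e + 1).factorial : ℚ) * (P0 - Polynomial.X * Q r).coeff (e + 1) =
      (b : ℚ) * (pairing k (Coh.structureModule X) (x * u ^ e) : ℚ) - (e : ℚ) * (pairing k (Coh.structureModule X) (y * u ^ e) : ℚ) := by
    intro r
    rw [coeff_sub, coeff_X_mul, mul_sub, hc0]
    have h2 := hcr r
    rw [Nat.factorial_succ]
    push_cast
    linear_combination (-((e : ℚ) + 1)) * h2
  obtain ⟨δ, hδd⟩ : ∃ δ, δ = (P0 - Polynomial.X * Q 0).coeff (e + 1) := ⟨_, rfl⟩
  have hδ : 0 < δ := by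
    rw [← mul_pos_iff_of_pos_left hfe, hδd, hcoef 0, sub_pos]
    exact_mod_cast hD
  have hR : ∀ r, (P0 - Polynomial.X * Q r - Polynomial.C δ * Polynomial.X ^ (e + 1)).degree < ((e + 1 : ℕ) : WithBot ℕ) := by
    intro r
    rw [degree_lt_iff_coeff_zero]
    intro m hm
    obtain ⟨j, rfl⟩ : ∃ j, m = j + 1 := ⟨m - 1, by omega⟩
    rw [coeff_sub, coeff_C_mul_X_pow]
    rcases hm.eq_or_lt with he | hlt
    · rw [← he, if_pos rfl, hδd, sub_eq_zero]
      refine mul_left_cancel₀ hfe.ne' ?_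
      rw [hcoef r, hcoef 0]
    · rw [if_neg hlt.ne', sub_zero, coeff_sub, coeff_X_mul, (degree_lt_iff_coeff_zero P0 (e + 1 + 1)).1 hP0 _ (by omega),
        (degree_lt_iff_coeff_zero (Q r) (e + 1)).1 (hQd r) _ (by omega), sub_zero]
  choose C1 hC1 hC1b using fun r => VanGrow.exists_eval_le (hR r)
  obtain ⟨Cm, hCm⟩ : ∃ Cm : ℚ, Cm = ∑ r ∈ Finset.range (g + 1), C1 r := ⟨_, rfl⟩
  obtain ⟨q₀, hq₁, hq₂, hq₃⟩ : ∃ q₀ : ℕ, N0 + 1 ≤ q₀ ∧ (∀ r, r ≤ g → N r ≤ q₀) ∧ 2 * Cm < δ * (q₀ : ℚ) := by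
    obtain ⟨q, h⟩ := exists_nat_gt (2 * Cm / δ)
    refine ⟨max (max (N0 + 1) q) ((Finset.range (g + 1)).sup N), le_max_of_le_left (le_max_left _ _),
      fun r hr => le_max_of_le_right (Finset.le_sup (Finset.mem_range.2 (Nat.lt_succ_of_le hr))), ?_⟩
    rw [div_lt_iff₀ hδ] at h
    refine h.trans_le ?_
    rw [mul_comm]
    exact mul_le_mul_of_nonneg_left (by exact_mod_cast le_max_of_le_left (le_max_right (N0 + 1) q)) hδ.le
  obtain ⟨a, ha⟩ := exists_nat_gt (2 / δ)
  refine ⟨b * q₀, a + 1, Nat.mul_pos hb (by omega), a.succ_pos, fun μ hμ => ?_⟩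
  obtain ⟨q, hq⟩ : ∃ q, q = q₀ * μ := ⟨_, rfl⟩
  have hqq : q₀ ≤ q := hq ▸ Nat.le_mul_of_pos_right _ hμ
  obtain ⟨r, hr, hineq⟩ := hlow q
  have e0 : (VolLib.h k (CohB1.tensorPow A q) : ℚ) = P0.eval (q : ℚ) := by
    rw [← hP0h q (by omega), VolLib.h_congr k (unitL _)]
  have h5 : P0.eval (q : ℚ) ≤ (VolLib.h k (CohB1.tensorPow L (b * q)) : ℚ) + (q : ℚ) * (Q r).eval (q : ℚ) := by
    rw [← e0, ← hQh r q ((hq₂ r hr).trans hqq)]
    exact_mod_cast hineq
  have h6 := hC1b r q (by omega)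
  simp only [eval_sub, eval_mul, eval_X, eval_C, eval_pow] at h6
  have h7 : C1 r ≤ Cm := hCm ▸ Finset.single_le_sum (fun r _ => hC1 r) (Finset.mem_range.2 (Nat.lt_succ_of_le hr))
  have hqpos : (0 : ℚ) < (q : ℚ) := by exact_mod_cast (by omega : 0 < q)
  have h8 : δ / 2 * (q : ℚ) ^ (e + 1) ≤ (VolLib.h k (CohB1.tensorPow L (b * q)) : ℚ) := by
    have hq3 : 2 * Cm ≤ δ * (q : ℚ) := hq₃.le.trans (mul_le_mul_of_nonneg_left (by exact_mod_cast hqq) hδ.le)
    have hpw : (0 : ℚ) ≤ (q : ℚ) ^ (e + 1) := by positivity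
    have h9 : δ / 2 * (q : ℚ) ^ (e + 1) * q ≤ (P0.eval (q : ℚ) - (q : ℚ) * (Q r).eval (q : ℚ)) * q := by
      have h10 := mul_le_mul_of_nonneg_right (neg_abs_le (P0.eval (q : ℚ) - (q : ℚ) * (Q r).eval (q : ℚ) - δ * (q : ℚ) ^ (e + 1))) hqpos.le
      have h11 : C1 r * (q : ℚ) ^ (e + 1) ≤ δ * (q : ℚ) / 2 * (q : ℚ) ^ (e + 1) :=
        mul_le_mul_of_nonneg_right (by linarith) hpw
      linarith
    have := le_of_mul_le_mul_right h9 hqpos
    linarith
  have h12 : (μ : ℚ) ^ (e + 1) ≤ (q : ℚ) ^ (e + 1) := by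
    refine pow_le_pow_left₀ (by positivity) ?_ _
    exact_mod_cast hq ▸ Nat.le_mul_of_pos_left μ (by omega : 0 < q₀)
  have h13 : (μ : ℚ) ^ (e + 1) ≤ ((a + 1 : ℕ) : ℚ) * (VolLib.h k (CohB1.tensorPow L (b * q)) : ℚ) := by
    rw [div_lt_iff₀ hδ] at ha
    push_cast
    nlinarith [mul_le_mul_of_nonneg_left h8 (by positivity : (0 : ℚ) ≤ (a : ℚ) + 1), pow_nonneg hqpos.le (e + 1)]
  rw [mul_assoc, ← hq]
  exact_mod_cast h13

end Groth.Agent.Nakai
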