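import Groth.Agent.NakaiLib.SmallApps
import Groth.Agent.AmpleLib.FinProd

/-!
# Sections of powers of globally generated modules
-/

set_option autoImplicit false
set_option backward.isDefEq.respectTransparency false
set_option linter.style.haveILetI false

universe u

open CategoryTheory CategoryTheory.Limits AlgebraicGeometry TopologicalSpace
open Groth.Agent.PullbackMod Groth.Agent.DCohLib Groth.Agent.AmpleLib
open Groth.Agent.IntLib (PicRing pairing dif inv' compMod)
open scoped TensorProduct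

noncomputable section

namespace Groth.Agent.Nakai

section Mul

variable {X : Scheme.{u}} [IsNoetherian X] {N : X.Modules}

/-- Multiplication of a piece by a section not vanishing at its point. -/
theorem exists_mulS_piece (hN : PicF.IsInvertible N) (t : Coh.structureModule X ⟶ N) {ξ : X}
    (hξt : ξ ∈ CohB1.genLocus N t) {Q : X.Modules} (hQ : DevLib.IsPiece ξ Q) :
    ∃ μ : Q ⟶ tmod Q N, Mono μ ∧ (∀ y ∈ CohB1.support (cokernel μ), ξ ⤳ y) ∧
      ξ ∉ CohB1.support (cokernel μ) ∧ ∀ y ∈ CohB1.support (cokernel μ), y ∉ CohB1.genLocus N t := by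
  let μ : Q ⟶ tmod Q N := (AmpleLib.unitR Q).inv ≫ CurveLib.mulS Q t
  have hone : ∀ y, stalkLin t y (ParaFLib.oneG y) = N.presheaf.germ ⊤ y trivial (AmpleLib.sec t) := fun y =>
    stalkLin_germ t (U := ⊤) y trivial _
  have hb : ∀ y, y ∈ CohB1.genLocus N t → Function.Bijective (stalkLin μ y) := fun y hy => by
    rw [stalkLin_comp, LinearMap.coe_comp]
    refine Function.Bijective.comp ?_ (HilbLib.stalkLin_bijective_of_iso (AmpleLib.unitR Q).symm y)
    have hb := (AmpleLib.mem_genLocus_iff hN).1 hy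
    have htb : Function.Bijective (stalkLin t y) := by
      refine ⟨(injective_iff_map_eq_zero _).2 fun z hz => ?_, fun z => ?_⟩
      · obtain ⟨r, rfl⟩ := (ParaFLib.bijective_oneG y).2 z
        rw [map_smul, hone] at hz
        have hr : r = 0 := hb.1 (hz.trans (zero_smul _ _).symm)
        rw [hr]; exact zero_smul _ _
      · obtain ⟨r, rfl⟩ := hb.2 z
        exact ⟨r • ParaFLib.oneG y, by rw [map_smul, hone]⟩
    have e' : (stalkLin (CurveLib.mulS Q t) y) ∘ (stalkTensor y Q (Coh.structureModule X)) =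
        (stalkTensor y Q N) ∘ ((LinearEquiv.ofBijective _ htb).lTensor (Q.presheaf.stalk y)) :=
      funext fun z => stalkTensor_natural_right y t z
    refine (Function.Bijective.of_comp_iff _ (stalkTensor y Q (Coh.structureModule X)).bijective).1 ?_
    exact (congrArg Function.Bijective e').mpr ((stalkTensor y Q N).bijective.comp (LinearEquiv.bijective _))
  haveI : Mono μ := by
    refine (mono_iff_stalk _).2 fun y => (injective_iff_map_eq_zero _).2 fun z hz => ?_
    obtain ⟨O, hy, s, rfl⟩ := TopCat.Presheaf.exists_germ_eq Q.presheaf z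
    rw [stalkLin_germ] at hz
    obtain ⟨W, hyW, i₁, i₂, hres⟩ := TopCat.Presheaf.germ_eq (tmod Q N).presheaf y hy hy _ 0
      (hz.trans (map_zero _).symm)
    rw [map_zero] at hres
    rw [← TopCat.Presheaf.germ_res_apply Q.presheaf i₁ y hyW s]
    refine (congrArg _ (hQ.tf W _ fun hξW => (hb ξ hξt).1 ?_)).trans (map_zero _)
    rw [stalkLin_germ, map_zero]
    exact (congrArg ((tmod Q N).presheaf.germ W ξ hξW) ((QCohLib.app_res μ i₁.le s).trans hres)).trans (map_zero _)
  refine ⟨μ, inferInstance, DevLib.supp_coker μ ?_, DevLib.notMem_support_coker μ (hb ξ hξt).2,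
    fun y hy hy' => DevLib.notMem_support_coker μ (hb y hy').2 hy⟩
  rw [HilbLib.support_tensor hN]
  exact hQ.supp

end Mul

variable {X : Scheme.{u}} (k : Type u) [Field k] [X.Over (Spec (CommRingCat.of k))]
  [IsProper (X ↘ Spec (CommRingCat.of k))]

/-- Cutting a component by a section. -/
theorem exists_cut_section {N : X.Modules} (hN : PicF.IsInvertible N) (hgen : Curv2.IsGloballyGenerated N) {ξ : X}
    {m : ℕ} (hξ : topologicalKrullDim (closure {ξ} : Set X) = ((m + 1 : ℕ) : WithBot ℕ∞)) :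
    ∃ (t : Coh.structureModule X ⟶ N) (C : X.Modules), ξ ∈ CohB1.genLocus N t ∧ Coh.IsCoh C ∧
      topologicalKrullDim (CohB1.support C) < ((m + 1 : ℕ) : WithBot ℕ∞) ∧
      (∀ y ∈ CohB1.support C, ξ ⤳ y ∧ y ∉ CohB1.genLocus N t) ∧
      ∀ z, pairing k C z = pairing k (compMod ξ) (cl hN * z) := by
  haveI := EulerIneqLib.isNoetherian_proper (X := X) k
  have hQ := IntLib.isPiece_compMod ξ
  obtain ⟨t, ht⟩ := AmpleLib.exists_genLocus_of_isGloballyGenerated hN hgen ξ
  obtain ⟨μ, hμ, hCs, hξC, hCt⟩ := exists_mulS_piece hN t ht hQ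
  have hQN := CurveLib.isCoh_tmod hQ.coh (CurveLib.isCoh_of_isInvertible hN)
  have hC := (QCohLib.isCoh_kernel_cokernel μ hQ.coh hQN).2
  refine ⟨t, cokernel μ, ht, hC, HilbLib.dim_lt_of_notMem (DevLib.isClosed_support hC)
    (fun y hy => specializes_iff_mem_closure.1 (hCs y hy)) hξC (by rw [hξ]; exact_mod_cast Nat.lt_succ_self (m + 1)),
    fun y hy => ⟨hCs y hy, hCt y hy⟩, fun z => ?_⟩
  have h : pairing k (CohB1.tensorMod (compMod ξ) N) z = pairing k (compMod ξ) z + pairing k (cokernel μ) z :=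
    IntLib.pairing_coker k μ hQ.coh hQN z
  rw [← IntLib.pairing_of_mul k (compMod ξ) hN] at h
  rw [cl, sub_mul, one_mul, map_sub, h, add_sub_cancel_left]

/-- Powers of a globally generated module are nonnegative. -/
theorem pairing_pow_nonneg_of_generated {N : X.Modules} (hN : PicF.IsInvertible N)
    (hgen : Curv2.IsGloballyGenerated N) : ∀ (m : ℕ) (F : X.Modules), Coh.IsCoh F →
      topologicalKrullDim (CohB1.support F) < ((m + 1 : ℕ) : WithBot ℕ∞) → 0 ≤ pairing k F (cl hN ^ m) := by
  haveI := EulerIneqLib.isNoetherian_proper (X := X) k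
  intro m
  induction m with
  | zero =>
    intro F hF hd
    rw [pow_zero]
    exact (IntLib.isPos_one k F hF hd).1
  | succ m ih =>
    intro F hF hd
    refine pairing_nonneg k (Ideal.pow_mem_pow (cl_mem hN) _) hF hd fun ξ _ hξ => ?_
    obtain ⟨t, C, -, hC, hdC, -, hCz⟩ := exists_cut_section k hN hgen hξ
    have := ih C hC hdC
    rwa [hCz, ← pow_succ'] at this

/-- Global sections vanishing at a point. -/
def zeroAt (M : X.Modules) (x : X) : Submodule k (Coh.HH X M 0) where
  carrier := {c | M.presheaf.germ ⊤ x trivial (CurveLib.secOf M c) ∈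
    IsLocalRing.maximalIdeal (X.presheaf.stalk x) • (⊤ : Submodule (X.presheaf.stalk x) (M.presheaf.stalk x))}
  add_mem' := fun {a b} ha hb => by
    show M.presheaf.germ ⊤ x trivial (CurveLib.secOf M (a + b)) ∈
      IsLocalRing.maximalIdeal (X.presheaf.stalk x) • (⊤ : Submodule (X.presheaf.stalk x) (M.presheaf.stalk x))
    rw [map_add, map_add]
    exact Submodule.add_mem _ ha hb
  zero_mem' := by
    show M.presheaf.germ ⊤ x trivial (CurveLib.secOf M (0 : Coh.HH X M 0)) ∈
      IsLocalRing.maximalIdeal (X.presheaf.stalk x) • (⊤ : Submodule (X.presheaf.stalk x) (M.presheaf.stalk x))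
    rw [map_zero, map_zero]
    exact Submodule.zero_mem _
  smul_mem' := fun r c hc => by
    show M.presheaf.germ ⊤ x trivial (CurveLib.secOf M (r • c)) ∈
      IsLocalRing.maximalIdeal (X.presheaf.stalk x) • (⊤ : Submodule (X.presheaf.stalk x) (M.presheaf.stalk x))
    rw [CurveLib.secOf_smul, HomLib.germ_smul']
    exact Submodule.smul_mem _ _ hc

omit [IsProper (X ↘ Spec (CommRingCat.of k))] in
theorem mem_zeroAt_iff {M : X.Modules} (hM : PicF.IsInvertible M) {x : X} {c : Coh.HH X M 0} :
    c ∈ zeroAt k M x ↔ x ∉ CohB1.genLocus M (DCohLib.secHom M (CurveLib.secOf M c)) := by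
  obtain ⟨e, he⟩ := ParaFLib.exists_stalk_gen hM x
  obtain ⟨a, ha⟩ := he.2 (M.presheaf.germ ⊤ x trivial (CurveLib.secOf M c))
  rw [AmpleLib.mem_genLocus_iff hM, AmpleLib.sec_secHom]
  show M.presheaf.germ ⊤ x trivial (CurveLib.secOf M c) ∈ IsLocalRing.maximalIdeal (X.presheaf.stalk x) • (⊤ : Submodule (X.presheaf.stalk x) (M.presheaf.stalk x)) ↔ _
  simp only at ha
  rw [← ha, AmpleLib.bijective_smul_iff he]
  constructor
  · intro hmem hu
    have htop : (⊤ : Submodule (X.presheaf.stalk x) (M.presheaf.stalk x)) =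
        Submodule.span (X.presheaf.stalk x) {e} := by
      refine (Submodule.eq_top_iff'.2 fun z => ?_).symm
      obtain ⟨r, hr⟩ := he.2 z
      exact hr ▸ Submodule.smul_mem _ r (Submodule.mem_span_singleton_self e)
    rw [htop, Submodule.mem_smul_span_singleton] at hmem
    obtain ⟨r, hr, hre⟩ := hmem
    have : r = a := he.1 hre
    exact hr (this ▸ hu)
  · intro hu
    exact Submodule.smul_mem_smul (by exact hu) Submodule.mem_top

/-- The dimension of the space of values at a point. -/
def gval (M : X.Modules) (x : X) : ℕ := Module.finrank k (Coh.HH X M 0 ⧸ zeroAt k M x)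

/-- Multiplication by a global section. -/
def mulBy (M : X.Modules) {P : X.Modules} (σ : Γ(P, ⊤)) :
    Coh.HH X M 0 →ₗ[k] Coh.HH X (CohB1.tensorMod M P) 0 where
  toFun c := (CurveLib.secOf (tmod M P)).symm (pairS M P (CurveLib.secOf M c) σ)
  map_add' a b := by
    rw [map_add, pairS_add_left, map_add]
  map_smul' r c := by
    refine (CurveLib.secOf (tmod M P)).injective ?_
    show CurveLib.secOf (tmod M P) ((CurveLib.secOf (tmod M P)).symm _) =
      CurveLib.secOf (tmod M P) (r • (CurveLib.secOf (tmod M P)).symm _)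
    rw [CurveLib.secOf_smul (k := k) (tmod M P), AddEquiv.apply_symm_apply, AddEquiv.apply_symm_apply,
      CurveLib.secOf_smul, pairS_smul_left]

omit [IsProper (X ↘ Spec (CommRingCat.of k))] in
theorem mulBy_mem_iff {M P : X.Modules} (hM : PicF.IsInvertible M) (hP : PicF.IsInvertible P)
    (s : Coh.structureModule X ⟶ P) (c : Coh.HH X M 0) (x : X) :
    mulBy k M (sec s) c ∈ zeroAt k (CohB1.tensorMod M P) x ↔
      c ∈ zeroAt k M x ∨ x ∉ CohB1.genLocus P s := by
  rw [mem_zeroAt_iff k (isInvertible_tensor hM hP), mem_zeroAt_iff k hM, ← not_and_or]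
  refine not_congr ?_
  have e : DCohLib.secHom (CohB1.tensorMod M P) (CurveLib.secOf (CohB1.tensorMod M P) (mulBy k M (sec s) c)) =
      tensorS (DCohLib.secHom M (CurveLib.secOf M c)) s := by
    show DCohLib.secHom (tmod M P) (CurveLib.secOf (tmod M P) ((CurveLib.secOf (tmod M P)).symm _)) = _
    rw [AddEquiv.apply_symm_apply, tensorS, sec_secHom]
  rw [e, genLocus_tensorS hM hP]
  exact Iff.rfl

/-- Values along a specialisation. -/
theorem gval_add_le {M P : X.Modules} (hM : PicF.IsInvertible M) (hP : PicF.IsInvertible P)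
    (s : Coh.structureModule X ⟶ P) {ξ ζ : X} (h : ξ ⤳ ζ) (hξ : ξ ∈ CohB1.genLocus P s)
    (hζ : ζ ∉ CohB1.genLocus P s) :
    gval k M ξ + gval k (CohB1.tensorMod M P) ζ ≤ gval k (CohB1.tensorMod M P) ξ := by
  haveI := EulerIneqLib.isNoetherian_proper (X := X) k
  have hMP := isInvertible_tensor hM hP
  haveI := EulerIneqLib.finite_HH (k := k) (CurveLib.isCoh_of_isInvertible hMP) 0
  have hK : zeroAt k (CohB1.tensorMod M P) ξ ≤ zeroAt k (CohB1.tensorMod M P) ζ := fun c hc => by
    rw [mem_zeroAt_iff k hMP] at hc ⊢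
    exact fun hmem => hc (h.mem_open (CohB1.genLocus _ _).2 hmem)
  let f := (zeroAt k M ξ).mapQ (zeroAt k (CohB1.tensorMod M P) ξ) (mulBy k M (sec s))
    (fun c hc => (mulBy_mem_iff k hM hP s c ξ).2 (Or.inl hc))
  let q := (zeroAt k (CohB1.tensorMod M P) ξ).mapQ (zeroAt k (CohB1.tensorMod M P) ζ) LinearMap.id hK
  have hf : Function.Injective f := by
    refine (injective_iff_map_eq_zero f).2 fun v hv => ?_
    obtain ⟨c, rfl⟩ := Submodule.Quotient.mk_surjective _ v
    rw [Submodule.mapQ_apply, Submodule.Quotient.mk_eq_zero, mulBy_mem_iff k hM hP] at hv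
    exact (Submodule.Quotient.mk_eq_zero _).2 (hv.resolve_right (not_not.2 hξ))
  have hqs : Function.Surjective q := fun v => by
    obtain ⟨c, rfl⟩ := Submodule.Quotient.mk_surjective _ v
    exact ⟨Submodule.Quotient.mk c, Submodule.mapQ_apply _ _ _ c⟩
  have hle : LinearMap.range f ≤ LinearMap.ker q := by
    rintro _ ⟨v, rfl⟩
    obtain ⟨c, rfl⟩ := Submodule.Quotient.mk_surjective _ v
    rw [LinearMap.mem_ker, Submodule.mapQ_apply, Submodule.mapQ_apply, LinearMap.id_apply, Submodule.Quotient.mk_eq_zero,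
      mulBy_mem_iff k hM hP]
    exact Or.inr hζ
  have h1 := LinearMap.finrank_range_add_finrank_ker q
  rw [LinearMap.range_eq_top.2 hqs, finrank_top] at h1
  have h2 := Submodule.finrank_mono hle
  rw [LinearMap.finrank_range_of_inj hf] at h2
  unfold gval
  omega

/-- Values of powers are nonzero. -/
theorem gval_pow_pos {N : X.Modules} (hN : PicF.IsInvertible N) (hgen : Curv2.IsGloballyGenerated N) (t : ℕ) (x : X) :
    0 < gval k (CohB1.tensorPow N t) x := by
  haveI := EulerIneqLib.isNoetherian_proper (X := X) k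
  obtain ⟨s, hs⟩ := AmpleLib.exists_genLocus_of_isGloballyGenerated hN hgen x
  have hNt := isInvertible_tensorPow hN t
  haveI := EulerIneqLib.finite_HH (k := k) (CurveLib.isCoh_of_isInvertible hNt) 0
  obtain ⟨c, hc⟩ : ∃ c : Coh.HH X (CohB1.tensorPow N t) 0, c ∉ zeroAt k (CohB1.tensorPow N t) x := by
    refine ⟨(CurveLib.secOf _).symm (sec (powS s t)), ?_⟩
    rw [mem_zeroAt_iff k hNt, AddEquiv.apply_symm_apply, secHom_sec, not_not]
    cases t with
    | zero => exact genLocus_id.ge trivial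
    | succ t => rw [genLocus_powS hN s t]; exact hs
  refine Nat.pos_of_ne_zero fun h0 => hc ?_
  haveI : Subsingleton (Coh.HH X (CohB1.tensorPow N t) 0 ⧸ zeroAt k (CohB1.tensorPow N t) x) :=
    Module.finrank_zero_iff.1 h0
  exact (Submodule.Quotient.mk_eq_zero _).1 (Subsingleton.elim _ _)

/-- Growth of values at a component of positive degree. -/
theorem choose_le_gval {N : X.Modules} (hN : PicF.IsInvertible N) (hgen : Curv2.IsGloballyGenerated N) :
    ∀ (m : ℕ) (ξ : X), topologicalKrullDim (closure {ξ} : Set X) = (m : WithBot ℕ∞) →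
      0 < pairing k (compMod ξ) (cl hN ^ m) → ∀ t, (t + m).choose m ≤ gval k (CohB1.tensorPow N t) ξ := by
  haveI := EulerIneqLib.isNoetherian_proper (X := X) k
  intro m
  induction m with
  | zero =>
    intro ξ _ _ t
    rw [Nat.choose_zero_right]
    exact gval_pow_pos k hN hgen t ξ
  | succ m ih =>
    intro ξ hξ hpos
    obtain ⟨s, C, hs, hC, hdC, hCs, hCz⟩ := exists_cut_section k hN hgen hξ
    obtain ⟨ζ, hζC, hζd, hζp⟩ : ∃ ζ ∈ CohB1.support C,
        topologicalKrullDim (closure {ζ} : Set X) = (m : WithBot ℕ∞) ∧ 0 < pairing k (compMod ζ) (cl hN ^ m) := by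
      by_contra hno
      push Not at hno
      have := pairing_nonneg k ((Aug X ^ m).neg_mem (Ideal.pow_mem_pow (cl_mem hN) m)) hC hdC fun ζ hζ hζd => by
        rw [map_neg, neg_nonneg]
        exact hno ζ hζ hζd
      rw [map_neg, neg_nonneg, hCz, ← pow_succ'] at this
      exact hpos.not_ge this
    intro t
    induction t with
    | zero =>
      rw [Nat.zero_add, Nat.choose_self]
      exact gval_pow_pos k hN hgen 0 ξ
    | succ t iht =>
      have h1 := gval_add_le k (isInvertible_tensorPow hN t) hN s (hCs ζ hζC).1 hs (hCs ζ hζC).2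
      have h2 := ih ζ hζd hζp (t + 1)
      rw [show t + 1 + (m + 1) = (t + 1 + m) + 1 by omega, Nat.choose_succ_succ']
      rw [show t + (m + 1) = t + 1 + m by omega] at iht
      calc (t + 1 + m).choose m + (t + 1 + m).choose (m + 1)
          ≤ gval k (CohB1.tensorPow N (t + 1)) ζ + gval k (CohB1.tensorPow N t) ξ := Nat.add_le_add h2 iht
        _ ≤ _ := by rw [Nat.add_comm]; exact h1

/-- Semiample modules with positive power grow. -/
theorem exists_growth_of_generated {L : X.Modules} {μ : ℕ} (hμ : 0 < μ)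
    (hN : PicF.IsInvertible (CohB1.tensorPow L μ)) (hgen : Curv2.IsGloballyGenerated (CohB1.tensorPow L μ))
    {m : ℕ} {ξ : X} (hξ : topologicalKrullDim (closure {ξ} : Set X) = (m : WithBot ℕ∞))
    (hpos : 0 < pairing k (compMod ξ) (cl hN ^ m)) :
    ∃ ν a : ℕ, 0 < ν ∧ 0 < a ∧ ∀ t : ℕ, 1 ≤ t → t ^ m ≤ a * VolLib.h k (CohB1.tensorPow L (ν * t)) := by
  haveI := EulerIneqLib.isNoetherian_proper (X := X) k
  refine ⟨μ, m.factorial, hμ, m.factorial_pos, fun t _ => ?_⟩
  rw [← VolLib.h_congr k (powMul L μ t)]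
  haveI := EulerIneqLib.finite_HH (k := k) (CurveLib.isCoh_of_isInvertible (isInvertible_tensorPow hN t)) 0
  have h1 : (t + m).choose m ≤ VolLib.h k (CohB1.tensorPow (CohB1.tensorPow L μ) t) :=
    (choose_le_gval k hN hgen m ξ hξ hpos t).trans (Submodule.finrank_quotient_le _)
  refine le_trans ?_ (Nat.mul_le_mul_left _ h1)
  rw [← Nat.ascFactorial_eq_factorial_mul_choose]
  exact (Nat.pow_le_pow_left (Nat.le_succ t) m).trans (Nat.pow_succ_le_ascFactorial (t + 1) m)

/-- The power of the class of a tensor power. -/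
theorem pairing_cl_tensorPow_pow {L : X.Modules} (hL : PicF.IsInvertible L) (μ m : ℕ)
    (hN : PicF.IsInvertible (CohB1.tensorPow L μ)) {F : X.Modules} (hF : Coh.IsCoh F)
    (hd : topologicalKrullDim (CohB1.support F) < ((m + 1 : ℕ) : WithBot ℕ∞)) :
    pairing k F (cl hN ^ m) = (μ : ℤ) ^ m * pairing k F (cl hL ^ m) := by
  have hu : (μ : PicRing X) * cl hL ∈ Aug X := Ideal.mul_mem_left _ _ (cl_mem hL)
  rw [pairing_congr k (pow_sub_pow_mem (cl_mem hN) hu (cl_tensorPow_sub_mem hL μ) m) hF hd,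
    mul_pow, ← smul_eq_mul (α := ℤ) (a := (μ : ℤ) ^ m), ← map_zsmul]
  congr 1
  rw [zsmul_eq_mul]
  push_cast
  rfl

/-- Semiample modules are nef. -/
theorem nefP_of_semiample {L : X.Modules} (hL : PicF.IsInvertible L) {μ : ℕ} (hμ : 0 < μ)
    (hgen : Curv2.IsGloballyGenerated (CohB1.tensorPow L μ)) : NefP k hL := fun ξ hξ => by
  haveI := EulerIneqLib.isNoetherian_proper (X := X) k
  have hQ := IntLib.isPiece_compMod ξ
  have hd := dim_supp_le hQ.supp (show topologicalKrullDim (closure {ξ} : Set X) < ((1 + 1 : ℕ) : WithBot ℕ∞) by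
    rw [hξ]; exact_mod_cast Nat.lt_succ_self 1)
  have h := pairing_pow_nonneg_of_generated k (isInvertible_tensorPow hL μ) hgen 1 _ hQ.coh hd
  rw [pairing_cl_tensorPow_pow k hL μ 1 (isInvertible_tensorPow hL μ) hQ.coh hd] at h
  simp only [pow_one] at h
  exact nonneg_of_mul_nonneg_right h (by exact_mod_cast hμ)

end Groth.Agent.Nakai
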