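import Groth.Agent.NakaiLib.Gen
import Groth.Agent.AmpleEmb.GenFinite
import Groth.Agent.FlatDim.Trdeg
import Groth.Agent.DevLib.Closed

/-!
# The Nakai–Moishezon criterion
-/

set_option autoImplicit false
set_option backward.isDefEq.respectTransparency false
set_option linter.style.haveILetI false

universe u

open CategoryTheory CategoryTheory.Limits AlgebraicGeometry TopologicalSpace Opposite
open Groth.Agent.PullbackMod Groth.Agent.DCohLib Groth.Agent.DevLib Groth.Agent.QCohLib
open Groth.Agent.CurveLib (tmap tensR hMap)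
open scoped TensorProduct

noncomputable section

namespace Groth.Agent.Nakai

variable (k : Type u) [Field k] {X : Scheme.{u}} [X.Over (Spec (CommRingCat.of k))]
  [IsProper (X ↘ Spec (CommRingCat.of k))]

include k

/-- The leading intersection numbers with all positive dimensional integral closed subschemes are positive. -/
def NakaiPos (X : Scheme.{u}) [X.Over (Spec (CommRingCat.of k))] [IsProper (X ↘ Spec (CommRingCat.of k))]
    (L : X.Modules) : Prop :=
  ∀ (Z : Scheme.{u}) [Z.Over (Spec (CommRingCat.of k))] [IsProper (Z ↘ Spec (CommRingCat.of k))] [IsIntegral Z]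
    (i : Z ⟶ X) [IsClosedImmersion i], i ≫ (X ↘ Spec (CommRingCat.of k)) = Z ↘ Spec (CommRingCat.of k) →
    TopPos k Z ((Scheme.Modules.pullback i).obj L)

theorem chi_congr {L L' : X.Modules} (e : L ≅ L') (M : X.Modules) (m : ℕ) :
    HilbLib.chi k L M m = HilbLib.chi k L' M m :=
  congrArg (fun z : ℤ => (z : ℚ)) (CurveLib.euler_iso (K := k)
    (AmpleLib.tIso (Iso.refl M) (AmpleLib.powCongr e m)))

theorem TopPos.of_iso {L L' : X.Modules} (e : L ≅ L') (h : TopPos k X L) : TopPos k X L' :=
  fun d hd hdim P hP => h d hd hdim P fun m => (chi_congr k e _ m).trans (hP m)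

theorem NakaiPos.restrict {L : X.Modules} (h : NakaiPos k X L) {Z : Scheme.{u}}
    [Z.Over (Spec (CommRingCat.of k))] [IsProper (Z ↘ Spec (CommRingCat.of k))] (i : Z ⟶ X) [IsClosedImmersion i]
    (hi : i ≫ (X ↘ Spec (CommRingCat.of k)) = Z ↘ Spec (CommRingCat.of k)) :
    NakaiPos k Z ((Scheme.Modules.pullback i).obj L) := by
  intro W _ _ _ j _ hj
  exact TopPos.of_iso k ((Scheme.Modules.pullbackComp j i).app L).symm
    (h W (j ≫ i) (by rw [Category.assoc, hi, hj]))

theorem NakaiPos.topPos [IsIntegral X] {L : X.Modules} (h : NakaiPos k X L) : TopPos k X L :=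
  TopPos.of_iso k ((Scheme.Modules.pullbackId X).app L) (h X (𝟙 X) (Category.id_comp _))

omit k [Field k] [X.Over (Spec (CommRingCat.of k))] [IsProper (X ↘ Spec (CommRingCat.of k))] in
theorem range_vanishing (ξ : X) : Set.range (Scheme.IdealSheafData.vanishingIdeal
    (⟨closure ({ξ} : Set X), isClosed_closure⟩ : Closeds X)).subschemeι = closure {ξ} := by
  rw [Scheme.IdealSheafData.range_subschemeι, Scheme.IdealSheafData.coe_support_vanishingIdeal]
  rfl

omit k [Field k] [X.Over (Spec (CommRingCat.of k))] [IsProper (X ↘ Spec (CommRingCat.of k))] in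
theorem dim_vanishing (ξ : X) : topologicalKrullDim (Scheme.IdealSheafData.vanishingIdeal
    (⟨closure ({ξ} : Set X), isClosed_closure⟩ : Closeds X)).subscheme =
      topologicalKrullDim (closure ({ξ} : Set X)) := by
  rw [((Scheme.IdealSheafData.vanishingIdeal
    (⟨closure ({ξ} : Set X), isClosed_closure⟩ : Closeds X)).subschemeι.isEmbedding.toHomeomorph
      ).isHomeomorph.topologicalKrullDim_eq, range_vanishing ξ]

/-- Dévissage: a module is good when the restrictions to the components of its support are ample. -/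
theorem good_of_components {L : X.Modules} (hL : PicF.IsInvertible L) (T : Set X)
    (hamp : ∀ ξ ∈ T, closure {ξ} ⊆ T → CohB1.IsAmple ((Scheme.Modules.pullback
      (Scheme.IdealSheafData.vanishingIdeal (⟨closure {ξ}, isClosed_closure⟩ : Closeds X)).subschemeι).obj L))
    {F : X.Modules} (hF : Coh.IsCoh F) (hT : CohB1.support F ⊆ T) : Good L F := by
  haveI := EulerIneqLib.isNoetherian_proper (X := X) k
  refine devissage T (Good L) Good.of_iso (fun M hM => good_of_isZero k hL hM)
    (fun S hS _ _ _ _ h1 h3 => Good.ext hL hS h1 h3) (fun ξ hξT hξ Q hQ hsm => ?_) F hF hT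
  refine piece_of_ext T hξ (Good L) (fun S hS _ _ _ _ h1 h3 => Good.ext hL hS h1 h3)
    (IntLib.isPiece_compMod ξ) (fun H q hq hH => ?_) hQ hsm
  let J := Scheme.IdealSheafData.vanishingIdeal (⟨closure {ξ}, isClosed_closure⟩ : Closeds X)
  letI : J.subscheme.Over (Spec (CommRingCat.of k)) := ⟨J.subschemeι ≫ (X ↘ Spec (CommRingCat.of k))⟩
  haveI : IsProper (J.subscheme ↘ Spec (CommRingCat.of k)) :=
    (inferInstanceAs (IsProper (J.subschemeι ≫ (X ↘ Spec (CommRingCat.of k)))))
  haveI := EulerIneqLib.isNoetherian_proper (X := J.subscheme) k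
  haveI := CurveLib.isIntegral_vanishingIdeal (X := X) (C := closure {ξ}) isClosed_closure isIrreducible_singleton.closure
  obtain ⟨I, ι, hι, hI, ⟨e⟩⟩ := exists_ideal_of_mono J.subschemeι q hH.1
  haveI := hι
  have hIc : Coh.IsCoh I := isCoh_of_mono ι (isCoh_structureModule _) hI
  exact Good.of_iso _ _ ⟨e⟩ (Good.push J.subschemeι hL hIc (good_of_isAmple (k := k) (hamp ξ hξT hξ) hIc))

/-- Finitely many generating sections suffice. -/
theorem exists_generated_pow {L : X.Modules} (hL : PicF.IsInvertible L)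
    (h : ∀ x : X, IsClosed ({x} : Set X) →
      ∃ (m : ℕ) (σ : Coh.structureModule X ⟶ CohB1.tensorPow L (m + 1)), x ∈ CohB1.genLocus _ σ) :
    ∃ N : ℕ, 0 < N ∧ ∀ x : X, ∃ σ : Coh.structureModule X ⟶ CohB1.tensorPow L N, x ∈ CohB1.genLocus _ σ := by
  haveI := EulerIneqLib.isNoetherian_proper (X := X) k
  let ι := Σ m : ℕ, (Coh.structureModule X ⟶ CohB1.tensorPow L (m + 1))
  obtain ⟨S, hS⟩ := isCompact_univ.elim_finite_subcover (fun i : ι => (CohB1.genLocus _ i.2 : Set X))
    (fun i => (CohB1.genLocus _ i.2).isOpen) fun y _ => by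
      obtain ⟨x, hx, hxc⟩ := (isClosed_closure (s := ({y} : Set X))).exists_closed_singleton ⟨y, subset_closure rfl⟩
      obtain ⟨m, σ, hσ⟩ := h x hxc
      exact Set.mem_iUnion.2 ⟨⟨m, σ⟩, (specializes_iff_mem_closure.2 hx).mem_open (CohB1.genLocus _ σ).isOpen hσ⟩
  refine ⟨∏ i ∈ S, (i.1 + 1), Finset.prod_pos fun i _ => Nat.succ_pos _, fun x => ?_⟩
  obtain ⟨i, hi, hx⟩ := Set.mem_iUnion₂.1 (hS (Set.mem_univ x))
  obtain ⟨c, hc⟩ := Finset.dvd_prod_of_mem (fun i : ι => i.1 + 1) hi
  have hpos : 0 < ∏ i ∈ S, (i.1 + 1) := Finset.prod_pos fun i _ => Nat.succ_pos _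
  obtain ⟨b, rfl⟩ : ∃ b, c = b + 1 := ⟨c - 1, by rcases c with _ | c <;> simp_all⟩
  refine ⟨AmpleLib.powS i.2 (b + 1) ≫ (AmpleLib.powMul L (i.1 + 1) (b + 1) ≪≫
    eqToIso (congrArg (CohB1.tensorPow L) hc.symm)).hom, ?_⟩
  rw [AmpleLib.genLocus_comp_iso, AmpleLib.genLocus_powS (AmpleLib.isInvertible_tensorPow hL _)]
  exact hx

/-- A power trivial on a positive dimensional subscheme contradicts positivity. -/
theorem not_trivial_of_topPos [IsIntegral X] {L : X.Modules} (hL : PicF.IsInvertible L) (h : TopPos k X L)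
    {N : ℕ} (hN : 0 < N) (e : Coh.structureModule X ≅ CohB1.tensorPow L N) :
    topologicalKrullDim X ≤ 0 := by
  haveI := EulerIneqLib.isNoetherian_proper (X := X) k
  obtain ⟨d, -, hd⟩ := FlatDim.topologicalKrullDim_closure k (X ↘ Spec (CommRingCat.of k)) (genericPoint X)
  rw [(genericPoint_spec X).def, (Homeomorph.Set.univ X).isHomeomorph.topologicalKrullDim_eq] at hd
  rcases Nat.eq_zero_or_pos d with rfl | hd0
  · exact hd.le.trans (by simp)
  have hdim : topologicalKrullDim (CohB1.support (Coh.structureModule X)) < ((d + 1 : ℕ) : WithBot ℕ∞) :=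
    lt_of_le_of_lt (Topology.IsInducing.subtypeVal.topologicalKrullDim_le.trans hd.le)
      (by exact_mod_cast Nat.lt_succ_self d)
  obtain ⟨P, -, hPe⟩ := HilbLib.exists_poly k hL (d + 1) _
    (CurveLib.isCoh_of_isInvertible (ParaFLib.isInvertible_structureModule (X := X))) hdim
  have hc := h d hd0 hd P hPe
  have hconst : P.comp (Polynomial.C (N : ℚ) * Polynomial.X) =
      Polynomial.C (Curv2.euler k X (Coh.structureModule X) : ℚ) := HilbLib.poly_eq_of_nat fun t => by
    rw [Polynomial.eval_comp, Polynomial.eval_mul, Polynomial.eval_C, Polynomial.eval_X, Polynomial.eval_C,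
      ← Nat.cast_mul, ← hPe]
    exact congrArg (fun z : ℤ => (z : ℚ)) (CurveLib.euler_iso (K := k)
      (AmpleLib.unitL _ ≪≫ (AmpleLib.powMul L N t).symm ≪≫ AmpleLib.powCongr e.symm t ≪≫ AmpleLib.powUnit t))
  have hdeg := congrArg Polynomial.natDegree hconst
  rw [Polynomial.natDegree_comp, Polynomial.natDegree_C_mul_X _ (by exact_mod_cast hN.ne'),
    Polynomial.natDegree_C, mul_one] at hdeg
  rw [Polynomial.coeff_eq_zero_of_natDegree_lt (hdeg.le.trans_lt hd0)] at hc
  exact absurd hc (lt_irrefl 0)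

/-- A generated positive module is ample. -/
theorem isAmple_of_generated_pos {L : X.Modules} (hL : PicF.IsInvertible L) (h : NakaiPos k X L) {N : ℕ}
    (hN : 0 < N) (hgen : ∀ x : X, ∃ σ : Coh.structureModule X ⟶ CohB1.tensorPow L N, x ∈ CohB1.genLocus _ σ) :
    CohB1.IsAmple L := by
  haveI := EulerIneqLib.isNoetherian_proper (X := X) k
  refine (AmpleLib.isAmple_pow_iff hL hN).1 (GenMorph.isAmple_of_generated (X ↘ Spec (CommRingCat.of k))
    (AmpleLib.isInvertible_tensorPow hL N) hgen fun C hC hirr ⟨e⟩ => ?_)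
  let J := Scheme.IdealSheafData.vanishingIdeal (⟨C, hC⟩ : Closeds X)
  letI : J.subscheme.Over (Spec (CommRingCat.of k)) := ⟨J.subschemeι ≫ (X ↘ Spec (CommRingCat.of k))⟩
  haveI : IsProper (J.subscheme ↘ Spec (CommRingCat.of k)) :=
    (inferInstanceAs (IsProper (J.subschemeι ≫ (X ↘ Spec (CommRingCat.of k)))))
  haveI := CurveLib.isIntegral_vanishingIdeal (X := X) hC hirr
  have hd := not_trivial_of_topPos k (AmpleLib.isInvertible_pullback J.subschemeι hL)
    (h J.subscheme J.subschemeι rfl) hN (e ≪≫ AmpleLib.pullPow J.subschemeι L N)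
  have hd' : topologicalKrullDim C ≤ 0 := by
    have := J.subschemeι.isEmbedding.toHomeomorph.isHomeomorph.topologicalKrullDim_eq
    rw [Scheme.IdealSheafData.range_subschemeι, Scheme.IdealSheafData.coe_support_vanishingIdeal] at this
    exact this ▸ hd
  obtain ⟨ξ, hξ⟩ := QuasiSober.sober hirr hC
  rw [← hξ.def, CurveLib.closure_singleton_eq hC hd' hξ.mem]
  exact Set.subsingleton_singleton

theorem isAmple_of_dim_zero {L : X.Modules} (hL : PicF.IsInvertible L) (hd : topologicalKrullDim X ≤ 0) :
    CohB1.IsAmple L := by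
  haveI := EulerIneqLib.isNoetherian_proper (X := X) k
  refine (Groth.Agent.S0051.result k X (X ↘ Spec (CommRingCat.of k)) L hL).2 fun M hM => ⟨0, fun n _ p hp => ?_⟩
  exact CurveLib.subsingleton_HH_of_support _ isClosed_univ (Set.subset_univ _) (d := 0)
    ((Homeomorph.Set.univ X).isHomeomorph.topologicalKrullDim_eq.le.trans hd) hp

/-- The Nakai–Moishezon criterion on an integral scheme. -/
theorem isAmple_of_integral : ∀ (d : ℕ) (X : Scheme.{u}) [X.Over (Spec (CommRingCat.of k))]
    [IsProper (X ↘ Spec (CommRingCat.of k))] [IsIntegral X], topologicalKrullDim X = d →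
    ∀ L : X.Modules, PicF.IsInvertible L → NakaiPos k X L → CohB1.IsAmple L := by
  intro d
  induction d using Nat.strong_induction_on with
  | _ d IH =>
  intro X _ _ _ hd L hL h
  haveI := EulerIneqLib.isNoetherian_proper (X := X) k
  rcases Nat.eq_zero_or_pos d with rfl | hd0
  · exact isAmple_of_dim_zero k hL (hd.le.trans (by simp))
  have hsmall : ∀ F : X.Modules, Coh.IsCoh F → genericPoint X ∉ CohB1.support F → Good L F := fun F hF hη => by
    refine good_of_components k hL (CohB1.support F) (fun ξ hξ hsub => ?_) hF subset_rfl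
    let J := Scheme.IdealSheafData.vanishingIdeal (⟨closure {ξ}, isClosed_closure⟩ : Closeds X)
    letI : J.subscheme.Over (Spec (CommRingCat.of k)) := ⟨J.subschemeι ≫ (X ↘ Spec (CommRingCat.of k))⟩
    haveI : IsProper (J.subscheme ↘ Spec (CommRingCat.of k)) :=
      (inferInstanceAs (IsProper (J.subschemeι ≫ (X ↘ Spec (CommRingCat.of k)))))
    haveI := CurveLib.isIntegral_vanishingIdeal (X := X) (C := closure {ξ}) isClosed_closure isIrreducible_singleton.closure
    obtain ⟨e, -, he⟩ := FlatDim.topologicalKrullDim_closure k (X ↘ Spec (CommRingCat.of k)) ξ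
    have hlt := HilbLib.dim_lt_of_notMem (ξ := genericPoint X) (n := d) isClosed_closure
      (C := closure {ξ}) (by rw [(genericPoint_spec X).def]; exact Set.subset_univ _)
      (fun hm => hη (hsub hm))
      (by rw [(genericPoint_spec X).def, (Homeomorph.Set.univ X).isHomeomorph.topologicalKrullDim_eq, hd]
          exact_mod_cast Nat.lt_succ_self d)
    rw [he] at hlt
    exact IH e (by exact_mod_cast hlt) J.subscheme ((dim_vanishing ξ).trans he) _
      (AmpleLib.isInvertible_pullback _ hL) (h.restrict k J.subschemeι rfl)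
  obtain ⟨j, s, hs⟩ := exists_section_of_topPos k hL hd0 hd h.topPos hsmall
  obtain ⟨N, hN, hgen⟩ := exists_generated_pow k hL fun x hx => exists_gen_at k hL s hs hsmall hx
  exact isAmple_of_generated_pos k hL h hN hgen

/-- The Nakai–Moishezon criterion. -/
theorem isAmple_of_nakaiPos {L : X.Modules} (hL : PicF.IsInvertible L) (h : NakaiPos k X L) : CohB1.IsAmple L := by
  refine (Groth.Agent.S0051.result k X (X ↘ Spec (CommRingCat.of k)) L hL).2 fun M hM => ?_
  refine good_of_components k hL Set.univ (fun ξ _ _ => ?_) hM (Set.subset_univ _)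
  let J := Scheme.IdealSheafData.vanishingIdeal (⟨closure {ξ}, isClosed_closure⟩ : Closeds X)
  letI : J.subscheme.Over (Spec (CommRingCat.of k)) := ⟨J.subschemeι ≫ (X ↘ Spec (CommRingCat.of k))⟩
  haveI : IsProper (J.subscheme ↘ Spec (CommRingCat.of k)) :=
    (inferInstanceAs (IsProper (J.subschemeι ≫ (X ↘ Spec (CommRingCat.of k)))))
  haveI := CurveLib.isIntegral_vanishingIdeal (X := X) (C := closure {ξ}) isClosed_closure isIrreducible_singleton.closure
  obtain ⟨e, -, he⟩ := FlatDim.topologicalKrullDim_closure k (X ↘ Spec (CommRingCat.of k)) ξ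
  exact isAmple_of_integral k e J.subscheme ((dim_vanishing ξ).trans he) _
    (AmpleLib.isInvertible_pullback _ hL) (h.restrict k J.subschemeι rfl)

/-- Ample modules have positive intersection numbers. -/
theorem topPos_of_isAmple [IsIntegral X] {L : X.Modules} (hL : CohB1.IsAmple L) : TopPos k X L := by
  intro d hd0 hd P hP
  haveI := EulerIneqLib.isNoetherian_proper (X := X) k
  have hsupp : CohB1.support (Coh.structureModule X) = Set.univ := Set.eq_univ_of_forall fun x hs => by
    haveI := hs
    exact zero_ne_one (α := X.presheaf.stalk x) ((Groth.Agent.ParaFLib.bijective_oneG x).1 (Subsingleton.elim _ _))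
  have hdim : topologicalKrullDim (CohB1.support (Coh.structureModule X)) < ((d + 1 : ℕ) : WithBot ℕ∞) := by
    rw [hsupp, (Homeomorph.Set.univ X).isHomeomorph.topologicalKrullDim_eq, hd]
    exact_mod_cast Nat.lt_succ_self d
  obtain ⟨Q, hQ, hQe⟩ := HilbLib.exists_poly k hL.1 (d + 1) _
    (CurveLib.isCoh_of_isInvertible (ParaFLib.isInvertible_structureModule (X := X))) hdim
  obtain rfl : P = Q := HilbLib.poly_eq_of_nat fun m => (hP m).symm.trans (hQe m)
  refine HilbLib.coeff_pos k hL d _ (CurveLib.isCoh_of_isInvertible ParaFLib.isInvertible_structureModule) hdim P hQ hQe ?_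
  rw [hsupp]
  refine (HilbLib.not_dim_lt_iff isClosed_univ d).1 ?_
  rw [(Homeomorph.Set.univ X).isHomeomorph.topologicalKrullDim_eq, hd]
  exact lt_irrefl _

theorem nakaiPos_of_isAmple {L : X.Modules} (hL : CohB1.IsAmple L) : NakaiPos k X L := fun Z _ _ _ i _ _ =>
  topPos_of_isAmple k (AmpleLib.isAmple_pullback i hL)

end Groth.Agent.Nakai
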