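import Groth.Agent.NakaiLib.NefBig

/-!
# Bigness of nef invertible modules
-/

set_option autoImplicit false
set_option backward.isDefEq.respectTransparency false
set_option linter.style.haveILetI false

universe u

open CategoryTheory CategoryTheory.Limits AlgebraicGeometry TopologicalSpace Opposite
open Groth.Agent.PullbackMod Groth.Agent.DCohLib Groth.Agent.AmpleLib
open Groth.Agent.IntLib (PicRing pairing dif inv')

noncomputable section

namespace Groth.Agent.Nakai

variable {X : Scheme.{u}} (k : Type u) [Field k] [X.Over (Spec (CommRingCat.of k))]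
  [IsProper (X ↘ Spec (CommRingCat.of k))]

/-- The self-intersection number as a pairing. -/
theorem intNum_self_eq {n : ℕ} (hn : topologicalKrullDim X = (n : WithBot ℕ∞)) {L Linv : X.Modules}
    (hL : PicF.IsInvertible L) (hLinv : ClSub.IsInverseOf Linv L) :
    FGA.intNum k X n (fun _ : Fin n => Linv) (Coh.structureModule X) =
      pairing k (Coh.structureModule X) (cl hL ^ n) := by
  haveI := EulerIneqLib.isNoetherian_proper (X := X) k
  obtain ⟨ι⟩ := hLinv
  have hLi : PicF.IsInvertible Linv := AmpleLib.isInvertible_of_tensor_iso ι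
  rw [IntLib.intNum_eq k hn.le _ _ fun _ => hLi, Finset.prod_const, Finset.card_univ, Fintype.card_fin]
  have hd : dif hLi ∈ Aug X := by
    rw [← neg_neg (dif hLi), ← cl_eq_neg_dif]
    exact Ideal.neg_mem_iff _ |>.2 (cl_mem _)
  refine (pairing_congr k (pow_sub_pow_mem (cl_mem hL) hd (cl_mul_inverse_mem hL hLi ((comm _ _) ≪≫ ι)) n)
    (DevLib.isCoh_structureModule X) ?_).symm
  exact lt_of_le_of_lt (Topology.IsInducing.subtypeVal.topologicalKrullDim_le.trans hn.le)
    (by exact_mod_cast Nat.lt_succ_self n)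

variable [IsIntegral X]

/-- A nef module is big exactly when its self-intersection is positive. -/
theorem exists_mono_iff_pos {n : ℕ} (hn : topologicalKrullDim X = (n : WithBot ℕ∞)) {H L : X.Modules}
    (hH : CohB1.IsAmple H) (hL : PicF.IsInvertible L) (hnef : NefP k hL) :
    (∃ (ν : ℕ) (A : X.Modules) (φ : A ⟶ CohB1.tensorPow L ν), 0 < ν ∧ CohB1.IsAmple A ∧ Mono φ) ↔
      0 < pairing k (Coh.structureModule X) (cl hL ^ n) := by
  constructor
  · rintro ⟨ν, A, φ, hν, hA, hφ⟩
    exact pos_of_mono k hn hL hnef hA hν φ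
  · intro hp
    rcases n with _ | e
    · have hLa : CohB1.IsAmple L := isAmple_of_nakaiPos k hL fun Z _ _ _ i _ _ d hd hdZ => by
        have h := i.isClosedEmbedding.isInducing.topologicalKrullDim_le
        rw [hdZ, hn] at h
        exact absurd (by exact_mod_cast h : d ≤ 0) (by omega)
      exact ⟨1, L, (unitR L).inv ≫ (comm _ _).hom, one_pos, hLa, inferInstance⟩
    · obtain ⟨ν, a, hν, -, hg⟩ := exists_growth_of_pos k hn hL hH hnef hp
      exact VanGrow.exists_mono_of_growth k hn hH hL hν hg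

/-- The growth form of bigness. -/
theorem exists_growth_iff_exists_mono {n : ℕ} (hn : topologicalKrullDim X = (n : WithBot ℕ∞)) {H L : X.Modules}
    (hH : CohB1.IsAmple H) (hL : PicF.IsInvertible L) :
    (∃ C : ℝ, 0 < C ∧ ∃ m₁ : ℕ, ∀ m : ℕ, m₁ ≤ m → C * (m : ℝ) ^ n ≤ (VolLib.h k (CohB1.tensorPow L m) : ℝ)) ↔
      ∃ (ν : ℕ) (A : X.Modules) (φ : A ⟶ CohB1.tensorPow L ν), 0 < ν ∧ CohB1.IsAmple A ∧ Mono φ := by
  constructor
  · rintro ⟨C, hC, m₁, h⟩
    obtain ⟨ν, a, hν, -, hg⟩ := exists_growth_mult k hC h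
    exact VanGrow.exists_mono_of_growth k hn hH hL hν hg
  · rintro ⟨ν, A, φ, hν, hA, hφ⟩
    obtain ⟨ν', a, hν', -, hg⟩ := VanGrow.exists_growth_of_mono k hn hA hL φ hν
    exact exists_growth_all k hn hA hL hν' hg

/-- All ample modules embed in powers of a big one. -/
theorem forall_exists_mono {B L : X.Modules} (hB : CohB1.IsAmple B) (hL : PicF.IsInvertible L) {ν : ℕ} (hν : 0 < ν)
    (φ : B ⟶ CohB1.tensorPow L ν) [Mono φ] {A A' : X.Modules} (hA : PicF.IsInvertible A)
    (hA' : PicF.IsInvertible A') (e : CohB1.tensorMod A' A ≅ Coh.structureModule X) :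
    ∃ m : ℕ, 0 < m ∧ VolLib.h k (CohB1.tensorMod A' (CohB1.tensorPow L m)) ≠ 0 ∧
      ∃ ψ : A ⟶ CohB1.tensorPow L m, Mono ψ := by
  obtain ⟨m₀, h⟩ := exists_h_ne_zero_of_mono k hB hL hA' hν φ
  exact ⟨m₀ + 1, m₀.succ_pos, h _ m₀.le_succ, exists_mono_of_h k hA hA' e hL (h _ m₀.le_succ)⟩

end Groth.Agent.Nakai
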