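import Groth.Agent.NakaiLib.Main
import Groth.Agent.IntLib.Coeff
import Groth.Agent.CurveP1Lib.Transport

/-!
# The mixed coefficient of a power of one module
-/

set_option autoImplicit false
set_option backward.isDefEq.respectTransparency false
set_option linter.style.haveILetI false

universe u

open CategoryTheory CategoryTheory.Limits AlgebraicGeometry TopologicalSpace Opposite
open Groth.Agent.PullbackMod Groth.Agent.DCohLib

noncomputable section

namespace Groth.Agent.Nakai

/-- The alternating binomial sum of the values of a polynomial of degree `≤ d`. -/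
theorem alt_choose_eval (d : ℕ) (Q : Polynomial ℚ) (hQ : Q.degree < ((d + 1 : ℕ) : WithBot ℕ)) :
    ∑ j ∈ Finset.range (d + 1), (-1 : ℚ) ^ (d - j) * (d.choose j : ℚ) * Q.eval (j : ℚ) =
      (d.factorial : ℚ) * Q.coeff d := by
  have hev : ∀ x : ℚ, Q.eval x = ∑ i ∈ Finset.range (d + 1), Q.coeff i * x ^ i := fun x => by
    rcases eq_or_ne Q 0 with rfl | hQ0
    · simp
    · exact Polynomial.eval_eq_sum_range' (by rw [Polynomial.degree_eq_natDegree hQ0] at hQ; exact_mod_cast hQ) _
  simp only [hev, Finset.mul_sum]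
  rw [Finset.sum_comm, Finset.sum_range_succ, Finset.sum_eq_zero fun i hi => ?_, zero_add]
  · have h := congrFun (fwdDiff_iter_eq_factorial (R := ℚ) (n := d)) 0
    rw [fwdDiff_iter_eq_sum_shift] at h
    simp only [zero_add, zsmul_eq_mul, nsmul_eq_mul, mul_one] at h
    push_cast at h
    calc _ = Q.coeff d * ∑ j ∈ Finset.range (d + 1), (-1 : ℚ) ^ (d - j) * (d.choose j : ℚ) * (j : ℚ) ^ d := by
          rw [Finset.mul_sum]; exact Finset.sum_congr rfl fun j _ => by ring
      _ = _ := by rw [h]; simp [mul_comm]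
  · have h := congrFun (fwdDiff_iter_pow_eq_zero_of_lt (R := ℚ) (Finset.mem_range.1 hi)) 0
    rw [fwdDiff_iter_eq_sum_shift] at h
    simp only [zero_add, zsmul_eq_mul, nsmul_eq_mul, mul_one, Pi.zero_apply] at h
    push_cast at h
    calc _ = Q.coeff i * ∑ j ∈ Finset.range (d + 1), (-1 : ℚ) ^ (d - j) * (d.choose j : ℚ) * (j : ℚ) ^ i := by
          rw [Finset.mul_sum]; exact Finset.sum_congr rfl fun j _ => by ring
      _ = 0 := by rw [h, mul_zero]

variable {X : Scheme.{u}}

/-- Several copies of one module. -/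
theorem tensorPows_same (F L : X.Modules) : ∀ (r : ℕ) (n : Fin r → ℕ),
    Nonempty (Curv2.tensorPows F r (fun _ => L) n ≅ CohB1.tensorMod F (CohB1.tensorPow L (∑ i, n i)))
  | 0, n => ⟨(AmpleLib.unitR F).symm ≪≫ AmpleLib.tIso (Iso.refl F)
      (eqToIso (congrArg (CohB1.tensorPow L) (Fin.sum_univ_zero n).symm))⟩
  | r + 1, n => by
    obtain ⟨e⟩ := tensorPows_same F L r fun i => n i.castSucc
    exact ⟨AmpleLib.tIso e (Iso.refl _) ≪≫ AmpleLib.assoc _ _ _ ≪≫ AmpleLib.tIso (Iso.refl F)
      ((AmpleLib.powAdd L _ _).symm ≪≫ eqToIso (congrArg (CohB1.tensorPow L) (Fin.sum_univ_castSucc n).symm))⟩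

variable (k : Type u) [Field k] [X.Over (Spec (CommRingCat.of k))] [IsProper (X ↘ Spec (CommRingCat.of k))]

/-- `L^d · F` is `d!` times the leading coefficient of `χ (F ⊗ L^n)`. -/
theorem coeff_eq_factorial {F L : X.Modules} (hF : Coh.IsCoh F) (hL : PicF.IsInvertible L) {d : ℕ}
    (hd : topologicalKrullDim (CohB1.support F) ≤ (d : WithBot ℕ∞)) (P : MvPolynomial (Fin d) ℚ)
    (hP : ∀ n : Fin d → ℕ, (Curv2.euler k X (Curv2.tensorPows F d (fun _ => L) n) : ℚ) =
      MvPolynomial.eval (fun i => (n i : ℚ)) P)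
    (Q : Polynomial ℚ) (hQd : Q.degree < ((d + 1 : ℕ) : WithBot ℕ))
    (hQ : ∀ m : ℕ, HilbLib.chi k L F m = Q.eval (m : ℚ)) :
    MvPolynomial.coeff (Finsupp.equivFunOnFinite.symm fun _ : Fin d => 1) P = (d.factorial : ℚ) * Q.coeff d := by
  classical
  haveI := EulerIneqLib.isNoetherian_proper (X := X) k
  obtain ⟨P', hdeg, hP'⟩ := HilbLib.snapper k d (fun _ => L) (fun _ => hL) F hF d hd
  obtain rfl : P = P' := IntLib.mvPoly_eq_of_nat fun n => (hP n).symm.trans (hP' n)
  have key := IntLib.alt_sum_eval P hdeg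
  have hI : ∀ I : Finset (Fin d), MvPolynomial.eval (fun i => if i ∈ I then (1 : ℚ) else 0) P =
      Q.eval ((I.card : ℕ) : ℚ) := fun I => by
    obtain ⟨e⟩ := tensorPows_same F L d fun i => if i ∈ I then 1 else 0
    have hsum : (∑ i : Fin d, if i ∈ I then 1 else 0 : ℕ) = I.card := by simp
    rw [← hQ, show HilbLib.chi k L F I.card = (Curv2.euler k X (CohB1.tensorMod F (CohB1.tensorPow L I.card)) : ℚ) from rfl,
      ← hsum, ← CurveLib.euler_iso (K := k) e, hP]
    exact congrArg (fun f => MvPolynomial.eval f P) (funext fun i => by split_ifs <;> simp)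
  simp only [hI] at key
  have h2 := Finset.sum_powerset_apply_card (fun j => (-1 : ℚ) ^ j * Q.eval (j : ℚ)) (x := (Finset.univ : Finset (Fin d)))
  rw [Finset.powerset_univ, Finset.card_univ, Fintype.card_fin, key] at h2
  have h3 := alt_choose_eval d Q hQd
  calc _ = (-1 : ℚ) ^ d * ((-1 : ℚ) ^ d * MvPolynomial.coeff (Finsupp.equivFunOnFinite.symm fun _ : Fin d => 1) P) := by
        rw [← mul_assoc, ← mul_pow, neg_one_mul, neg_neg, one_pow, one_mul]
    _ = (-1 : ℚ) ^ d * ∑ j ∈ Finset.range (d + 1), (d.choose j) • ((-1 : ℚ) ^ j * Q.eval (j : ℚ)) := by rw [h2]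
    _ = _ := by
      rw [← h3, Finset.mul_sum]
      refine Finset.sum_congr rfl fun j hj => ?_
      obtain ⟨t, rfl⟩ := Nat.exists_eq_add_of_le (Nat.lt_succ_iff.1 (Finset.mem_range.1 hj))
      rw [Nat.add_sub_cancel_left, nsmul_eq_mul, pow_add]
      have hs : ((-1 : ℚ) ^ j) * (-1 : ℚ) ^ j = 1 := by rw [← mul_pow]; norm_num
      linear_combination ((-1 : ℚ) ^ t * ((j + t).choose j : ℚ) * Q.eval (j : ℚ)) * hs

/-- Twists of the structure sheaf of a closed subscheme. -/
theorem chi_quotMod {L : X.Modules} (hL : PicF.IsInvertible L) (Z : X.IdealSheafData)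
    [Z.subscheme.Over (Spec (CommRingCat.of k))] [IsProper (Z.subscheme ↘ Spec (CommRingCat.of k))]
    (hZ : Z.subschemeι ≫ (X ↘ Spec (CommRingCat.of k)) = Z.subscheme ↘ Spec (CommRingCat.of k)) (m : ℕ) :
    HilbLib.chi k L (ClSub.quotMod Z) m =
      HilbLib.chi k ((Scheme.Modules.pullback Z.subschemeι).obj L) (Coh.structureModule Z.subscheme) m := by
  haveI := EulerIneqLib.isNoetherian_proper (X := X) k
  haveI : IsLocallyNoetherian Z.subscheme := LocallyOfFiniteType.isLocallyNoetherian Z.subschemeι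
  exact congrArg (fun z : ℤ => (z : ℚ)) ((IntLib.euler_push_tensor k hZ (DevLib.isCoh_structureModule _)
    (AmpleLib.isInvertible_tensorPow hL m)).trans (CurveLib.euler_iso (K := k)
      (AmpleLib.tIso (Iso.refl _) (AmpleLib.pullPow Z.subschemeι L m))))

end Groth.Agent.Nakai

namespace Groth.Agent.Nakai

variable (k : Type u) [Field k] {X : Scheme.{u}} [X.Over (Spec (CommRingCat.of k))]
  [IsProper (X ↘ Spec (CommRingCat.of k))]

/-- `TopPos` only depends on the isomorphism class. -/
theorem TopPos.pullback_iso [IsIntegral X] {L : X.Modules} (hL : PicF.IsInvertible L) (h : TopPos k X L)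
    {Z : Scheme.{u}} [Z.Over (Spec (CommRingCat.of k))] [IsProper (Z ↘ Spec (CommRingCat.of k))] (g : Z ⟶ X) [IsIso g]
    (hg : g ≫ (X ↘ Spec (CommRingCat.of k)) = Z ↘ Spec (CommRingCat.of k)) :
    TopPos k Z ((Scheme.Modules.pullback g).obj L) := by
  intro d hd0 hd P hP
  haveI := EulerIneqLib.isNoetherian_proper (X := X) k
  refine h d hd0 (g.homeomorph.isHomeomorph.topologicalKrullDim_eq.symm.trans hd) P fun m => ?_
  haveI : Coh.IsQCoh (CohB1.tensorPow L m) :=
    (CurveLib.isCoh_of_isInvertible (AmpleLib.isInvertible_tensorPow hL m)).1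
  refine Eq.trans (congrArg (fun z : ℤ => (z : ℚ)) ?_) (hP m)
  exact (CurveLib.euler_iso (K := k) (AmpleLib.unitL _)).trans ((CurveP1Lib.euler_pullback g hg _).symm.trans
    (CurveLib.euler_iso (K := k) ((AmpleLib.pullPow g L m) ≪≫ (AmpleLib.unitL _).symm)))

/-- It is enough to test positivity on closed subschemes given by ideal sheaves. -/
theorem nakaiPos_of_ideals {L : X.Modules} (hL : PicF.IsInvertible L)
    (h : ∀ (J : X.IdealSheafData) [IsIntegral J.subscheme] [J.subscheme.Over (Spec (CommRingCat.of k))]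
      [IsProper (J.subscheme ↘ Spec (CommRingCat.of k))],
      J.subschemeι ≫ (X ↘ Spec (CommRingCat.of k)) = J.subscheme ↘ Spec (CommRingCat.of k) →
      TopPos k J.subscheme ((Scheme.Modules.pullback J.subschemeι).obj L)) : NakaiPos k X L := by
  intro Z _ _ _ i _ hi
  letI : i.image.Over (Spec (CommRingCat.of k)) := ⟨i.imageι ≫ (X ↘ Spec (CommRingCat.of k))⟩
  haveI : IsProper (i.image ↘ Spec (CommRingCat.of k)) :=
    (inferInstanceAs (IsProper (i.ker.subschemeι ≫ (X ↘ Spec (CommRingCat.of k)))))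
  haveI : IsIso i.toImage := inferInstance
  haveI : Nonempty i.image := ⟨i.toImage (genericPoint Z)⟩
  haveI : IsIntegral i.image := isIntegral_of_isOpenImmersion (inv i.toImage)
  have h1 := TopPos.pullback_iso k (AmpleLib.isInvertible_pullback i.imageι hL) (h i.ker rfl) i.toImage
    (by show i.toImage ≫ i.imageι ≫ _ = _; rw [← Category.assoc, Scheme.Hom.toImage_imageι, hi])
  exact TopPos.of_iso k ((Scheme.Modules.pullbackComp i.toImage i.imageι).app L ≪≫
    (Scheme.Modules.pullbackCongr (Scheme.Hom.toImage_imageι i)).app L) h1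

end Groth.Agent.Nakai
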