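import Groth.Agent.NakaiLib.Stab
import Groth.Agent.IntLib.Decomp
import Groth.Agent.CurveLib.Finite
import Groth.Agent.CurveLib.MaxSections
import Groth.Agent.CurveLib.SmulPow

/-!
# A power of an invertible module with small obstructions is generated by sections
-/

set_option autoImplicit false
set_option backward.isDefEq.respectTransparency false
set_option linter.style.haveILetI false

universe u

open CategoryTheory CategoryTheory.Limits AlgebraicGeometry TopologicalSpace Opposite
open Groth.Agent.PullbackMod Groth.Agent.DCohLib Groth.Agent.DevLib Groth.Agent.QCohLib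
open Groth.Agent.CurveLib (tmap tensR hMap secOf)
open Groth.Agent.ParaFLib (oneG bijective_oneG)
open scoped TensorProduct

noncomputable section

namespace Groth.Agent.Nakai

variable (k : Type u) [Field k] {X : Scheme.{u}} [X.Over (Spec (CommRingCat.of k))]
  [IsProper (X ↘ Spec (CommRingCat.of k))]

/-- An eventually decreasing sequence of naturals is eventually constant. -/
theorem exists_eventually_const (f : ℕ → ℕ) {q₀ : ℕ} (h : ∀ q, q₀ ≤ q → f (q + 1) ≤ f q) :
    ∃ q₁, q₀ ≤ q₁ ∧ ∀ q, q₁ ≤ q → f q = f q₁ := by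
  classical
  have hex : ∃ v, ∃ q, q₀ ≤ q ∧ f q = v := ⟨_, q₀, le_rfl, rfl⟩
  obtain ⟨q₁, hq₁, he⟩ := Nat.find_spec hex
  refine ⟨q₁, hq₁, fun q hq => le_antisymm ?_ (he ▸ Nat.find_min' hex ⟨q, hq₁.trans hq, rfl⟩)⟩
  induction q, hq using Nat.le_induction with
  | base => exact le_rfl
  | succ q hq ih => exact (h q (hq₁.trans hq)).trans ih

omit k in
/-- A simple module over a local ring is annihilated by the non-units. -/
theorem exists_equiv_residue {R M : Type u} [CommRing R] [IsLocalRing R] [AddCommGroup M] [Module R M]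
    (h : IsSimpleModule R M) : Nonempty (M ≃ₗ[R] IsLocalRing.ResidueField R) := by
  obtain ⟨I, hI, ⟨e⟩⟩ := isSimpleModule_iff_quot_maximal.1 h
  obtain rfl := IsLocalRing.eq_maximalIdeal hI
  exact ⟨e⟩

omit k in
theorem smul_residue_eq_zero {R : Type u} [CommRing R] [IsLocalRing R] {a : R} (ha : ¬ IsUnit a)
    (z : IsLocalRing.ResidueField R) : a • z = 0 := by
  rw [Algebra.smul_def, show algebraMap R (IsLocalRing.ResidueField R) a = 0 from
    (IsLocalRing.residue_eq_zero_iff a).2 ha, zero_mul]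

omit k in
theorem support_compMod_closed {x : X} (hx : IsClosed ({x} : Set X)) :
    CohB1.support (IntLib.compMod x) ⊆ {x} := by
  refine (IntLib.support_quotMod_subset _).trans ?_
  rw [Scheme.IdealSheafData.coe_support_vanishingIdeal]
  exact hx.closure_eq.le

omit k in
/-- The stalk of the restriction to a closed point. -/
theorem compMod_tensor_stalk [IsLocallyNoetherian X] (x : X) {C : X.Modules}
    (hC : Coh.IsCoh C) (hCx : ¬ Subsingleton (C.presheaf.stalk x)) :
    ¬ Subsingleton ((tmod (IntLib.compMod x) C).presheaf.stalk x) ∧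
      ∀ a : X.presheaf.stalk x, ¬ IsUnit a → ∀ z : (tmod (IntLib.compMod x) C).presheaf.stalk x, a • z = 0 := by
  obtain ⟨e⟩ := exists_equiv_residue (IntLib.isPiece_compMod x).simple
  haveI := hC.1
  haveI := finite_stalk_of_isFT hC.2 x
  refine ⟨fun h => hCx ?_, fun a ha z => ?_⟩
  · haveI := h
    haveI : Subsingleton (IsLocalRing.ResidueField (X.presheaf.stalk x) ⊗[X.presheaf.stalk x] C.presheaf.stalk x) :=
      ((LinearEquiv.rTensor (C.presheaf.stalk x) e).symm.trans (stalkTensor x (IntLib.compMod x) C)).toEquiv.subsingleton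
    exact IsLocalRing.subsingleton_tensorProduct.1 this
  · obtain ⟨w, rfl⟩ := (stalkTensor x (IntLib.compMod x) C).surjective z
    rw [← map_smul]
    refine (congrArg _ ?_).trans (map_zero _)
    induction w with
    | zero => rw [smul_zero]
    | tmul q c =>
      rw [TensorProduct.smul_tmul']
      have : a • q = 0 := e.injective (by rw [map_smul, smul_residue_eq_zero ha, map_zero])
      rw [this, TensorProduct.zero_tmul]
    | add w₁ w₂ h₁ h₂ => rw [smul_add, h₁, h₂, add_zero]

omit k in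
theorem mem_genLocus_of_subsingleton {M : X.Modules} (hM : PicF.IsInvertible M) (s : Coh.structureModule X ⟶ M)
    [Mono s] {x : X} (h : Subsingleton ((cokernel s).presheaf.stalk x)) : x ∈ CohB1.genLocus M s := by
  rw [AmpleLib.mem_genLocus_iff hM]
  obtain ⟨e, he⟩ := ParaFLib.exists_stalk_gen hM x
  have hone : stalkLin s x (oneG x) = M.presheaf.germ ⊤ x trivial (AmpleLib.sec s) :=
    stalkLin_germ s (U := ⊤) x trivial _
  obtain ⟨z, hz⟩ := (DevLib.coker_exact s x e).1 (Subsingleton.elim _ _)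
  obtain ⟨r, rfl⟩ := (bijective_oneG x).2 z
  obtain ⟨a, ha⟩ := he.2 (M.presheaf.germ ⊤ x trivial (AmpleLib.sec s))
  change a • e = _ at ha
  rw [map_smul, hone, ← ha, smul_smul] at hz
  rw [← ha]
  refine (AmpleLib.bijective_smul_iff he a).2 (IsUnit.of_mul_eq_one r ?_)
  rw [mul_comm]
  exact he.1 (show (r * a) • e = (1 : X.presheaf.stalk x) • e by rw [hz, one_smul])

omit k in
theorem support_tensor_compMod {x : X} (hx : IsClosed ({x} : Set X)) {C : X.Modules} :
    CohB1.support (tmod (IntLib.compMod x) C) ⊆ {x} := fun y hy => by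
  refine support_compMod_closed hx fun h => hy ?_
  haveI := h
  exact (stalkTensor y (IntLib.compMod x) C).symm.toEquiv.subsingleton

omit k in
theorem exists_epi_tensor {Q : X.Modules} (π : Coh.structureModule X ⟶ Q) [Epi π] (C : X.Modules) :
    ∃ ν : C ⟶ tmod Q C, Epi ν := by
  obtain ⟨g, hg⟩ : ∃ g : tmod (Coh.structureModule X) C ⟶ tmod Q C, Epi g := ⟨tmap π C,
    (inferInstance : Epi ((tensR C).map π))⟩
  let e : C ≅ tmod (Coh.structureModule X) C := (AmpleLib.unitL C).symm
  exact ⟨e.hom ≫ g, epi_comp' inferInstance hg⟩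

omit k in
theorem exists_epi_compMod (x : X) (C : X.Modules) : ∃ ν : C ⟶ tmod (IntLib.compMod x) C, Epi ν := by
  haveI := Groth.Agent.SerreAff.epi_unitToPush
    (Scheme.IdealSheafData.vanishingIdeal (⟨closure ({x} : Set X), isClosed_closure⟩ : Closeds X)).subschemeι
  rw [IntLib.compMod]
  exact exists_epi_tensor
    (ClSub.toSubscheme (Scheme.IdealSheafData.vanishingIdeal (⟨closure ({x} : Set X), isClosed_closure⟩ : Closeds X))) C

/-- A lift of a nonzero section of a module killed by the maximal ideal generates. -/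
theorem exists_section_gen {x : X} (hx : IsClosed ({x} : Set X)) {M N : X.Modules} (hM : PicF.IsInvertible M)
    (hN : PicF.IsInvertible N) (s : Coh.structureModule X ⟶ M) [Mono s] {C : X.Modules} (hC : C = cokernel s)
    {Q : X.Modules} (ν : C ⟶ Q) (_hQc : Coh.IsCoh Q) (hsupp : CohB1.support Q ⊆ {x})
    (hQ : ¬ Subsingleton (Q.presheaf.stalk x))
    (hm : ∀ a : X.presheaf.stalk x, ¬ IsUnit a → ∀ z : Q.presheaf.stalk x, a • z = 0)
    (h1 : Function.Surjective (hMap (k := k) ((cokerSeq s).map (tensR N)).g 0))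
    (h2 : Function.Surjective (hMap (k := k) ((tensR N).map ν) 0)) :
    ∃ σ : Coh.structureModule X ⟶ tmod M N, x ∈ CohB1.genLocus _ σ := by
  subst hC
  haveI := EulerIneqLib.isNoetherian_proper (X := X) k
  have hd : topologicalKrullDim ({x} : Set X) ≤ 0 := Order.krullDim_nonpos_iff_forall_isMax.2 fun Z W hW =>
    fun w _ => by
      obtain ⟨z, hz⟩ := Z.isIrreducible.nonempty
      rwa [Subsingleton.elim w z]
  have hst : ∀ y, Subsingleton (Q.presheaf.stalk y) → Subsingleton ((tmod Q N).presheaf.stalk y) := fun y h =>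
    (stalkTensor y Q N).symm.toEquiv.subsingleton
  have hsT : CohB1.support (tmod Q N) ⊆ {x} := fun y hy => hsupp fun h => hy (hst y h)
  have hnt : Nontrivial (Coh.HH X (tmod Q N) 0) := not_subsingleton_iff_nontrivial.1 fun h => hQ (by
    haveI := CurveLib.subsingleton_stalk_of_H0 hx hd (tmod Q N) hsT x
    obtain ⟨e, he⟩ := ParaFLib.exists_stalk_gen hN x
    let θ := LinearEquiv.ofBijective (LinearMap.toSpanSingleton (X.presheaf.stalk x) (N.presheaf.stalk x) e) he
    exact ((TensorProduct.rid _ (Q.presheaf.stalk x)).symm.trans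
      ((LinearEquiv.lTensor (Q.presheaf.stalk x) θ).trans (stalkTensor x Q N))).toEquiv.subsingleton)
  obtain ⟨τ, hτ⟩ := exists_ne (0 : Coh.HH X (tmod Q N) 0)
  obtain ⟨c', hc'⟩ := h2 τ
  obtain ⟨c, hc⟩ : ∃ c : Coh.HH X (tmod M N) 0, hMap (k := k) ((tensR N).map (cokernel.π s)) 0 c = c' := h1 c'
  let g : tmod M N ⟶ tmod Q N := (tensR N).map (cokernel.π s) ≫ (tensR N).map ν
  have hg : g.app ⊤ (secOf (tmod M N) c) = secOf (tmod Q N) τ := by
    rw [← hc', ← hc]
    exact ((CurveLib.secOf_hMap (X := X) (k := k) ((tensR N).map ν) _).trans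
      (congrArg _ (CurveLib.secOf_hMap (X := X) (k := k) ((tensR N).map (cokernel.π s)) c))).symm
  obtain ⟨σ, hσ⟩ : ∃ σ : Γ(tmod M N, ⊤), σ = secOf (tmod M N) c := ⟨_, rfl⟩
  rw [← hσ] at hg
  refine ⟨DCohLib.secHom _ σ, by_contra fun hno => hτ ((secOf (tmod Q N)).injective ?_)⟩
  rw [map_zero, ← hg]
  refine DevLib.eq_zero_of_forall_germ _ fun y hy => ?_
  by_cases hyx : y = x
  · subst hyx
    have hMN := AmpleLib.isInvertible_tensor hM hN
    obtain ⟨e, he⟩ := ParaFLib.exists_stalk_gen (L := tmod M N) hMN y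
    obtain ⟨a, ha⟩ := he.2 ((tmod M N).presheaf.germ ⊤ y trivial σ)
    have hau : ¬ IsUnit a := fun hu => hno ((AmpleLib.mem_genLocus_iff (L := tmod M N) hMN).2 (by
      rw [AmpleLib.sec_secHom, ← ha]
      exact (AmpleLib.bijective_smul_iff he a).2 hu))
    rw [← stalkLin_germ g (U := ⊤) y trivial, ← ha]
    show stalkLin g y (a • e) = 0
    rw [map_smul]
    obtain ⟨w, hw⟩ := (stalkTensor y Q N).surjective (stalkLin g y e)
    rw [← hw, ← map_smul]
    refine (congrArg _ ?_).trans (map_zero _)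
    clear hw
    induction w with
    | zero => rw [smul_zero]
    | tmul q d => rw [TensorProduct.smul_tmul', hm a hau q, TensorProduct.zero_tmul]
    | add w₁ w₂ i₁ i₂ => rw [smul_add, i₁, i₂, add_zero]
  · exact @Subsingleton.elim _ (not_not.1 fun h => hyx (hsT h)) _ _

variable [IsIntegral X] {L : X.Modules}

omit k in
theorem mono_and_notMem_of_ne_zero {M : X.Modules} (hM : PicF.IsInvertible M) (s : Coh.structureModule X ⟶ M)
    (hs : s ≠ 0) : Mono s ∧ genericPoint X ∉ CohB1.support (cokernel s) :=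
  haveI := CurveLib.mono_of_ne_zero ParaFLib.isInvertible_structureModule hM hs
  ⟨this,
    CurveLib.genericPoint_notMem_support ParaFLib.isInvertible_structureModule hM hs⟩

omit [IsIntegral X] in
/-- Sections lift along an epimorphism with good kernel after large twists. -/
theorem surjective_of_good (hL : PicF.IsInvertible L) {S : ShortComplex X.Modules} (hS : S.ShortExact)
    (h : Good L S.X₁) : ∃ n₀, ∀ n, n₀ ≤ n → Function.Surjective
      (hMap (k := k) ((tensR (CohB1.tensorPow L n)).map S.g) 0) := by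
  obtain ⟨n₀, hn⟩ := h
  refine ⟨n₀, fun n hn' => ?_⟩
  have hT := CurveLib.shortExact_tensR hS
    (CurveLib.freeAt_one_of_isInvertible (AmpleLib.isInvertible_tensorPow hL n))
  haveI : Subsingleton (Coh.HH X (S.map (tensR (CohB1.tensorPow L n))).X₁ 1) := hn n hn' 1 one_pos
  exact fun y => (CurveLib.range_hMap_g (k := k) hT 0).ge (LinearMap.mem_ker.2 (Subsingleton.elim _ _))

omit [IsIntegral X] in
/-- Multiplication by a section is eventually injective on the first cohomology of the powers. -/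
theorem surjective_coker (hL : PicF.IsInvertible L) {M : X.Modules} (hM : PicF.IsInvertible M) {a : ℕ}
    (ha : 0 < a) (e : Nonempty (M ≅ CohB1.tensorPow L a)) (s : Coh.structureModule X ⟶ M) [Mono s]
    (h : Good L (cokernel s)) : ∃ q₁, ∀ q, q₁ ≤ q → Function.Surjective
      (hMap (k := k) ((cokerSeq s).map (tensR (CohB1.tensorPow L (a * q)))).g 0) := by
  haveI := EulerIneqLib.isNoetherian_proper (X := X) k
  obtain ⟨n₀, hn⟩ := h
  obtain ⟨e⟩ := e
  have hc := fun n => CurveLib.isCoh_of_isInvertible (AmpleLib.isInvertible_tensorPow hL n)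
  let h1 : ℕ → ℕ := fun q => Module.finrank k (Coh.HH X (CohB1.tensorPow L (a * q)) 1)
  let T : ℕ → ShortComplex X.Modules := fun q => (cokerSeq s).map (tensR (CohB1.tensorPow L (a * q)))
  have hT : ∀ q, (T q).ShortExact := fun q => CurveLib.shortExact_tensR (cokerSeq_shortExact s)
    (CurveLib.freeAt_one_of_isInvertible (AmpleLib.isInvertible_tensorPow hL _))
  have hv : ∀ q, n₀ ≤ q → Subsingleton (Coh.HH X (T q).X₃ 1) := fun q hq =>
    hn _ (hq.trans (Nat.le_mul_of_pos_left q ha)) 1 one_pos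
  have h1c : ∀ q, Coh.IsCoh (T q).X₁ := fun q =>
    CurveLib.isCoh_tmod (CurveLib.isCoh_of_isInvertible ParaFLib.isInvertible_structureModule) (hc _)
  have h2c : ∀ q, Coh.IsCoh (T q).X₂ := fun q => CurveLib.isCoh_tmod (CurveLib.isCoh_of_isInvertible hM) (hc _)
  have e1 : ∀ q, Module.finrank k (Coh.HH X (T q).X₁ 1) = h1 q := fun q =>
    CurveLib.hMap_bijective_finrank (k := k) (AmpleLib.unitL _) 1
  have e2 : ∀ q, Module.finrank k (Coh.HH X (T q).X₂ 1) = h1 (q + 1) := fun q => by
    let i : (T q).X₂ ≅ CohB1.tensorPow L (a * (q + 1)) :=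
      AmpleLib.tIso e (Iso.refl _) ≪≫ (AmpleLib.powAdd L a (a * q)).symm ≪≫
        eqToIso (congrArg (CohB1.tensorPow L) (by ring))
    exact CurveLib.hMap_bijective_finrank (k := k) i 1
  have hdec : ∀ q, n₀ ≤ q → h1 (q + 1) ≤ h1 q := fun q hq => by
    haveI := EulerIneqLib.finite_HH (k := k) (h1c q) 1
    refine (e2 q).symm.le.trans (le_trans ?_ (e1 q).le)
    exact LinearMap.finrank_le_finrank_of_surjective (surjective_hMap_f_one k (hT q) (hv q hq))
  obtain ⟨q₁, hq₁, hconst⟩ := exists_eventually_const h1 hdec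
  exact ⟨q₁, fun q hq => surjective_hMap_g_zero k (hT q) (h1c q) (h2c q) (hv q (hq₁.trans hq))
    (by rw [e1, e2, hconst q hq, hconst (q + 1) (hq.trans (Nat.le_succ q))])⟩

set_option maxHeartbeats 800000 in
include k in
/-- Around each closed point some power has a generating section. -/
theorem exists_gen_at (hL : PicF.IsInvertible L) {j : ℕ} (s : Coh.structureModule X ⟶ CohB1.tensorPow L (j + 1))
    (hs : s ≠ 0) (hsmall : ∀ F : X.Modules, Coh.IsCoh F → genericPoint X ∉ CohB1.support F → Good L F)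
    {x : X} (hx : IsClosed ({x} : Set X)) :
    ∃ (m : ℕ) (σ : Coh.structureModule X ⟶ CohB1.tensorPow L (m + 1)), x ∈ CohB1.genLocus _ σ := by
  haveI := EulerIneqLib.isNoetherian_proper (X := X) k
  by_cases hxs : x ∈ CohB1.genLocus _ s
  · exact ⟨j, s, hxs⟩
  have hM := AmpleLib.isInvertible_tensorPow hL (j + 1)
  obtain ⟨hs1, hη⟩ := mono_and_notMem_of_ne_zero hM s hs
  have hC : Coh.IsCoh (cokernel s) :=
    (isCoh_kernel_cokernel s (CurveLib.isCoh_of_isInvertible ParaFLib.isInvertible_structureModule)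
      (CurveLib.isCoh_of_isInvertible hM)).2
  have hCx : ¬ Subsingleton ((cokernel s).presheaf.stalk x) := fun h => hxs (mem_genLocus_of_subsingleton hM s h)
  obtain ⟨hQx, hQm⟩ := compMod_tensor_stalk x hC hCx
  obtain ⟨ν, hν⟩ := exists_epi_compMod x (cokernel s)
  have hQ := CurveLib.isCoh_tmod (IntLib.isPiece_compMod x).coh hC
  let S' : ShortComplex X.Modules := ShortComplex.mk (kernel.ι ν) ν (kernel.condition ν)
  have hS' : S'.ShortExact := ShortComplex.ShortExact.mk'
    (ShortComplex.exact_of_f_is_kernel _ (kernelIsKernel _)) (inferInstanceAs (Mono (kernel.ι ν))) hν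
  obtain ⟨b, hb⟩ := surjective_of_good k hL hS' (hsmall _ (isCoh_kernel_cokernel ν hC hQ).1
    fun h => hη (DevLib.support_subset_of_mono (kernel.ι ν) h))
  obtain ⟨c, hc⟩ := surjective_coker k hL hM (Nat.succ_pos j) ⟨Iso.refl _⟩ s (hsmall _ hC hη)
  obtain ⟨q, hq⟩ : ∃ q, q = max b c := ⟨_, rfl⟩
  have hN := AmpleLib.isInvertible_tensorPow hL ((j + 1) * q)
  obtain ⟨σ, hσ⟩ := exists_section_gen k hx hM hN s rfl ν hQ (support_tensor_compMod hx) hQx hQm
    (hc q (hq ▸ le_max_right b c))
    (hb _ ((hq ▸ le_max_left b c : b ≤ q).trans (Nat.le_mul_of_pos_left q (Nat.succ_pos j))))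
  obtain ⟨m, hm⟩ : ∃ m, (j + 1) + (j + 1) * q = m + 1 := ⟨j + (j + 1) * q, by ring⟩
  let i : tmod (CohB1.tensorPow L (j + 1)) (CohB1.tensorPow L ((j + 1) * q)) ≅ CohB1.tensorPow L (m + 1) :=
    (AmpleLib.powAdd L (j + 1) ((j + 1) * q)).symm ≪≫ eqToIso (congrArg (CohB1.tensorPow L) hm)
  exact ⟨m, σ ≫ i.hom, by rwa [AmpleLib.genLocus_comp_iso]⟩

end Groth.Agent.Nakai
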