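import Groth.Agent.VanGrowLib.Main
import Groth.Agent.IntLib.Push
import Groth.Agent.DevLib.Apps
import Groth.Agent.S0051

/-!
# Modules whose twists have no higher cohomology eventually
-/

set_option autoImplicit false
set_option backward.isDefEq.respectTransparency false
set_option linter.style.haveILetI false

universe u

open CategoryTheory CategoryTheory.Limits AlgebraicGeometry TopologicalSpace Opposite
open Groth.Agent.PullbackMod Groth.Agent.DCohLib Groth.Agent.DevLib Groth.Agent.QCohLib
open Groth.Agent.CurveLib (tmap tensR hMap)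
open scoped TensorProduct

noncomputable section

namespace Groth.Agent.Nakai

variable {X : Scheme.{u}}

/-- The higher cohomology of the large twists vanishes. -/
def Good (L F : X.Modules) : Prop :=
  ∃ n₀ : ℕ, ∀ n, n₀ ≤ n → ∀ p, 0 < p → Subsingleton (Coh.HH X (CohB1.tensorMod F (CohB1.tensorPow L n)) p)

theorem subsingleton_HH_iso {A B : X.Modules} (e : A ≅ B) (p : ℕ) (h : Subsingleton (Coh.HH X A p)) :
    Subsingleton (Coh.HH X B p) :=
  (ProjCoh.hhLinearEquiv e p).symm.toEquiv.subsingleton

theorem Good.of_iso {L : X.Modules} (A B : X.Modules) (e : Nonempty (A ≅ B)) (h : Good L A) : Good L B := by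
  obtain ⟨n₀, hn⟩ := h
  exact ⟨n₀, fun n hn' p hp => subsingleton_HH_iso (AmpleLib.tIso e.some (Iso.refl _)) p (hn n hn' p hp)⟩

theorem good_of_isAmple {k : Type u} [Field k] [X.Over (Spec (CommRingCat.of k))]
    [IsProper (X ↘ Spec (CommRingCat.of k))] {L F : X.Modules} (hL : CohB1.IsAmple L) (hF : Coh.IsCoh F) :
    Good L F :=
  AmpleEmb.serre_vanishing (X ↘ Spec (CommRingCat.of k)) hL hF

variable (k : Type u) [Field k] [X.Over (Spec (CommRingCat.of k))] [IsProper (X ↘ Spec (CommRingCat.of k))]

include k in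
theorem good_of_isZero {L : X.Modules} (hL : PicF.IsInvertible L) {M : X.Modules} (hM : IsZero M) : Good L M := by
  refine ⟨0, fun n _ p hp => ?_⟩
  have hsupp : CohB1.support (CohB1.tensorMod M (CohB1.tensorPow L n)) = ∅ :=
    (HilbLib.support_tensor (AmpleLib.isInvertible_tensorPow hL n) M).trans
      (HilbLib.support_eq_empty_of_isZero hM)
  haveI := EulerIneqLib.isNoetherian_proper (X := X) k
  refine CurveLib.subsingleton_HH_of_support _ isClosed_empty hsupp.le (d := 0) ?_ hp
  exact Order.krullDim_nonpos_iff_forall_isMax.2 fun Z => absurd Z.isIrreducible.nonempty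
    (fun ⟨x, _⟩ => x.2.elim)

omit k in
theorem Good.ext {L : X.Modules} (hL : PicF.IsInvertible L) {S : ShortComplex X.Modules} (hS : S.ShortExact)
    (h1 : Good L S.X₁) (h3 : Good L S.X₃) : Good L S.X₂ := by
  obtain ⟨a, ha⟩ := h1
  obtain ⟨b, hb⟩ := h3
  refine ⟨max a b, fun n hn p hp => ?_⟩
  have hT := CurveLib.shortExact_tensR hS
    (CurveLib.freeAt_one_of_isInvertible (AmpleLib.isInvertible_tensorPow hL n))
  haveI : Subsingleton (Coh.HH X (S.map (tensR (CohB1.tensorPow L n))).X₁ p) := ha n (by omega) p hp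
  haveI : Subsingleton (Coh.HH X (S.map (tensR (CohB1.tensorPow L n))).X₃ p) := hb n (by omega) p hp
  exact CurveLib.subsingleton_mid hT p

omit k in
/-- Direct images along closed immersions. -/
theorem Good.push {Z : Scheme.{u}} (i : Z ⟶ X) [IsClosedImmersion i] [IsLocallyNoetherian X] {L : X.Modules}
    (hL : PicF.IsInvertible L) {M : Z.Modules} (hM : Coh.IsCoh M)
    (h : Good ((Scheme.Modules.pullback i).obj L) M) : Good L ((Scheme.Modules.pushforward i).obj M) := by
  haveI : IsLocallyNoetherian Z := LocallyOfFiniteType.isLocallyNoetherian i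
  obtain ⟨n₀, hn⟩ := h
  refine ⟨n₀, fun n hn' p hp => ?_⟩
  let N := tmod M ((Scheme.Modules.pullback i).obj (CohB1.tensorPow L n))
  haveI : Coh.IsQCoh N := (CurveLib.isCoh_tmod hM (CurveLib.isCoh_of_isInvertible
    (AmpleLib.isInvertible_pullback i (AmpleLib.isInvertible_tensorPow hL n)))).1
  obtain ⟨e, -⟩ := ProperFin.exists_pushEquiv i (M := N)
    (fun _ hV m => CohBase.affine_vanishing N (hV.preimage i) m) p
  haveI : Subsingleton (Coh.HH Z N p) :=
    subsingleton_HH_iso (AmpleLib.tIso (Iso.refl M) (AmpleLib.pullPow i L n).symm) p (hn n hn' p hp)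
  exact subsingleton_HH_iso (projIso i M _).symm p e.symm.toEquiv.subsingleton

end Groth.Agent.Nakai
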