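import Groth.Agent.NakaiLib.Coeff
import Groth.Agent.IntLib.Positive
import Groth.Agent.AmpleEmb.Inverse

/-!
# The augmentation ideal of the group ring of invertible classes
-/

set_option autoImplicit false
set_option backward.isDefEq.respectTransparency false
set_option linter.style.haveILetI false

universe u

open CategoryTheory CategoryTheory.Limits AlgebraicGeometry TopologicalSpace
open Groth.Agent.PullbackMod Groth.Agent.DCohLib
open Groth.Agent.IntLib (PicRing pairing dif inv' mk mk_congr mk_tensor MCls pullCls pullCls_mk pairing_of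
  pairing_mul_prod_eq_zero IsPos isPos_prod)

noncomputable section

namespace Groth.Agent.Nakai

variable {X : Scheme.{u}}

/-- The first Chern class `[L] - 1`. -/
def cl {L : X.Modules} (hL : PicF.IsInvertible L) : PicRing X := MonoidAlgebra.of ℤ _ (inv' hL) - 1

theorem cl_eq_neg_dif {L : X.Modules} (hL : PicF.IsInvertible L) : cl hL = -dif hL := (neg_sub _ _).symm

/-- The ideal generated by the first Chern classes. -/
def Aug (X : Scheme.{u}) : Ideal (PicRing X) :=
  Ideal.span (Set.range fun M : {M : X.Modules // PicF.IsInvertible M} => cl M.2)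

theorem cl_mem {L : X.Modules} (hL : PicF.IsInvertible L) : cl hL ∈ Aug X := Ideal.subset_span ⟨⟨L, hL⟩, rfl⟩

theorem cl_congr {L M : X.Modules} (hL : PicF.IsInvertible L) (hM : PicF.IsInvertible M) (e : L ≅ M) :
    cl hL = cl hM := by
  rw [cl, cl, show inv' hL = inv' hM from Subtype.ext (mk_congr e)]

theorem cl_tensor {L M : X.Modules} (hL : PicF.IsInvertible L) (hM : PicF.IsInvertible M) :
    cl (AmpleLib.isInvertible_tensor hL hM) = cl hL + cl hM + cl hL * cl hM := by
  have e : inv' (AmpleLib.isInvertible_tensor hL hM) = inv' hL * inv' hM := Subtype.ext (mk_tensor L M)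
  rw [cl, cl, cl, e, map_mul]
  ring

theorem cl_tensorPow_sub_mem {L : X.Modules} (hL : PicF.IsInvertible L) (n : ℕ) :
    cl (AmpleLib.isInvertible_tensorPow hL n) - (n : PicRing X) * cl hL ∈ Aug X ^ 2 := by
  induction n with
  | zero =>
    have e : inv' (AmpleLib.isInvertible_tensorPow hL 0) = 1 := Subtype.ext rfl
    rw [cl, e, map_one, sub_self, Nat.cast_zero, zero_mul, sub_zero]
    exact Submodule.zero_mem _
  | succ n ih =>
    rw [show cl (AmpleLib.isInvertible_tensorPow hL (n + 1)) =
      cl (AmpleLib.isInvertible_tensor (AmpleLib.isInvertible_tensorPow hL n) hL) from rfl,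
      cl_tensor (AmpleLib.isInvertible_tensorPow hL n) hL]
    have h2 : cl (AmpleLib.isInvertible_tensorPow hL n) * cl hL ∈ Aug X ^ 2 := by
      rw [pow_two]; exact Ideal.mul_mem_mul (cl_mem _) (cl_mem _)
    convert Ideal.add_mem _ ih h2 using 1
    push_cast
    ring

variable (k : Type u) [Field k] [X.Over (Spec (CommRingCat.of k))] [IsProper (X ↘ Spec (CommRingCat.of k))]

/-- Elements of the `n`-th power of the augmentation ideal kill modules of dimension `< n`. -/
theorem pairing_eq_zero_of_mem : ∀ (n : ℕ) {z : PicRing X}, z ∈ Aug X ^ n → ∀ (r : ℕ) (M : Fin r → X.Modules)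
    (hM : ∀ i, PicF.IsInvertible (M i)) {F : X.Modules}, Coh.IsCoh F →
    topologicalKrullDim (CohB1.support F) < ((n + r : ℕ) : WithBot ℕ∞) →
    pairing k F (z * ∏ i, dif (hM i)) = 0 := by
  intro n
  induction n with
  | zero =>
    intro z _ r M hM F hF hd
    exact pairing_mul_prod_eq_zero k hF (by rwa [Nat.zero_add] at hd) M hM z
  | succ n ih =>
    intro z hz r M hM F hF hd
    rw [pow_succ] at hz
    refine Submodule.mul_induction_on hz (fun a ha b hb => ?_) (fun a b ha hb => by
      rw [add_mul, map_add, ha, hb, add_zero])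
    induction hb using Submodule.span_induction generalizing a with
    | mem b hb =>
      obtain ⟨⟨G, hG⟩, rfl⟩ := hb
      have hM' : ∀ i, PicF.IsInvertible (Fin.cons (α := fun _ => X.Modules) G M i) := fun i =>
        Fin.cases hG hM i
      have h := ih ha (r + 1) _ hM' hF (by rwa [show n + (r + 1) = n + 1 + r by omega])
      rw [Fin.prod_univ_succ] at h
      show pairing k F (a * cl hG * _) = 0
      rw [cl_eq_neg_dif, mul_neg, neg_mul, map_neg, mul_assoc]
      exact neg_eq_zero.2 h
    | zero => rw [mul_zero, zero_mul, map_zero]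
    | add b c _ _ hb hc => rw [mul_add, add_mul, map_add, hb a ha, hc a ha, add_zero]
    | smul w b _ hb =>
      rw [smul_eq_mul, ← mul_assoc, mul_comm a w]
      exact hb _ (Ideal.mul_mem_left _ w ha)

theorem pairing_mem_eq_zero {n : ℕ} {z : PicRing X} (hz : z ∈ Aug X ^ n) {F : X.Modules} (hF : Coh.IsCoh F)
    (hd : topologicalKrullDim (CohB1.support F) < (n : WithBot ℕ∞)) : pairing k F z = 0 := by
  simpa using pairing_eq_zero_of_mem k n hz 0 (fun _ => Coh.structureModule X)
    (fun _ => ParaFLib.isInvertible_structureModule) hF (by rwa [Nat.add_zero])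

/-- Congruent elements have the same pairing. -/
theorem pairing_congr {n : ℕ} {z w : PicRing X} (h : z - w ∈ Aug X ^ n) {F : X.Modules} (hF : Coh.IsCoh F)
    (hd : topologicalKrullDim (CohB1.support F) < (n : WithBot ℕ∞)) : pairing k F z = pairing k F w := by
  rw [← sub_eq_zero, ← map_sub]
  exact pairing_mem_eq_zero k h hF hd

omit k [Field k] [X.Over (Spec (CommRingCat.of k))] [IsProper (X ↘ Spec (CommRingCat.of k))] in
theorem pow_sub_pow_mem {u v : PicRing X} (hu : u ∈ Aug X) (hv : v ∈ Aug X) (h : u - v ∈ Aug X ^ 2) (n : ℕ) :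
    u ^ n - v ^ n ∈ Aug X ^ (n + 1) := by
  rcases n with _ | n
  · rw [pow_zero, pow_zero, sub_self]; exact Submodule.zero_mem _
  rw [← geom_sum₂_mul, show n + 1 + 1 = n + 2 from rfl, pow_add]
  refine Ideal.mul_mem_mul (Ideal.sum_mem _ fun i hi => ?_) h
  have hi' : i + (n + 1 - 1 - i) = n := by have := Finset.mem_range.1 hi; omega
  rw [← congrArg (Aug X ^ ·) hi', pow_add]
  exact Ideal.mul_mem_mul (Ideal.pow_mem_pow hu i) (Ideal.pow_mem_pow hv _)

/-- `(1 - [M])^n` against `([M] - 1)^n`. -/
theorem pairing_cl_pow_eq_coeff {F L : X.Modules} (hF : Coh.IsCoh F) (hL : PicF.IsInvertible L) {d : ℕ}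
    (hd : topologicalKrullDim (CohB1.support F) ≤ (d : WithBot ℕ∞)) (Q : Polynomial ℚ)
    (hQd : Q.degree < ((d + 1 : ℕ) : WithBot ℕ)) (hQ : ∀ m : ℕ, HilbLib.chi k L F m = Q.eval (m : ℚ)) :
    (pairing k F (cl hL ^ d) : ℚ) = (d.factorial : ℚ) * Q.coeff d := by
  haveI := EulerIneqLib.isNoetherian_proper (X := X) k
  obtain ⟨P, -, hP⟩ := HilbLib.snapper k d (fun _ => L) (fun _ => hL) F hF d hd
  rw [← coeff_eq_factorial k hF hL hd P hP Q hQd hQ,
    IntLib.coeff_eq_pairing k hF hd (fun _ : Fin d => L) (fun _ => hL) P hP, Finset.prod_const, Finset.card_univ,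
    Fintype.card_fin, cl_eq_neg_dif, neg_pow]
  rw [show ((-1 : PicRing X) ^ d * dif hL ^ d) = ((-1 : ℤ) ^ d) • dif hL ^ d by
    rw [zsmul_eq_mul]; push_cast; rfl, map_zsmul, smul_eq_mul]
  push_cast
  ring

omit k [Field k] [X.Over (Spec (CommRingCat.of k))] [IsProper (X ↘ Spec (CommRingCat.of k))] in
theorem cl_mul_inverse_mem {L M : X.Modules} (hL : PicF.IsInvertible L) (hM : PicF.IsInvertible M)
    (e : CohB1.tensorMod L M ≅ Coh.structureModule X) : cl hL - dif hM ∈ Aug X ^ 2 := by
  have h := cl_tensor hL hM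
  rw [show cl (AmpleLib.isInvertible_tensor hL hM) = 0 by
    rw [cl_congr _ ParaFLib.isInvertible_structureModule e, cl,
      show inv' (ParaFLib.isInvertible_structureModule (X := X)) = 1 from rfl, map_one, sub_self]] at h
  rw [show cl hL - dif hM = -(cl hL * cl hM) by rw [← neg_neg (dif hM), ← cl_eq_neg_dif]; linear_combination -h,
    pow_two]
  exact Ideal.neg_mem_iff _ |>.2 (Ideal.mul_mem_mul (cl_mem _) (cl_mem _))

/-- Powers of the class of an ample module are positive. -/
theorem isPos_cl_pow {H : X.Modules} (hH : CohB1.IsAmple H) (n : ℕ) : IsPos k n (cl hH.1 ^ n) := by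
  haveI := EulerIneqLib.isNoetherian_proper (X := X) k
  haveI := hH.2.1
  obtain ⟨M, hM, ⟨ι⟩⟩ := AmpleEmb.exists_isInverseOf hH.1
  have h := isPos_prod k n (fun _ => H) (fun _ => M) (fun _ => hH) (fun _ => hM) fun _ => ⟨ι⟩
  rw [Finset.prod_const, Finset.card_univ, Fintype.card_fin] at h
  intro F hF hd
  have hdm : dif hM ∈ Aug X := by
    rw [← neg_neg (dif hM), ← cl_eq_neg_dif]; exact Ideal.neg_mem_iff _ |>.2 (cl_mem _)
  rw [pairing_congr k (pow_sub_pow_mem (cl_mem _) hdm (cl_mul_inverse_mem hH.1 hM ι) n) hF hd]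
  exact h F hF hd

section Pull

variable {k}
variable {Z : Scheme.{u}} (i : Z ⟶ X)

/-- Inverse image of classes. -/
def pullRing : PicRing X →+* PicRing Z :=
  (MonoidAlgebra.lift ℤ (PicRing Z) (IntLib.Inv X)
    ((MonoidAlgebra.of ℤ (IntLib.Inv Z)).comp (((pullCls i).comp (IntLib.Inv X).subtype).codRestrict (IntLib.Inv Z) fun g => by
      obtain ⟨c, G, hG, rfl⟩ := g
      exact ⟨_, AmpleLib.isInvertible_pullback i hG, rfl⟩))).toRingHom

theorem pullRing_cl {L : X.Modules} (hL : PicF.IsInvertible L) :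
    pullRing i (cl hL) = cl (AmpleLib.isInvertible_pullback i hL) := by
  rw [cl, map_sub, map_one, cl]
  congr 1
  refine (MonoidAlgebra.lift_of _ _).trans ?_
  exact congrArg (MonoidAlgebra.of ℤ (IntLib.Inv Z)) (Subtype.ext (pullCls_mk i L))

variable (k) [Z.Over (Spec (CommRingCat.of k))] [IsProper (Z ↘ Spec (CommRingCat.of k))] [IsClosedImmersion i]

/-- Projection formula for pairings. -/
theorem pairing_push (hi : i ≫ (X ↘ Spec (CommRingCat.of k)) = Z ↘ Spec (CommRingCat.of k)) {M : Z.Modules}
    (hM : Coh.IsCoh M) (z : PicRing X) :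
    pairing k ((Scheme.Modules.pushforward i).obj M) z = pairing k M (pullRing i z) := by
  haveI := EulerIneqLib.isNoetherian_proper (X := X) k
  induction z using MonoidAlgebra.induction_on with
  | of g =>
    obtain ⟨c, G, hG, rfl⟩ := g
    have e : pullRing i (MonoidAlgebra.of ℤ (IntLib.Inv X) (inv' hG)) =
        MonoidAlgebra.of ℤ (IntLib.Inv Z) (inv' (AmpleLib.isInvertible_pullback i hG)) := by
      refine (MonoidAlgebra.lift_of _ _).trans ?_
      exact congrArg (MonoidAlgebra.of ℤ (IntLib.Inv Z)) (Subtype.ext (pullCls_mk i G))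
    show pairing k _ (MonoidAlgebra.of ℤ (IntLib.Inv X) (inv' hG)) = pairing k M (pullRing i (MonoidAlgebra.of ℤ (IntLib.Inv X) (inv' hG)))
    rw [e, pairing_of, pairing_of]
    exact IntLib.euler_push_tensor k hi hM hG
  | add a b ha hb => rw [map_add, map_add, map_add, ha, hb]
  | smul n a ha => rw [map_zsmul, map_zsmul, map_zsmul, ha]

end Pull

end Groth.Agent.Nakai
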