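import Groth.Agent.NakaiLib.Small

/-!
# Intersection numbers of powers on subschemes
-/

set_option autoImplicit false
set_option backward.isDefEq.respectTransparency false
set_option linter.style.haveILetI false

universe u

open CategoryTheory CategoryTheory.Limits AlgebraicGeometry TopologicalSpace
open Groth.Agent.PullbackMod Groth.Agent.DCohLib Groth.Agent.AmpleLib
open Groth.Agent.IntLib (PicRing pairing dif inv' compMod)

noncomputable section

namespace Groth.Agent.Nakai

variable {X : Scheme.{u}} (k : Type u) [Field k] [X.Over (Spec (CommRingCat.of k))]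
  [IsProper (X ↘ Spec (CommRingCat.of k))]

/-- The self-intersection on a coherent module as a pairing. -/
theorem intNum_pow_eq {n : ℕ} (hn : topologicalKrullDim X = (n : WithBot ℕ∞)) {L Linv : X.Modules}
    (hL : PicF.IsInvertible L) (hLinv : ClSub.IsInverseOf Linv L) {m : ℕ} {F : X.Modules} (hF : Coh.IsCoh F)
    (hd : topologicalKrullDim (CohB1.support F) < ((m + 1 : ℕ) : WithBot ℕ∞)) :
    FGA.intNum k X n (fun _ : Fin m => Linv) F = pairing k F (cl hL ^ m) := by
  haveI := EulerIneqLib.isNoetherian_proper (X := X) k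
  obtain ⟨ι⟩ := hLinv
  have hLi : PicF.IsInvertible Linv := AmpleLib.isInvertible_of_tensor_iso ι
  rw [IntLib.intNum_eq k hn.le _ _ fun _ => hLi, Finset.prod_const, Finset.card_univ, Fintype.card_fin]
  have hd' : dif hLi ∈ Aug X := by
    rw [← neg_neg (dif hLi), ← cl_eq_neg_dif]
    exact Ideal.neg_mem_iff _ |>.2 (cl_mem _)
  exact (pairing_congr k (pow_sub_pow_mem (cl_mem hL) hd' (cl_mul_inverse_mem hL hLi ((comm _ _) ≪≫ ι)) m) hF hd).symm

/-- Numerical triviality tested on integral subschemes gives it on the components. -/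
theorem pairing_compMod_eq_zero {n : ℕ} (hn : topologicalKrullDim X = (n : WithBot ℕ∞)) {L Linv : X.Modules}
    (hL : PicF.IsInvertible L) (hLinv : ClSub.IsInverseOf Linv L) {m : ℕ}
    (hm : ∀ (V : Scheme.{u}) (i : V ⟶ X) [IsClosedImmersion i], IsIntegral V → topologicalKrullDim V = (m : ℕ) →
      FGA.intNum k X n (fun _ : Fin m => Linv) ((Scheme.Modules.pushforward i).obj (Coh.structureModule V)) = 0)
    (ξ : X) (hξ : topologicalKrullDim (closure {ξ} : Set X) = (m : WithBot ℕ∞)) :
    pairing k (compMod ξ) (cl hL ^ m) = 0 := by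
  haveI := EulerIneqLib.isNoetherian_proper (X := X) k
  have hQ := IntLib.isPiece_compMod ξ
  let J := Scheme.IdealSheafData.vanishingIdeal (⟨closure {ξ}, isClosed_closure⟩ : Closeds X)
  haveI := CurveLib.isIntegral_vanishingIdeal (X := X) (C := closure {ξ}) isClosed_closure isIrreducible_singleton.closure
  rw [← intNum_pow_eq k hn hL hLinv hQ.coh (dim_supp_le hQ.supp (by rw [hξ]; exact_mod_cast Nat.lt_succ_self m))]
  exact hm J.subscheme J.subschemeι inferInstance ((dim_vanishing ξ).trans hξ)

end Groth.Agent.Nakai
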