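import Groth.Agent.NakaiLib.Good

/-!
# Stabilisation of the cohomology of twists on an integral scheme
-/

set_option autoImplicit false
set_option backward.isDefEq.respectTransparency false
set_option linter.style.haveILetI false

universe u

open CategoryTheory CategoryTheory.Limits AlgebraicGeometry TopologicalSpace Opposite Polynomial
open Groth.Agent.PullbackMod Groth.Agent.DCohLib Groth.Agent.DevLib Groth.Agent.QCohLib
open Groth.Agent.CurveLib (tmap tensR hMap)
open Groth.Agent.ParaFLib (oneG bijective_oneG)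
open scoped TensorProduct

noncomputable section

namespace Groth.Agent.Nakai

variable (k : Type u) [Field k] {X : Scheme.{u}} [X.Over (Spec (CommRingCat.of k))]
  [IsProper (X ↘ Spec (CommRingCat.of k))]

/-- The leading coefficient of the Euler characteristics of the powers is positive in positive dimension. -/
def TopPos (X : Scheme.{u}) [X.Over (Spec (CommRingCat.of k))] [IsProper (X ↘ Spec (CommRingCat.of k))]
    (L : X.Modules) : Prop :=
  ∀ d : ℕ, 0 < d → topologicalKrullDim X = d →
    ∀ P : ℚ[X], (∀ m : ℕ, HilbLib.chi k L (Coh.structureModule X) m = P.eval (m : ℚ)) → 0 < P.coeff d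

/-- Degree `p + 1` does not see a third term without cohomology in degrees `p`, `p + 1`. -/
theorem finrank_eq_of_right {S : ShortComplex X.Modules} (hS : S.ShortExact) (p : ℕ)
    (h : Subsingleton (Coh.HH X S.X₃ p)) (h' : Subsingleton (Coh.HH X S.X₃ (p + 1))) :
    Module.finrank k (Coh.HH X S.X₁ (p + 1)) = Module.finrank k (Coh.HH X S.X₂ (p + 1)) := by
  refine (LinearEquiv.ofBijective (hMap (k := k) S.f (p + 1)) ⟨?_, fun y => ?_⟩).finrank_eq
  · rw [← LinearMap.ker_eq_bot, ← CurveLib.range_hδ (k := k) hS p, LinearMap.range_eq_bot]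
    exact LinearMap.ext fun z => by rw [Subsingleton.elim z 0, map_zero]; rfl
  · exact (CurveLib.range_hMap_f (k := k) hS (p + 1)).ge
      (LinearMap.mem_ker.2 (Subsingleton.elim (α := Coh.HH X S.X₃ (p + 1)) _ _))

/-- The first cohomology decreases along a third term without first cohomology. -/
theorem surjective_hMap_f_one {S : ShortComplex X.Modules} (hS : S.ShortExact)
    (h : Subsingleton (Coh.HH X S.X₃ 1)) : Function.Surjective (hMap (k := k) S.f 1) :=
  fun _ => (CurveLib.range_hMap_f (k := k) hS 1).ge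
    (LinearMap.mem_ker.2 (Subsingleton.elim (α := Coh.HH X S.X₃ 1) _ _))

/-- Sections of the third term lift when the first cohomology does not drop. -/
theorem surjective_hMap_g_zero {S : ShortComplex X.Modules} (hS : S.ShortExact) (h1 : Coh.IsCoh S.X₁)
    (h2 : Coh.IsCoh S.X₂) (h : Subsingleton (Coh.HH X S.X₃ 1))
    (he : Module.finrank k (Coh.HH X S.X₁ 1) = Module.finrank k (Coh.HH X S.X₂ 1)) :
    Function.Surjective (hMap (k := k) S.g 0) := by
  haveI := EulerIneqLib.isNoetherian_proper (X := X) k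
  haveI := EulerIneqLib.finite_HH (k := k) h1 1
  haveI := EulerIneqLib.finite_HH (k := k) h2 1
  have hinj : Function.Injective (hMap (k := k) S.f 1) :=
    (LinearMap.injective_iff_surjective_of_finrank_eq_finrank he).2 (surjective_hMap_f_one k hS h)
  intro y
  refine (CurveLib.range_hMap_g (k := k) hS 0).ge (LinearMap.mem_ker.2 (hinj ?_))
  rw [map_zero]
  exact LinearMap.mem_ker.1 ((CurveLib.range_hδ (k := k) hS 0).le ⟨y, rfl⟩)

variable [IsIntegral X] {L : X.Modules}

theorem stalk_equiv_of_invertible (hL : PicF.IsInvertible L) :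
    Nonempty ((Coh.structureModule X).presheaf.stalk (genericPoint X) ≃ₗ[X.presheaf.stalk (genericPoint X)]
      L.presheaf.stalk (genericPoint X)) := by
  obtain ⟨e, he⟩ := ParaFLib.exists_stalk_gen hL (genericPoint X)
  exact ⟨(LinearEquiv.ofBijective (LinearMap.toSpanSingleton _ _ (oneG (genericPoint X))) (bijective_oneG _)).symm.trans
    (LinearEquiv.ofBijective (LinearMap.toSpanSingleton _ _ e) he)⟩

/-- An ideal mapping into an invertible module, with small cokernels. -/
theorem exists_common_ideal [IsLocallyNoetherian X] (hL : PicF.IsInvertible L) :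
    ∃ (H : X.Modules) (p : H ⟶ Coh.structureModule X) (q : H ⟶ L), Coh.IsCoh H ∧ Mono p ∧ Mono q ∧
      genericPoint X ∉ CohB1.support (cokernel p) ∧ genericPoint X ∉ CohB1.support (cokernel q) := by
  have hO : PicF.IsInvertible (Coh.structureModule X) := ParaFLib.isInvertible_structureModule
  obtain ⟨θ⟩ := stalk_equiv_of_invertible hL
  obtain ⟨H, p, q, hH, hp, hq, hps, hqs⟩ := exists_common' (CurveLib.isCoh_of_isInvertible hO)
    (CurveLib.isCoh_of_isInvertible hL)
    (fun V s hs => by
      by_cases hη : genericPoint X ∈ V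
      · exact ParaFLib.eq_zero_of_germ_generic hO s fun _ => hs hη
      · exact ParaFLib.eq_zero_of_germ_generic hO s fun h => absurd h hη)
    (fun V s hs => ParaFLib.eq_zero_of_germ_generic hL s hs)
    (fun a ha z => by
      have : a = 0 := by
        by_contra hne
        exact ha ((Ne.isUnit hne : IsUnit (a : X.functionField)))
      rw [this, zero_smul]) θ
  exact ⟨H, p, q, hH, hp, hq, notMem_support_coker p hps, notMem_support_coker q hqs⟩

/-- Above degree one the cohomology of the powers stabilises. -/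
theorem exists_const_high (hL : PicF.IsInvertible L)
    (hsmall : ∀ F : X.Modules, Coh.IsCoh F → genericPoint X ∉ CohB1.support F → Good L F) :
    ∃ n₀ : ℕ, ∀ n, n₀ ≤ n → ∀ p : ℕ, 2 ≤ p →
      Module.finrank k (Coh.HH X (CohB1.tensorPow L n) p) = Module.finrank k (Coh.HH X (CohB1.tensorPow L n₀) p) := by
  haveI := EulerIneqLib.isNoetherian_proper (X := X) k
  obtain ⟨H, p, q, hH, hp, hq, hps, hqs⟩ := exists_common_ideal hL
  obtain ⟨a, ha⟩ := hsmall _ (isCoh_kernel_cokernel p hH
    (CurveLib.isCoh_of_isInvertible ParaFLib.isInvertible_structureModule)).2 hps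
  obtain ⟨b, hb⟩ := hsmall _ (isCoh_kernel_cokernel q hH (CurveLib.isCoh_of_isInvertible hL)).2 hqs
  refine ⟨max a b, fun n hn r hr => ?_⟩
  induction n, hn using Nat.le_induction with
  | base => rfl
  | succ n hn ih =>
    obtain ⟨r, rfl⟩ : ∃ s, r = s + 1 := ⟨r - 1, by omega⟩
    have hN := CurveLib.freeAt_one_of_isInvertible (AmpleLib.isInvertible_tensorPow hL n)
    have e1 := finrank_eq_of_right k (CurveLib.shortExact_tensR (cokerSeq_shortExact p) hN) r
      (ha n (by omega) r (by omega)) (ha n (by omega) (r + 1) (by omega))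
    have e2 := finrank_eq_of_right k (CurveLib.shortExact_tensR (cokerSeq_shortExact q) hN) r
      (hb n (by omega) r (by omega)) (hb n (by omega) (r + 1) (by omega))
    rw [← ih]
    exact (CurveLib.hMap_bijective_finrank (k := k) (AmpleLib.comm L (CohB1.tensorPow L n)) (r + 1)).symm.trans
      ((e2.symm.trans e1).trans (CurveLib.hMap_bijective_finrank (k := k) (AmpleLib.unitL _) (r + 1)))

/-- Some positive power has a nonzero section. -/
theorem exists_section_of_topPos (hL : PicF.IsInvertible L) {d : ℕ} (hd0 : 0 < d)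
    (hd : topologicalKrullDim X = d) (hpos : TopPos k X L)
    (hsmall : ∀ F : X.Modules, Coh.IsCoh F → genericPoint X ∉ CohB1.support F → Good L F) :
    ∃ j : ℕ, ∃ s : Coh.structureModule X ⟶ CohB1.tensorPow L (j + 1), s ≠ 0 := by
  haveI := EulerIneqLib.isNoetherian_proper (X := X) k
  have hO := CurveLib.isCoh_of_isInvertible (ParaFLib.isInvertible_structureModule (X := X))
  have hdim : topologicalKrullDim (CohB1.support (Coh.structureModule X)) < ((d + 1 : ℕ) : WithBot ℕ∞) := by
    refine lt_of_le_of_lt (Topology.IsInducing.subtypeVal.topologicalKrullDim_le.trans hd.le) ?_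
    exact_mod_cast Nat.lt_succ_self d
  obtain ⟨P, hP, hPe⟩ := HilbLib.exists_poly k hL (d + 1) _ hO hdim
  have hc := hpos d hd0 hd P hPe
  have hnat : P.natDegree = d := le_antisymm (by
      rcases eq_or_ne P 0 with rfl | hP0
      · simp
      · rw [degree_eq_natDegree hP0] at hP
        have : P.natDegree < d + 1 := by exact_mod_cast hP
        omega) (le_natDegree_of_ne_zero hc.ne')
  have htend := (tendsto_atTop_of_leadingCoeff_nonneg P (natDegree_pos_iff_degree_pos.1 (by rw [hnat]; exact hd0))
    (by rw [leadingCoeff, hnat]; exact hc.le)).comp tendsto_natCast_atTop_atTop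
  obtain ⟨n₀, hn₀⟩ := exists_const_high k hL hsmall
  obtain ⟨N, hN⟩ := CurveLib.exists_bound (X := X) k
  let h : ℕ → ℕ → ℕ := fun m i => Module.finrank k (Coh.HH X (CohB1.tensorPow L m) i)
  obtain ⟨B, hB⟩ : ∃ B : ℕ, B = ∑ i ∈ Finset.range (N + 2), h n₀ i := ⟨_, rfl⟩
  obtain ⟨m, hm, hm1⟩ := ((Filter.eventually_ge_atTop (max n₀ 1)).and
    (htend.eventually_gt_atTop (B : ℚ))).exists
  obtain ⟨j, rfl⟩ : ∃ j, m = j + 1 := ⟨m - 1, by omega⟩
  refine ⟨j, ?_⟩
  have hM := CurveLib.isCoh_of_isInvertible (AmpleLib.isInvertible_tensorPow hL (j + 1))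
  have hχ : Curv2.euler k X (CohB1.tensorPow L (j + 1)) ≤ (h (j + 1) 0 : ℤ) + B := by
    haveI := hM.1
    rw [CurveLib.euler_eq_sum (K := k) (CohB1.tensorPow L (j + 1)) (N + 2) (fun p hp => hN _ hM.1 p (by omega)), hB,
      Finset.sum_range_succ', Finset.sum_range_succ', Finset.sum_range_succ' (n := N + 1),
      Finset.sum_range_succ' (n := N)]
    push_cast
    have hterm : ∀ i, (-1 : ℤ) ^ (i + 1 + 1) * (h (j + 1) (i + 1 + 1) : ℤ) ≤ (h n₀ (i + 1 + 1) : ℤ) := fun i => by
      have e : h (j + 1) (i + 1 + 1) = h n₀ (i + 1 + 1) := hn₀ (j + 1) (by omega) _ (by omega)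
      rw [e]
      rcases neg_one_pow_eq_or ℤ (i + 1 + 1) with h' | h' <;> rw [h'] <;> omega
    have := Finset.sum_le_sum (s := Finset.range N) fun i _ => hterm i
    simp only [h] at this ⊢
    simp only [pow_zero, zero_add, pow_one, one_mul]
    omega
  have hlt : (B : ℤ) < Curv2.euler k X (CohB1.tensorPow L (j + 1)) := by
    have e : (Curv2.euler k X (CohB1.tensorPow L (j + 1)) : ℚ) = P.eval ((j + 1 : ℕ) : ℚ) := by
      rw [← hPe]
      exact congrArg (fun z : ℤ => (z : ℚ)) (CurveLib.euler_iso (K := k) (AmpleLib.unitL _).symm)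
    have : (B : ℚ) < (Curv2.euler k X (CohB1.tensorPow L (j + 1)) : ℚ) := e ▸ hm1
    exact_mod_cast this
  haveI : Nontrivial (Coh.HH X (CohB1.tensorPow L (j + 1)) 0) :=
    Module.nontrivial_of_finrank_pos (R := k) (by show 0 < h (j + 1) 0; omega)
  obtain ⟨c, hc'⟩ := exists_ne (0 : Coh.HH X (CohB1.tensorPow L (j + 1)) 0)
  exact ⟨_, CurveLib.secHom_secOf_ne_zero _ hc'⟩

end Groth.Agent.Nakai
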