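import Groth.Agent.NakaiLib.BigApps

/-!
# Intersection numbers on surfaces
-/

set_option autoImplicit false
set_option backward.isDefEq.respectTransparency false
set_option linter.style.haveILetI false

universe u

open CategoryTheory CategoryTheory.Limits AlgebraicGeometry TopologicalSpace Opposite
open Groth.Agent.PullbackMod Groth.Agent.DCohLib Groth.Agent.AmpleLib
open Groth.Agent.IntLib (PicRing pairing dif inv')

noncomputable section

namespace Groth.Agent.Nakai

variable {X : Scheme.{u}} (k : Type u) [Field k] [X.Over (Spec (CommRingCat.of k))]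
  [IsProper (X ↘ Spec (CommRingCat.of k))]

/-- The intersection number of two modules as a pairing. -/
theorem intNum_two_eq (hdim : topologicalKrullDim X = 2) {L M L' M' : X.Modules} (hL : PicF.IsInvertible L)
    (hM : PicF.IsInvertible M) (eL : CohB1.tensorMod L L' ≅ Coh.structureModule X)
    (eM : CohB1.tensorMod M M' ≅ Coh.structureModule X) :
    FGA.intNum k X 2 ![L', M'] (Coh.structureModule X) = pairing k (Coh.structureModule X) (cl hL * cl hM) := by
  haveI := EulerIneqLib.isNoetherian_proper (X := X) k
  have h1 : PicF.IsInvertible L' := isInvertible_of_tensor_iso (comm L' L ≪≫ eL)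
  have h2 : PicF.IsInvertible M' := isInvertible_of_tensor_iso (comm M' M ≪≫ eM)
  rw [IntLib.intNum_eq k hdim.le _ ![L', M'] (fun i => by fin_cases i <;> assumption), Fin.prod_univ_two]
  refine (pairing_congr k (n := 3) ?_ (DevLib.isCoh_structureModule X) ?_).symm
  · show cl hL * cl hM - dif h1 * dif h2 ∈ Aug X ^ (2 + 1)
    rw [show cl hL * cl hM - dif h1 * dif h2 = (cl hL - dif h1) * cl hM + (cl hM - dif h2) * dif h1 by ring,
      pow_succ]
    refine Ideal.add_mem _ (Ideal.mul_mem_mul (cl_mul_inverse_mem hL h1 eL) (cl_mem _))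
      (Ideal.mul_mem_mul (cl_mul_inverse_mem hM h2 eM) ?_)
    rw [← neg_neg (dif h1), ← cl_eq_neg_dif]
    exact Ideal.neg_mem_iff _ |>.2 (cl_mem _)
  · exact lt_of_le_of_lt (Topology.IsInducing.subtypeVal.topologicalKrullDim_le.trans hdim.le)
      (by exact_mod_cast Nat.lt_succ_self 2)

variable [IsIntegral X]

/-- A module with a section and positive square is positive on ample modules. -/
theorem pairing_ample_pos_of_section (hdim : topologicalKrullDim X = 2) {N H : X.Modules} (hN : PicF.IsInvertible N)
    (hH : CohB1.IsAmple H) {n : ℕ} (hn : 0 < n) (hs : VolLib.h k (CohB1.tensorPow N n) ≠ 0)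
    (hpos : 0 < pairing k (Coh.structureModule X) (cl hN * cl hN)) :
    0 < pairing k (Coh.structureModule X) (cl hN * cl hH.1) := by
  haveI := EulerIneqLib.isNoetherian_proper (X := X) k
  have hP := isInvertible_tensorPow hN n
  haveI : Nontrivial (Coh.HH X (CohB1.tensorPow N n) 0) :=
    Module.nontrivial_of_finrank_pos (R := k) (Nat.pos_of_ne_zero hs)
  obtain ⟨c, hc⟩ := exists_ne (0 : Coh.HH X (CohB1.tensorPow N n) 0)
  have hne := CurveLib.secHom_secOf_ne_zero _ hc
  generalize DCohLib.secHom _ (CurveLib.secOf _ c) = t at hne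
  haveI := CurveLib.mono_of_ne_zero ParaFLib.isInvertible_structureModule hP hne
  have hO := DevLib.isCoh_structureModule X
  have hC : Coh.IsCoh (cokernel t) := (QCohLib.isCoh_kernel_cokernel t hO (CurveLib.isCoh_of_isInvertible hP)).2
  have hdC : topologicalKrullDim (CohB1.support (cokernel t)) < ((1 + 1 : ℕ) : WithBot ℕ∞) :=
    VanGrow.dim_support_lt (by exact_mod_cast hdim) (DevLib.isClosed_support hC)
      (CurveLib.genericPoint_notMem_support ParaFLib.isInvertible_structureModule hP hne)
  have hdO : topologicalKrullDim (CohB1.support (Coh.structureModule X)) < ((3 : ℕ) : WithBot ℕ∞) :=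
    lt_of_le_of_lt (Topology.IsInducing.subtypeVal.topologicalKrullDim_le.trans hdim.le)
      (by exact_mod_cast Nat.lt_succ_self 2)
  have key : ∀ z ∈ Aug X, pairing k (cokernel t) z = (n : ℤ) * pairing k (Coh.structureModule X) (cl hN * z) := by
    intro z hz
    rw [pairing_coker_section k hP t z]
    refine (pairing_congr k (n := 3) (w := (n : ℤ) • (cl hN * z)) ?_ hO hdO).trans
      ((map_zsmul _ _ _).trans (smul_eq_mul _ _))
    rw [show cl hP * z - (n : ℤ) • (cl hN * z) = (cl hP - (n : PicRing X) * cl hN) * z by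
      rw [zsmul_eq_mul, Int.cast_natCast]; ring, show (3 : ℕ) = 2 + 1 from rfl, pow_succ]
    exact Ideal.mul_mem_mul (cl_tensorPow_sub_mem hN n) hz
  have h1 := isPos_cl_pow k hH 1 _ hC hdC
  rw [pow_one, key _ (cl_mem _)] at h1
  have hn' : (0 : ℤ) < n := by exact_mod_cast hn
  rcases (nonneg_of_mul_nonneg_right h1.1 hn').lt_or_eq with h | h
  · exact h
  · exfalso
    have hlt : topologicalKrullDim (CohB1.support (cokernel t)) < ((1 : ℕ) : WithBot ℕ∞) := by
      by_contra hcon
      have := h1.2 ((HilbLib.not_dim_lt_iff (DevLib.isClosed_support hC) 1).1 hcon)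
      rw [← h, mul_zero] at this
      exact lt_irrefl _ this
    have h0 := pairing_mem_eq_zero k (n := 1) (by rw [pow_one]; exact cl_mem hN) hC hlt
    rw [key _ (cl_mem _)] at h0
    exact (mul_pos hn' hpos).ne' h0

end Groth.Agent.Nakai
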